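import Mathlib

/-!
Products of polynomial matrices whose top coefficients have rank one, and the roots bound: the
tool that shows that a non-trivial word is not a law of a large matrix group.
-/

set_option autoImplicit false

namespace Cfsg.Agent.H53

open Polynomial Matrix

variable {n : Type*} [Fintype n] [DecidableEq n] {F : Type*} [Field F]

/-- All entries have degree at most `d`. -/
def DegLE (d : ℕ) (A : Matrix n n F[X]) : Prop := ∀ i j, (A i j).natDegree ≤ d

/-- The matrix of coefficients of `X ^ d`. -/
noncomputable def coeffMat (d : ℕ) (A : Matrix n n F[X]) : Matrix n n F := A.map (fun p => p.coeff d)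

theorem degLE_one : DegLE 0 (1 : Matrix n n F[X]) := by
  intro i j
  rcases eq_or_ne i j with rfl | h <;> simp [*]

theorem DegLE.mul {a b : ℕ} {A B : Matrix n n F[X]} (hA : DegLE a A) (hB : DegLE b B) :
    DegLE (a + b) (A * B) := fun i j => by
  rw [Matrix.mul_apply]
  exact natDegree_sum_le_of_forall_le _ _ fun k _ => natDegree_mul_le_of_le (hA i k) (hB k j)

theorem coeffMat_mul {a b : ℕ} {A B : Matrix n n F[X]} (hA : DegLE a A) (hB : DegLE b B) :
    coeffMat (a + b) (A * B) = coeffMat a A * coeffMat b B := by
  ext i j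
  simp only [coeffMat, Matrix.map_apply, Matrix.mul_apply, finset_sum_coeff]
  exact Finset.sum_congr rfl fun k _ => coeff_mul_add_eq_of_natDegree_le (hA i k) (hB k j)

/-- A product along a list of factors of degree `d` with rank-one top coefficient `u ⊗ v`, each
`v` non-orthogonal to the next `u`, has non-zero top coefficient. -/
theorem prod_top {ι : Type*} (R : ι → ι → Prop) (A : ι → Matrix n n F[X]) (u v : ι → n → F)
    (d : ℕ) (hdeg : ∀ x, DegLE d (A x)) (htop : ∀ x, coeffMat d (A x) = vecMulVec (u x) (v x))
    (hR : ∀ x y, R x y → v x ⬝ᵥ u y ≠ 0) :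
    ∀ (x : ι) (L : List ι), List.IsChain R (x :: L) →
      DegLE (d * (L.length + 1)) ((x :: L).map A).prod ∧
      ∃ (c : F) (z : ι), c ≠ 0 ∧ z ∈ x :: L ∧
        coeffMat (d * (L.length + 1)) ((x :: L).map A).prod = c • vecMulVec (u x) (v z) := by
  intro x L
  induction L generalizing x with
  | nil =>
    intro _
    refine ⟨by simpa using hdeg x, 1, x, one_ne_zero, List.mem_singleton_self _, ?_⟩
    simp [htop]
  | cons y L ih =>
    intro hc
    rw [List.isChain_cons_cons] at hc
    obtain ⟨h1, c, z, hc0, hz, h2⟩ := ih y hc.2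
    have e : d * ((y :: L).length + 1) = d + d * (L.length + 1) := by
      rw [List.length_cons]; ring
    rw [e, List.map_cons, List.prod_cons]
    refine ⟨(hdeg x).mul h1, c * (v x ⬝ᵥ u y), z, mul_ne_zero hc0 (hR x y hc.1),
      List.mem_cons_of_mem _ hz, ?_⟩
    rw [coeffMat_mul (hdeg x) h1, htop, h2, Matrix.mul_smul, vecMulVec_mul_vecMulVec,
      vecMulVec_smul, smul_smul]

/-- In the situation of `prod_top`, few parameters `t` make the product a monomial multiple of the
identity. -/
theorem exists_eval_ne {ι : Type*} (R : ι → ι → Prop) (A : ι → Matrix n n F[X]) (u v : ι → n → F)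
    (d e : ℕ) (hed : e < d) (hdeg : ∀ x, DegLE d (A x))
    (htop : ∀ x, coeffMat d (A x) = vecMulVec (u x) (v x))
    (hR : ∀ x y, R x y → v x ⬝ᵥ u y ≠ 0) (hu : ∀ x, u x ≠ 0) (hv : ∀ x, v x ≠ 0)
    (L : List ι) (hL : List.IsChain R L) (hne : L ≠ []) (T : Finset F) (hT : d * L.length < T.card) :
    ∃ t ∈ T, ((L.map A).prod).map (Polynomial.evalRingHom t) ≠
      t ^ (e * L.length) • (1 : Matrix n n F) := by
  cases L with
  | nil => exact absurd rfl hne
  | cons x L =>
    obtain ⟨h1, c, z, hc0, hz, h2⟩ := prod_top R A u v d hdeg htop hR x L hL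
    obtain ⟨i, hi⟩ := Function.ne_iff.mp (hu x)
    obtain ⟨j, hj⟩ := Function.ne_iff.mp (hv z)
    set P := ((x :: L).map A).prod with hP
    set p : F[X] := P i j - (if i = j then X ^ (e * (x :: L).length) else 0) with hp
    have hlt : e * (x :: L).length < d * (x :: L).length :=
      Nat.mul_lt_mul_of_lt_of_le hed le_rfl (by simp)
    have hcoef : p.coeff (d * (x :: L).length) ≠ 0 := by
      have h3 := congrFun (congrFun h2 i) j
      simp only [coeffMat, Matrix.map_apply, Matrix.smul_apply, vecMulVec_apply, smul_eq_mul] at h3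
      have h4 : (if i = j then (X : F[X]) ^ (e * (x :: L).length) else 0).coeff
          (d * (x :: L).length) = 0 := by
        split_ifs
        · rw [coeff_X_pow, if_neg hlt.ne']
        · simp
      rw [hp, coeff_sub, h4, sub_zero, List.length_cons, h3]
      exact mul_ne_zero hc0 (mul_ne_zero hi hj)
    have hdp : p.natDegree ≤ d * (x :: L).length := by
      refine (natDegree_sub_le _ _).trans (max_le (by rw [List.length_cons]; exact h1 i j) ?_)
      split_ifs
      · simpa using hlt.le
      · simp
    by_contra hall
    push Not at hall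
    have : p = 0 := by
      refine eq_zero_of_natDegree_lt_card_of_eval_eq_zero' p T (fun t ht => ?_) (by omega)
      have h5 := congrFun (congrFun (hall t ht) i) j
      simp only [Matrix.map_apply, coe_evalRingHom, Matrix.smul_apply, Matrix.one_apply,
        smul_eq_mul] at h5
      rw [hp, eval_sub, h5]
      split_ifs <;> simp
    exact hcoef (by simp [this])

end Cfsg.Agent.H53
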