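import Mathlib

/-!
Words (laws) in free groups: the fresh-letter commutator trick, substitutions into permutation
groups, and transport of laws along homomorphisms and central quotients.
-/

set_option autoImplicit false

namespace Cfsg.Agent.H53

open FreeGroup

/-- `w` is a law of `G`: it is sent to `1` by every substitution. -/
def IsLaw {α : Type*} (w : FreeGroup α) (G : Type*) [Group G] : Prop :=
  ∀ f : α → G, FreeGroup.lift f w = 1

theorem lift_comp_hom {α G H : Type*} [Group G] [Group H] (φ : G →* H) (f : α → G)
    (w : FreeGroup α) : φ (FreeGroup.lift f w) = FreeGroup.lift (φ ∘ f) w := by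
  have : φ.comp (FreeGroup.lift f) = FreeGroup.lift (φ ∘ f) := by
    apply FreeGroup.ext_hom
    intro a
    simp
  exact DFunLike.congr_fun this w

theorem IsLaw.of_injective {α G H : Type*} [Group G] [Group H] {w : FreeGroup α}
    (h : IsLaw w H) (φ : G →* H) (hφ : Function.Injective φ) : IsLaw w G := fun f =>
  hφ (by rw [lift_comp_hom, h, _root_.map_one])

/-- For a word `w` in countably many letters, `w⁺ = [w, x_N]` with a letter `x_N` not in `w`. -/
theorem exists_fresh_comm (w : FreeGroup ℕ) (hw : w ≠ 1) :
    ∃ N : ℕ, w * FreeGroup.of N * w⁻¹ * (FreeGroup.of N)⁻¹ ≠ 1 := by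
  classical
  obtain ⟨N, hN⟩ := Infinite.exists_notMem_finset (w.toWord.map Prod.fst).toFinset
  refine ⟨N, fun h => hw ?_⟩
  have hc : w * FreeGroup.of N = FreeGroup.of N * w := by
    rwa [mul_inv_eq_one, mul_inv_eq_iff_eq_mul] at h
  have hne : ∀ x ∈ w.toWord, x.1 ≠ N := by
    intro x hx e
    apply hN
    rw [List.mem_toFinset, List.mem_map]
    exact ⟨x, hx, e⟩
  by_contra hw1
  have hne' : w.toWord ≠ [] := fun e => hw1 (toWord_eq_nil_iff.mp e)
  have r1 : IsReduced (w.toWord ++ [(N, true)]) := by
    refine List.IsChain.append isReduced_toWord IsReduced.singleton ?_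
    intro x hx y hy e
    simp only [List.head?_cons, Option.mem_def, Option.some.injEq] at hy
    subst hy
    exact absurd e (hne x (List.mem_of_getLast? hx))
  have r2 : IsReduced ([(N, true)] ++ w.toWord) := by
    refine List.IsChain.append IsReduced.singleton isReduced_toWord ?_
    intro x hx y hy e
    simp only [List.getLast?_singleton, Option.mem_def, Option.some.injEq] at hx
    subst hx
    exact absurd e.symm (hne y (List.mem_of_head? hy))
  have := congrArg toWord hc
  rw [toWord_mul, toWord_mul, toWord_of, r1.reduce_eq, r2.reduce_eq] at this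
  cases hl : w.toWord with
  | nil => exact hne' hl
  | cons a l =>
    rw [hl] at this
    simp only [List.cons_append, List.nil_append] at this
    have ha : a = (N, true) := (List.cons.inj this).1
    exact hne a (by rw [hl]; exact List.mem_cons_self ..) (by rw [ha])

/-- A law of a central quotient gives a law of the group: the fresh commutator. -/
theorem isLaw_comm_of_quotient_center {H : Type*} [Group H] (Z : Subgroup H) [Z.Normal]
    (hZ : Z ≤ Subgroup.center H) {w : FreeGroup ℕ} (h : IsLaw w (H ⧸ Z)) (N : ℕ) :
    IsLaw (w * FreeGroup.of N * w⁻¹ * (FreeGroup.of N)⁻¹) H := by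
  intro f
  have h1 : FreeGroup.lift f w ∈ Z := by
    rw [← QuotientGroup.eq_one_iff]
    have := lift_comp_hom (QuotientGroup.mk' Z) f w
    rw [QuotientGroup.mk'_apply] at this
    rw [this]
    exact h _
  have h2 := Subgroup.mem_center_iff.mp (hZ h1) (f N)
  simp only [_root_.map_mul, _root_.map_inv, FreeGroup.lift_apply_of]
  rw [← h2]
  group

theorem exists_perm_extending {ι β : Type*} [Finite β] (f g : ι → β) (hf : Function.Injective f)
    (hg : Function.Injective g) : ∃ σ : Equiv.Perm β, ∀ a, σ (f a) = g a := by
  classical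
  refine ⟨((Equiv.ofInjective f hf).symm.trans (Equiv.ofInjective g hg)).extendSubtype, fun a => ?_⟩
  rw [Equiv.extendSubtype_apply_of_mem _ _ ⟨a, rfl⟩]
  simp

/-- Substitutions into symmetric groups detect every non-trivial word. -/
theorem exists_perm_lift_ne_one {α : Type*} (w : FreeGroup α) (hw : w ≠ 1) :
    ∃ (n : ℕ) (f : α → Equiv.Perm (Fin n)), FreeGroup.lift f w ≠ 1 := by
  classical
  set L := w.toWord with hL
  have hred : IsReduced L := isReduced_toWord
  set k := L.length with hk
  have hadj : ∀ (i j : Fin k), i.val + 1 = j.val → (L.get i).1 = (L.get j).1 →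
      (L.get i).2 = (L.get j).2 := by
    intro i j hij h
    have h1 := List.IsChain.getElem hred i.val (by omega)
    have : L.get j = L[i.val + 1]'(by omega) := by simp [hij]
    rw [this] at h ⊢
    exact h1 h
  have hσ : ∀ a : α, ∃ σ : Equiv.Perm (Fin (k + 1)), ∀ i : {i : Fin k // (L.get i).1 = a},
      σ (bif (L.get i.1).2 then i.1.succ else i.1.castSucc) =
        (bif (L.get i.1).2 then i.1.castSucc else i.1.succ) := by
    intro a
    refine exists_perm_extending _ _ ?_ ?_ <;>
    · rintro ⟨i, hi⟩ ⟨j, hj⟩ h
      simp only at h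
      apply Subtype.ext
      show i = j
      have := hadj i j
      have := hadj j i
      cases hbi : (L.get i).2 <;> cases hbj : (L.get j).2 <;>
        simp only [hbi, hbj, cond_true, cond_false, Fin.ext_iff, Fin.val_succ,
          Fin.val_castSucc] at h ⊢ <;>
        simp_all <;> omega
  choose σ hσ using hσ
  refine ⟨k + 1, σ, ?_⟩
  have hsuffix : ∀ (j : ℕ) (hj : j ≤ k),
      ((L.drop (k - j)).map fun x => cond x.2 (σ x.1) (σ x.1)⁻¹).prod (Fin.last k)
        = ⟨k - j, by omega⟩ := by
    intro j
    induction j with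
    | zero =>
      intro _
      simp [hk, Fin.last]
    | succ j ih =>
      intro hj
      have h1 : k - (j + 1) < L.length := by omega
      rw [List.drop_eq_getElem_cons h1, List.map_cons, List.prod_cons, Equiv.Perm.mul_apply]
      have h2 : k - (j + 1) + 1 = k - j := by omega
      rw [h2, ih (by omega)]
      have h3 := hσ (L[k - (j+1)]).1 ⟨⟨k - (j+1), h1⟩, rfl⟩
      simp only [List.get_eq_getElem] at h3
      cases hb : (L[k - (j+1)]).2
      · simp only [hb, cond_false] at h3 ⊢
        rw [Equiv.Perm.inv_def, Equiv.symm_apply_eq]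
        refine Eq.trans ?_ h3.symm
        exact Fin.ext (by simp; omega)
      · simp only [hb, cond_true] at h3 ⊢
        exact Eq.trans (congrArg _ (Fin.ext (by simp; omega))) h3
  intro h
  have h1 : FreeGroup.lift σ (FreeGroup.mk L) = 1 := by rw [hL, mk_toWord]; exact h
  rw [lift_mk] at h1
  have h2 := hsuffix k le_rfl
  simp only [Nat.sub_self, List.drop_zero] at h2
  rw [h1] at h2
  have hk0 : k = 0 := by simpa [Fin.ext_iff] using h2
  exact hw (toWord_eq_nil_iff.mp (List.length_eq_zero_iff.mp hk0))

/-- Every word has a non-trivial value in all large alternating groups. -/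
theorem exists_alternating_not_law {α : Type*} (w : FreeGroup α) (hw : w ≠ 1) :
    ∃ N : ℕ, ∀ n : ℕ, N ≤ n → ¬ IsLaw w (alternatingGroup (Fin n)) := by
  obtain ⟨m, f, hf⟩ := exists_perm_lift_ne_one w hw
  refine ⟨m + m, fun n hn hlaw => hf ?_⟩
  classical
  let e : Fin m ⊕ Fin m ↪ Fin n :=
    finSumFinEquiv.toEmbedding.trans (Fin.castLEEmb hn)
  let φ : Equiv.Perm (Fin m) →* Equiv.Perm (Fin n) :=
    (Equiv.Perm.extendDomainHom (Equiv.ofInjective e e.injective)).comp
      ((Equiv.Perm.sumCongrHom (Fin m) (Fin m)).comp ((MonoidHom.id _).prod (MonoidHom.id _)))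
  have hφ : Function.Injective φ := by
    intro a b hab
    have h1 := Equiv.Perm.sumCongrHom_injective
      (Equiv.Perm.extendDomainHom_injective _ hab)
    exact congrArg Prod.fst h1
  have hmem : ∀ a, φ a ∈ alternatingGroup (Fin n) := by
    intro a
    rw [Equiv.Perm.mem_alternatingGroup]
    show Equiv.Perm.sign (Equiv.Perm.extendDomain _ _) = 1
    refine (Equiv.Perm.sign_extendDomain _ _).trans ?_
    show Equiv.Perm.sign (Equiv.Perm.sumCongr a a) = 1
    rw [Equiv.Perm.sign_sumCongr, Int.units_mul_self]
  exact IsLaw.of_injective hlaw (φ.codRestrict _ hmem)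
    (fun a b hab => hφ (congrArg Subtype.val hab)) f

end Cfsg.Agent.H53
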