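import Cfsg.Agent.Unitary.Eichler
import Cfsg.Agent.Unitary.Order
import Cfsg.Agent.Unitary.Stab

/-!
The involutions of `SU(3, q)`, `q` odd, as the anisotropic points of the Hermitian form.
-/

set_option autoImplicit false
set_option linter.unusedSectionVars false

namespace Cfsg.Agent.H53

open Cfsg Matrix Cfsg.Agent.Unitary

variable {F : Type*} [Field F] [Fintype F] {q : ℕ}

local notation "H" => hermForm 3 F q

/-- The matrix with eigenvalue one on `v` and minus one on its perp. -/
def rmat (q : ℕ) (v : Fin 3 → F) : Matrix (Fin 3) (Fin 3) F := (2 : F) • vecMulVec v (cj q v) - 1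

theorem rmat_mulVec (v x : Fin 3 → F) : rmat q v *ᵥ x = (2 * H x v) • v - x := by
  simp only [rmat, sub_mulVec, one_mulVec, smul_mulVec, vecMulVec_mulVec, op_smul_eq_smul, smul_smul,
    herm_eq_dot, dotProduct_comm (cj q v)]

theorem two_pow_q (hF : Fintype.card F = q ^ 2) : (2 : F) ^ q = 2 := by
  simpa using natCast_pow_q hF 2

theorem two_ne_zero_of_odd (hq : Odd q) (hF : Fintype.card F = q ^ 2) : (2 : F) ≠ 0 := by
  intro h
  obtain ⟨k, hk⟩ := hq
  have := natCast_q_eq_zero hF
  rw [hk] at this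
  push_cast at this
  rw [h, zero_mul, zero_add] at this
  exact one_ne_zero this

theorem three_le_q (hq : Odd q) (hF : Fintype.card F = q ^ 2) : 3 ≤ q := by
  have := two_le_q hF
  obtain ⟨k, hk⟩ := hq
  omega

theorem rmat_preserves (hF : Fintype.card F = q ^ 2) {v : Fin 3 → F} (hv : H v v = 1) :
    Preserves q (rmat q v) := by
  intro x y
  simp only [rmat_mulVec, herm_sub_left, herm_sub_right hF, herm_smul_left, herm_smul_right, hv,
    mul_pow, two_pow_q hF]
  rw [herm_swap hF y v]
  ring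

theorem rmat_det {v : Fin 3 → F} (hv : H v v = 1) : (rmat q v).det = 1 := by
  have e : rmat q v = -(1 + replicateCol Unit (-((2 : F) • v)) * replicateRow Unit (cj q v)) := by
    rw [← vecMulVec_eq, neg_vecMulVec, smul_vecMulVec, rmat]
    abel
  rw [e, det_neg, det_one_add_replicateCol_mul_replicateRow, dotProduct_neg, dotProduct_smul,
    dotProduct_comm, ← herm_eq_dot, hv, Fintype.card_fin, smul_eq_mul]
  ring

open Classical in
/-- The involution attached to a vector of norm one. -/
noncomputable def rinv (hF : Fintype.card F = q ^ 2) (v : Fin 3 → F) : SU 3 F q :=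
  if h : H v v = 1 then toSU (rmat_preserves hF h) (rmat_det h) else 1

theorem ap_rinv (hF : Fintype.card F = q ^ 2) {v : Fin 3 → F} (hv : H v v = 1) (x : Fin 3 → F) :
    ap (rinv hF v) x = (2 * H x v) • v - x := by
  rw [rinv, dif_pos hv]
  exact rmat_mulVec v x

theorem rinv_sq (hF : Fintype.card F = q ^ 2) {v : Fin 3 → F} (hv : H v v = 1) :
    rinv hF v * rinv hF v = 1 := by
  refine ap_ext fun x => ?_
  rw [ap_mul, ap_one, ap_rinv hF hv, ap_rinv hF hv, herm_sub_left, herm_smul_left, hv]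
  module

theorem ne_zero_of_norm_one {v : Fin 3 → F} (hv : H v v = 1) : v ≠ 0 := by
  rintro rfl
  rw [herm_zero_left] at hv
  exact zero_ne_one hv

theorem rinv_ne_one (hq : Odd q) (hF : Fintype.card F = q ^ 2) {v : Fin 3 → F} (hv : H v v = 1) :
    rinv hF v ≠ 1 := by
  intro h
  obtain ⟨g, hg, -⟩ := (show ON q ![v] from fun i j => by
    fin_cases i; fin_cases j; simpa using hv).exists_extend hF
  have hf := hg (Sum.inr ⟨0, by simp⟩) (Sum.inr ⟨0, by simp⟩)
  have hgv := hg (Sum.inr ⟨0, by simp⟩) (Sum.inl 0)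
  simp at hf hgv
  have := congrArg (fun A => ap A (g ⟨0, by simp⟩)) h
  simp only [ap_one, ap_rinv hF hv, hgv, mul_zero, zero_smul, zero_sub] at this
  have h2 : (2 : F) • g ⟨0, by simp⟩ = 0 := by
    rw [two_smul]; nth_rewrite 1 [← this]; abel
  rcases smul_eq_zero.1 h2 with h3 | h3
  · exact two_ne_zero_of_odd hq hF h3
  · exact ne_zero_of_norm_one hf h3

theorem rinv_eq_iff (hq : Odd q) (hF : Fintype.card F = q ^ 2) {v w : Fin 3 → F} (hv : H v v = 1)
    (hw : H w w = 1) : rinv hF v = rinv hF w ↔ w = H w v • v := by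
  constructor
  · intro h
    have := congrArg (fun A => ap A w) h
    simp only [ap_rinv hF hv, ap_rinv hF hw, hw, mul_one] at this
    have h2 : (2 : F) • w = (2 : F) • (H w v • v) := by
      linear_combination (norm := module) -this
    exact smul_right_injective _ (two_ne_zero_of_odd hq hF) h2
  · intro h
    generalize hc : H w v = c at h
    subst h
    refine ap_ext fun x => ?_
    have hn : c * c ^ q = 1 := by rwa [herm_self_smul, hv, mul_one] at hw
    rw [ap_rinv hF hv, ap_rinv hF hw, herm_smul_right, smul_smul]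
    congr 2
    linear_combination -(2 * H x v) * hn

theorem rinv_ne_of_orth (hq : Odd q) (hF : Fintype.card F = q ^ 2) {v w : Fin 3 → F}
    (hv : H v v = 1) (hw : H w w = 1) (h : H w v = 0) : rinv hF w ≠ rinv hF v := by
  intro e
  have := (rinv_eq_iff hq hF hv hw).1 e.symm
  rw [h, zero_smul] at this
  exact ne_zero_of_norm_one hw this

theorem commute_rinv_iff (hq : Odd q) (hF : Fintype.card F = q ^ 2) {v w : Fin 3 → F}
    (hv : H v v = 1) (hw : H w w = 1) :
    Commute (rinv hF v) (rinv hF w) ↔ H w v = 0 ∨ rinv hF v = rinv hF w := by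
  constructor
  · intro h
    rw [or_iff_not_imp_left]
    intro ha
    rw [rinv_eq_iff hq hF hv hw]
    have h' := congrArg (fun A => ap A v) h.eq
    simp only [ap_mul, ap_rinv hF hv, ap_rinv hF hw, herm_sub_left, herm_smul_left, hv, hw] at h'
    have ha' : H v w ≠ 0 := fun e => ha ((herm_eq_zero_symm hF).1 e)
    have h4 : (4 * H v w) • w = (4 * H v w) • (H w v • v) := by
      linear_combination (norm := module) -h'
    have h2 := two_ne_zero_of_odd hq hF
    refine smul_right_injective _ (mul_ne_zero ?_ ha') h4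
    rw [show (4 : F) = 2 * 2 by norm_num]
    exact mul_ne_zero h2 h2
  · rintro (h | h)
    · refine ap_ext fun x => ?_
      have h' : H v w = 0 := (herm_eq_zero_symm hF).1 h
      simp only [ap_mul, ap_rinv hF hv, ap_rinv hF hw, herm_sub_left, herm_smul_left, h, h']
      module
    · rw [h]

/-- Vectors orthogonal to an orthonormal pair are multiples of a third basis vector. -/
theorem exists_third (hF : Fintype.card F = q ^ 2) {v w : Fin 3 → F}
    (hv : H v v = 1) (hw : H w w = 1) (hwv : H w v = 0) :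
    ∃ u, H u u = 1 ∧ H u v = 0 ∧ H u w = 0 ∧
      ∀ x, H x v = 0 → H x w = 0 → x = H x u • u := by
  have hvw : H v w = 0 := (herm_eq_zero_symm hF).1 hwv
  have hON : ON q ![v, w] := fun i j => by
    fin_cases i <;> fin_cases j <;> simp [hv, hw, hwv, hvw]
  obtain ⟨g, hg, hs⟩ := hON.exists_extend hF
  have hlt : 0 < 3 - Fintype.card (Fin 2) := by simp
  refine ⟨g ⟨0, hlt⟩, ?_, ?_, ?_, ?_⟩
  · simpa using hg (Sum.inr ⟨0, hlt⟩) (Sum.inr ⟨0, hlt⟩)
  · simpa using hg (Sum.inr ⟨0, hlt⟩) (Sum.inl 0)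
  · simpa using hg (Sum.inr ⟨0, hlt⟩) (Sum.inl 1)
  · intro x h1 h2
    have hx : x ∈ Submodule.span F (Set.range g) := by
      rw [hs]
      rintro _ ⟨i, rfl⟩
      fin_cases i
      · exact h1
      · exact h2
    have hgON : ON q g := fun i j => by simpa using hg (Sum.inr i) (Sum.inr j)
    conv_lhs => rw [← hgON.proj_eq_self hF hx, projON]
    rw [Finset.sum_eq_single ⟨0, hlt⟩ (fun b _ hb => absurd (Fin.ext (by
      have := b.isLt; simp at this; simpa using this)) hb) (by simp)]

/-- An orthonormal pair in the perp of a vector. -/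
theorem exists_perp_pair (hF : Fintype.card F = q ^ 2) {v : Fin 3 → F} (hv : H v v = 1) :
    ∃ g : Fin 2 → Fin 3 → F, ON q g ∧
      ∀ x, x ∈ Submodule.span F (Set.range g) ↔ H x v = 0 := by
  obtain ⟨g, hg, hs⟩ := (show ON q ![v] from fun i j => by
    fin_cases i; fin_cases j; simpa using hv).exists_extend hF
  revert g
  rw [show 3 - Fintype.card (Fin 1) = 2 by simp]
  intro g hg hs
  refine ⟨g, fun i j => by simpa using hg (Sum.inr i) (Sum.inr j), fun x => ?_⟩
  rw [hs, mem_perp]
  constructor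
  · exact fun h => h v ⟨0, rfl⟩
  · rintro h _ ⟨i, rfl⟩
    fin_cases i
    exact h

/-- Every involution is attached to a vector of norm one. -/
theorem exists_rinv_eq (hq : Odd q) (hF : Fintype.card F = q ^ 2) {t : SU 3 F q} (ht : t ≠ 1)
    (ht2 : t * t = 1) : ∃ v, H v v = 1 ∧ rinv hF v = t := by
  have h2 := two_ne_zero_of_odd hq hF
  have hneg1 : (-1 : F) ≠ 1 := fun h => h2 (by linear_combination -h)
  have hdet : (mat t).det = 1 := t.1.2
  have hinv : ∀ x, ap t (ap t x) = x := fun x => by rw [← ap_mul, ht2, ap_one]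
  have hplus : ∀ x, ap t (x + ap t x) = x + ap t x := fun x => by rw [ap_add, hinv, add_comm]
  let E : Submodule F (Fin 3 → F) :=
    { carrier := {x | ap t x = x}
      add_mem' := fun {a b} ha hb => by rw [Set.mem_ofPred_eq, ap_add, ha, hb]
      zero_mem' := ap_zero t
      smul_mem' := fun c a ha => by rw [Set.mem_ofPred_eq, ap_smul, ha] }
  have hE : ∀ u ∈ E, (∀ z ∈ E, H u z = 0) → u = 0 := fun u hu h =>
    eq_zero_of_forall_right hF fun x => by
      have h1 := h _ (hplus x)
      have h3 : H u (ap t x) = H u x := by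
        conv_lhs => rw [← show ap t u = u from hu]
        exact herm_ap t u x
      rw [herm_add_right hF, h3, ← two_mul] at h1
      exact (mul_eq_zero.1 h1).resolve_left h2
  have hEne : E ≠ ⊥ := by
    intro hb
    have : ∀ x, ap t x = -x := fun x => by
      have h1 : x + ap t x ∈ E := hplus x
      rw [hb, Submodule.mem_bot] at h1
      exact eq_neg_of_add_eq_zero_right h1
    have hm : mat t = -1 := Matrix.ext_iff_mulVec.2 fun x => by
      rw [neg_mulVec, one_mulVec]; exact this x
    rw [hm, det_neg, det_one, mul_one, Fintype.card_fin] at hdet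
    exact hneg1 (by linear_combination hdet)
  obtain ⟨v, hvE, hv⟩ := exists_norm_one hF (hE : Nondeg q E) hEne
  refine ⟨v, hv, ?_⟩
  by_cases hall : ∀ x, H x v = 0 → ap t x = -x
  · refine ap_ext fun x => ?_
    have h0 : H (x - H x v • v) v = 0 := by rw [herm_sub_left, herm_smul_left, hv, mul_one, sub_self]
    have := hall _ h0
    rw [ap_sub, ap_smul, show ap t v = v from hvE] at this
    rw [ap_rinv hF hv]
    linear_combination (norm := module) -this
  exfalso
  push Not at hall
  obtain ⟨x₀, hx₀, hx₀'⟩ := hall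
  have hW : Nondeg q (E ⊓ perp q ({v} : Set (Fin 3 → F))) := by
    rintro u ⟨hu1, hu2⟩ h
    refine hE u hu1 fun z hz => ?_
    have huv : H u v = 0 := mem_perp_singleton.1 hu2
    have h1 := h (z - H z v • v) ⟨E.sub_mem hz (E.smul_mem _ hvE), mem_perp_singleton.2
      (by rw [herm_sub_left, herm_smul_left, hv, mul_one, sub_self])⟩
    rwa [herm_sub_right hF, herm_smul_right, huv, mul_zero, sub_zero] at h1
  have hmem : x₀ + ap t x₀ ∈ E ⊓ perp q ({v} : Set (Fin 3 → F)) := by
    refine ⟨hplus x₀, mem_perp_singleton.2 ?_⟩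
    have h1 : H (ap t x₀) v = H x₀ v := by
      conv_lhs => rw [← show ap t v = v from hvE]
      exact herm_ap t x₀ v
    rw [herm_add_left, h1, hx₀, add_zero]
  obtain ⟨w, ⟨hwE, hwv⟩, hw⟩ := exists_norm_one hF hW fun hb => hx₀' (by
    rw [hb, Submodule.mem_bot] at hmem
    exact eq_neg_of_add_eq_zero_right hmem)
  rw [SetLike.mem_coe, mem_perp_singleton] at hwv
  obtain ⟨u, hu, huv, huw, hspan⟩ := exists_third hF hv hw hwv
  set c := H (ap t u) u with hc
  have htu : ap t u = c • u := by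
    refine hspan _ ?_ ?_
    · conv_lhs => rw [← show ap t v = v from hvE]
      rw [herm_ap, huv]
    · conv_lhs => rw [← show ap t w = w from hwE]
      rw [herm_ap, huw]
  have hform : ∀ x, ap t x = x + ((c - 1) * H x u) • u := by
    intro x
    have h1 : H (x - H x v • v - H x w • w) v = 0 := by
      rw [herm_sub_left, herm_sub_left, herm_smul_left, herm_smul_left, hv, hwv]; ring
    have h3 : H (x - H x v • v - H x w • w) w = 0 := by
      rw [herm_sub_left, herm_sub_left, herm_smul_left, herm_smul_left, hw,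
        (herm_eq_zero_symm hF).1 hwv]; ring
    have h4 := hspan _ h1 h3
    have h5 : H (x - H x v • v - H x w • w) u = H x u := by
      rw [herm_sub_left, herm_sub_left, herm_smul_left, herm_smul_left,
        (herm_eq_zero_symm hF).1 huv, (herm_eq_zero_symm hF).1 huw]; ring
    rw [h5] at h4
    have h6 := congrArg (ap t) h4
    rw [ap_sub, ap_sub, ap_smul, ap_smul, ap_smul, htu, show ap t v = v from hvE,
      show ap t w = w from hwE] at h6
    linear_combination (norm := module) h6 - h4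
  have hc2 : c * c = 1 := by
    have := hinv u
    rw [htu, ap_smul, htu, smul_smul] at this
    exact smul_left_injective F (ne_zero_of_norm_one hu) (this.trans (one_smul _ _).symm)
  rcases mul_self_eq_one_iff.1 hc2 with h1 | h1
  · exact ht (ap_ext fun x => by rw [hform, h1, ap_one, sub_self, zero_mul, zero_smul, add_zero])
  · have hm : mat t = -rmat q u := Matrix.ext_iff_mulVec.2 fun x => by
      rw [neg_mulVec, rmat_mulVec]
      rw [show mat t *ᵥ x = ap t x from rfl, hform, h1]
      module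
    rw [hm, det_neg, rmat_det hu, mul_one, Fintype.card_fin] at hdet
    exact hneg1 (by linear_combination hdet)

theorem rinv_ap (hF : Fintype.card F = q ^ 2) {v : Fin 3 → F} (hv : H v v = 1) (k : SU 3 F q) :
    k * rinv hF v * k⁻¹ = rinv hF (ap k v) := by
  rw [mul_inv_eq_iff_eq_mul]
  refine ap_ext fun x => ?_
  have hk : H (ap k v) (ap k v) = 1 := by rw [herm_ap, hv]
  rw [ap_mul, ap_mul, ap_rinv hF hv, ap_rinv hF hk, ap_sub, ap_smul, herm_ap]

/-- `SU` moves any vector of norm one to any other. -/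
theorem exists_ap_eq (hF : Fintype.card F = q ^ 2) {v w : Fin 3 → F} (hv : H v v = 1)
    (hw : H w w = 1) : ∃ k : SU 3 F q, ap k v = w := by
  have hON : ∀ {v : Fin 3 → F}, H v v = 1 → ON q ![v] := fun h i j => by
    fin_cases i; fin_cases j; simpa using h
  obtain ⟨g, hg⟩ := exists_GU_map_ON hF (hON hv) (hON hw)
  have hgv : gmat g *ᵥ v = w := hg 0
  obtain ⟨e, he, hes⟩ := exists_perp_pair hF hw
  have hu : H (e 0) (e 0) = 1 := by simpa using he 0 0
  have huw : H (e 0) w = 0 := (hes _).1 (Submodule.subset_span ⟨0, rfl⟩)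
  generalize e 0 = u at hu huw
  have hgp : Preserves q (gmat g) := g.2
  have hlam := hgp.det_norm hF
  set lam := (gmat g).det
  have hlam0 : lam ≠ 0 := fun h => by rw [h, zero_mul] at hlam; exact zero_ne_one hlam
  set m := lam⁻¹ with hm
  have hmn : m * m ^ q = 1 := by rw [hm, inv_pow, ← mul_inv, hlam, inv_one]
  let h : Matrix (Fin 3) (Fin 3) F := 1 + (m - 1) • vecMulVec u (cj q u)
  have hh : ∀ x, h *ᵥ x = x + ((m - 1) * H x u) • u := fun x => by
    simp only [h, add_mulVec, one_mulVec, smul_mulVec, vecMulVec_mulVec, op_smul_eq_smul, smul_smul,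
      herm_eq_dot, dotProduct_comm (cj q u)]
  have hhp : Preserves q h := fun x y => by
    simp only [hh, herm_add_left, herm_add_right hF, herm_smul_left, herm_smul_right, hu, mul_pow,
      sub_pow_q hF, one_pow]
    rw [herm_swap hF y u]
    linear_combination (H x u * H u y) * hmn
  have hdet : h.det = m := by
    have e : h = 1 + replicateCol Unit ((m - 1) • u) * replicateRow Unit (cj q u) := by
      rw [← vecMulVec_eq, smul_vecMulVec]
    rw [e, det_one_add_replicateCol_mul_replicateRow, dotProduct_smul, dotProduct_comm,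
      ← herm_eq_dot, hu, smul_eq_mul]
    ring
  have hp : Preserves q (h * gmat g) := fun x y => by
    rw [← mulVec_mulVec, ← mulVec_mulVec, hhp, hgp]
  refine ⟨toSU hp (by rw [det_mul, hdet]; exact inv_mul_cancel₀ hlam0), ?_⟩
  show (h * gmat g) *ᵥ v = w
  rw [← mulVec_mulVec, hgv, hh, (herm_eq_zero_symm hF).1 huw, mul_zero, zero_smul, add_zero]

theorem invol_conj (hq : Odd q) (hF : Fintype.card F = q ^ 2) {t x : SU 3 F q} (ht : t ≠ 1)
    (ht2 : t * t = 1) (hx : x ≠ 1) (hx2 : x * x = 1) : ∃ g, g * t * g⁻¹ = x := by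
  obtain ⟨v, hv, rfl⟩ := exists_rinv_eq hq hF ht ht2
  obtain ⟨w, hw, rfl⟩ := exists_rinv_eq hq hF hx hx2
  obtain ⟨k, rfl⟩ := exists_ap_eq hF hv hw
  exact ⟨k, rinv_ap hF hv k⟩

/-- Involutions correspond to vectors of norm one up to scalars of norm one. -/
theorem card_invol_mul (hq : Odd q) (hF : Fintype.card F = q ^ 2) (P : SU 3 F q → Prop) :
    Nat.card {x : SU 3 F q // x ≠ 1 ∧ x * x = 1 ∧ P x} * (q + 1) =
      Nat.card {v : Fin 3 → F // H v v = 1 ∧ P (rinv hF v)} := by
  rw [← card_norm_eq_one hF, ← Nat.card_prod]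
  have hch : ∀ x : {x : SU 3 F q // x ≠ 1 ∧ x * x = 1 ∧ P x}, ∃ v, H v v = 1 ∧ rinv hF v = x.1 :=
    fun x => exists_rinv_eq hq hF x.2.1 x.2.2.1
  choose c hc hcx using hch
  have hsm : ∀ (a : F) (v : Fin 3 → F), a * a ^ q = 1 → H v v = 1 →
      H (a • v) (a • v) = 1 ∧ rinv hF v = rinv hF (a • v) := by
    intro a v ha hv
    have h1 : H (a • v) (a • v) = 1 := by rw [herm_self_smul, ha, hv, mul_one]
    exact ⟨h1, (rinv_eq_iff hq hF hv h1).2 (by rw [herm_smul_left, hv, mul_one])⟩
  refine Nat.card_congr (Equiv.ofBijective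
    (fun z => ⟨z.2.1 • c z.1, (hsm _ _ z.2.2 (hc z.1)).1, by
      rw [← (hsm _ _ z.2.2 (hc z.1)).2, hcx]; exact z.1.2.2.2⟩) ⟨?_, ?_⟩)
  · rintro ⟨x, a⟩ ⟨x', a'⟩ h
    have h' : a.1 • c x = a'.1 • c x' := congrArg Subtype.val h
    have hx : x = x' := Subtype.ext (by
      rw [← hcx x, ← hcx x', (hsm _ _ a.2 (hc x)).2, (hsm _ _ a'.2 (hc x')).2, h'])
    subst hx
    exact Prod.ext rfl (Subtype.ext (smul_left_injective F (ne_zero_of_norm_one (hc x)) h'))
  · rintro ⟨v, hv, hP⟩
    let x : {x : SU 3 F q // x ≠ 1 ∧ x * x = 1 ∧ P x} :=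
      ⟨rinv hF v, rinv_ne_one hq hF hv, rinv_sq hF hv, hP⟩
    have he := (rinv_eq_iff hq hF (hc x) hv).1 (hcx x)
    refine ⟨(x, ⟨H v (c x), ?_⟩), Subtype.ext he.symm⟩
    rw [he, herm_self_smul, hc x, mul_one] at hv
    exact hv

theorem normCount_three_one (hF : Fintype.card F = q ^ 2) :
    normCount 3 q (1 : F) = q ^ 2 * (q ^ 2 - q + 1) * (q + 1) := by
  rw [normCount_one_nat hF 2, guFactor, if_pos (by decide), mul_assoc]
  congr 1
  have : q ≤ q ^ 2 := Nat.le_self_pow (by norm_num) q
  zify [this]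
  ring

theorem card_all_norm_one (hF : Fintype.card F = q ^ 2) :
    Nat.card {v : Fin 3 → F // H v v = 1} = normCount 3 q (1 : F) := by
  rw [← card_norm_span hF (on_std (n := 3) hF) 1]
  refine Nat.card_congr (Equiv.subtypeEquivRight fun v => ?_)
  refine ⟨fun h => ⟨?_, h⟩, fun h => h.2⟩
  rw [pi_eq_sum_univ' v]
  exact Submodule.sum_mem _ fun i _ => Submodule.smul_mem _ _ (Submodule.subset_span ⟨i, rfl⟩)

theorem card_invol (hq : Odd q) (hF : Fintype.card F = q ^ 2) :
    Nat.card {x : SU 3 F q // x ≠ 1 ∧ x * x = 1} = q ^ 2 * (q ^ 2 - q + 1) := by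
  have h := card_invol_mul hq hF (fun _ => True)
  simp only [and_true] at h
  rw [card_all_norm_one hF, normCount_three_one hF] at h
  exact Nat.eq_of_mul_eq_mul_right (Nat.succ_pos q) h

theorem card_SU_three (hF : Fintype.card F = q ^ 2) :
    Nat.card (SU 3 F q) = q ^ 3 * (q ^ 2 - 1) * (q ^ 3 + 1) := by
  have h := card_GU_eq_mul_card_SU (n := 3) hF (by norm_num)
  rw [card_GU hF 3] at h
  simp only [Finset.prod_range_succ, Finset.prod_range_zero, guFactor] at h
  norm_num at h
  refine Nat.eq_of_mul_eq_mul_left (Nat.succ_pos q) ?_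
  rw [Nat.succ_eq_add_one, ← h]
  ring

theorem card_centralizer (hq : Odd q) (hF : Fintype.card F = q ^ 2) {t : SU 3 F q} (ht : t ≠ 1)
    (ht2 : t * t = 1) :
    Nat.card ↥(Subgroup.centralizer ({t} : Set (SU 3 F q))) = q * (q + 1) * (q ^ 2 - 1) := by
  set A := MulAction.stabilizer (ConjAct (SU 3 F q)) t
  have horb : Nat.card (MulAction.orbit (ConjAct (SU 3 F q)) t) = q ^ 2 * (q ^ 2 - q + 1) := by
    rw [← card_invol hq hF]
    refine Nat.card_congr (Equiv.subtypeEquivRight fun x => ?_)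
    rw [ConjAct.mem_orbit_conjAct, isConj_iff]
    constructor
    · rintro ⟨g, hg⟩
      have e : x = g⁻¹ * t * g := by rw [← hg]; group
      refine ⟨fun h => ht ?_, ?_⟩
      · rw [← hg, h]; group
      · rw [e, show g⁻¹ * t * g * (g⁻¹ * t * g) = g⁻¹ * (t * t) * g by group, ht2]; group
    · rintro ⟨h1, h2⟩
      exact invol_conj hq hF h1 h2 ht ht2
  have h := A.card_mul_index
  rw [MulAction.index_stabilizer, ← Nat.card_coe_set_eq, horb,
    Nat.card_congr ConjAct.ofConjAct.toEquiv, card_SU_three hF] at h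
  have hA : Nat.card A = Nat.card ↥(Subgroup.centralizer ({t} : Set (SU 3 F q))) := by
    refine Nat.card_congr (Equiv.subtypeEquiv ConjAct.ofConjAct.toEquiv fun g => ?_)
    rw [MulAction.mem_stabilizer_iff, ConjAct.smul_def, Subgroup.mem_centralizer_singleton_iff,
      mul_inv_eq_iff_eq_mul]
    rfl
  rw [hA] at h
  have hpos : 0 < q ^ 2 * (q ^ 2 - q + 1) := Nat.mul_pos (pow_pos (q_pos hF) 2) (Nat.succ_pos _)
  refine Nat.eq_of_mul_eq_mul_right hpos (h.trans ?_)
  have h1 : q ^ 3 + 1 = (q + 1) * (q ^ 2 - q + 1) := by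
    have : q ≤ q ^ 2 := Nat.le_self_pow (by norm_num) q
    zify [this]; ring
  rw [h1]
  ring

theorem unique_third (hq : Odd q) (hF : Fintype.card F = q ^ 2) {t x : SU 3 F q} (ht : t ≠ 1)
    (ht2 : t * t = 1) (hx : x ≠ 1) (hx2 : x * x = 1) (hxt : x ≠ t) (hc : Commute t x) :
    Nat.card {y : SU 3 F q // y ≠ 1 ∧ y * y = 1 ∧ y ≠ t ∧ y ≠ x ∧ Commute t y ∧ Commute x y}
      = 1 := by
  obtain ⟨v, hv, rfl⟩ := exists_rinv_eq hq hF ht ht2
  obtain ⟨w, hw, rfl⟩ := exists_rinv_eq hq hF hx hx2
  have hwv : H w v = 0 := ((commute_rinv_iff hq hF hv hw).1 hc).resolve_right (Ne.symm hxt)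
  obtain ⟨u, hu, huv, huw, hspan⟩ := exists_third hF hv hw hwv
  have h := card_invol_mul hq hF
    (fun y => y ≠ rinv hF v ∧ y ≠ rinv hF w ∧ Commute (rinv hF v) y ∧ Commute (rinv hF w) y)
  refine Nat.eq_of_mul_eq_mul_right (Nat.succ_pos q) (h.trans ?_)
  rw [one_mul, Nat.succ_eq_add_one, ← card_norm_eq_one hF]
  refine (Nat.card_congr (Equiv.ofBijective
    (fun a : {a : F // a * a ^ q = 1} => (⟨a.1 • u, ?_⟩ :
      {z : Fin 3 → F // H z z = 1 ∧ rinv hF z ≠ rinv hF v ∧ rinv hF z ≠ rinv hF w ∧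
        Commute (rinv hF v) (rinv hF z) ∧ Commute (rinv hF w) (rinv hF z)})) ⟨?_, ?_⟩)).symm
  · have hz : H (a.1 • u) (a.1 • u) = 1 := by rw [herm_self_smul, a.2, hu, mul_one]
    have h1 : H (a.1 • u) v = 0 := by rw [herm_smul_left, huv, mul_zero]
    have h2 : H (a.1 • u) w = 0 := by rw [herm_smul_left, huw, mul_zero]
    exact ⟨hz, rinv_ne_of_orth hq hF hv hz h1, rinv_ne_of_orth hq hF hw hz h2,
      (commute_rinv_iff hq hF hv hz).2 (Or.inl h1), (commute_rinv_iff hq hF hw hz).2 (Or.inl h2)⟩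
  · intro a b e
    exact Subtype.ext (smul_left_injective F (ne_zero_of_norm_one hu) (congrArg Subtype.val e))
  · rintro ⟨z, hz, hz1, hz2, hc1, hc2⟩
    have h1 := ((commute_rinv_iff hq hF hv hz).1 hc1).resolve_right hz1.symm
    have h2 := ((commute_rinv_iff hq hF hw hz).1 hc2).resolve_right hz2.symm
    have he := hspan z h1 h2
    refine ⟨⟨H z u, ?_⟩, Subtype.ext he.symm⟩
    rw [he, herm_self_smul, hu, mul_one] at hz
    exact hz

end Cfsg.Agent.H53
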