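import Cfsg.Agent.H53.SLTable
import Cfsg.Agent.Linear.TwoTorus
import Cfsg.Agent.Symplectic.AddChar

/-!
Degrees and values of the irreducible characters of SL₂, read off the list.
-/

set_option autoImplicit false
set_option linter.unusedSectionVars false

namespace Cfsg.Agent.H53

open Matrix Finset
open scoped ComplexConjugate

variable {F : Type*} [Field F] [Fintype F] [DecidableEq F] [DecidableEq (MulChar F ℂ)]

local notation "M2" => Matrix (Fin 2) (Fin 2) F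
local notation "S2" => Matrix.SpecialLinearGroup (Fin 2) F

theorem half_cast (hodd : Odd (Fintype.card F)) :
    2 * (((Fintype.card F + 1) / 2 : ℕ) : ℂ) = (Fintype.card F : ℂ) + 1 ∧
    2 * (((Fintype.card F - 1) / 2 : ℕ) : ℂ) = (Fintype.card F : ℂ) - 1 := by
  obtain ⟨k, hk⟩ := hodd
  rw [hk, show (2 * k + 1 + 1) / 2 = k + 1 by omega, show (2 * k + 1 - 1) / 2 = k by omega]
  constructor <;> push_cast <;> ring

/-- The possible kinds of irreducible characters when `q` is odd, with their degrees. -/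
theorem sl_cases_odd (h2 : (2 : F) ≠ 0) {χ : S2 → ℂ} (hχ : Cfsg.IsIrrCharacter S2 χ) :
    (χ = (fun _ => 1) ∧ χ 1 = 1) ∨ (χ = stS ∧ χ 1 = (Fintype.card F : ℂ)) ∨
    ((∃ α : MulChar F ℂ, α ^ 2 ≠ 1 ∧ χ = sprin α) ∧ χ 1 = (Fintype.card F : ℂ) + 1) ∨
    ((∃ ε : MulChar F ℂ, ε ^ 2 = 1 ∧ ε ≠ 1 ∧ IsHalf ε χ) ∧ 2 * χ 1 = (Fintype.card F : ℂ) + 1) ∨
    (IsCuspS χ ∧ 2 * χ 1 = (Fintype.card F : ℂ) - 1) ∨
    (IsCuspS χ ∧ χ 1 = (Fintype.card F : ℂ) - 1) := by
  obtain ⟨δ, hδ⟩ := exists_not_isSquare h2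
  rcases irr_cases hχ with rfl | rfl | ⟨α, hα, rfl⟩ | ⟨ε, hε, hε1, H⟩ | hc
  · exact Or.inl ⟨rfl, rfl⟩
  · exact Or.inr (Or.inl ⟨rfl, stS_one⟩)
  · exact Or.inr (Or.inr (Or.inl ⟨⟨α, hα, rfl⟩, sprin_one α⟩))
  · exact Or.inr (Or.inr (Or.inr (Or.inl ⟨⟨ε, hε, hε1, H⟩, H.two_degree hε hε1 hδ⟩)))
  · rcases hc.odd_cases hχ hδ with ⟨hd, -, -⟩ | ⟨hd, -, -⟩
    · exact Or.inr (Or.inr (Or.inr (Or.inr (Or.inl ⟨hc, hd⟩))))
    · exact Or.inr (Or.inr (Or.inr (Or.inr (Or.inr ⟨hc, hd⟩))))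

/-- The possible kinds of irreducible characters when `q` is even, with their degrees. -/
theorem sl_cases_even (h2 : (2 : F) = 0) {χ : S2 → ℂ} (hχ : Cfsg.IsIrrCharacter S2 χ) :
    (χ = (fun _ => 1) ∧ χ 1 = 1) ∨ (χ = stS ∧ χ 1 = (Fintype.card F : ℂ)) ∨
    ((∃ α : MulChar F ℂ, α ^ 2 ≠ 1 ∧ χ = sprin α) ∧ χ 1 = (Fintype.card F : ℂ) + 1) ∨
    (IsCuspS χ ∧ χ 1 = (Fintype.card F : ℂ) - 1) := by
  rcases irr_cases hχ with rfl | rfl | ⟨α, hα, rfl⟩ | ⟨ε, hε, hε1, -⟩ | hc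
  · exact Or.inl ⟨rfl, rfl⟩
  · exact Or.inr (Or.inl ⟨rfl, stS_one⟩)
  · exact Or.inr (Or.inr (Or.inl ⟨⟨α, hα, rfl⟩, sprin_one α⟩))
  · exact absurd (mulChar_eq_one_of_sq h2 hε) hε1
  · exact Or.inr (Or.inr (Or.inr ⟨hc, (hc.even_case hχ h2).1⟩))

omit [DecidableEq F] [DecidableEq (MulChar F ℂ)] [Field F] in
theorem cast_ne {a : ℕ} (h : Fintype.card F ≠ a) : (Fintype.card F : ℂ) ≠ (a : ℂ) := fun e =>
  h (Nat.cast_injective e)

omit [DecidableEq F] [DecidableEq (MulChar F ℂ)] in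
theorem three_le_of_odd (hodd : Odd (Fintype.card F)) : 3 ≤ Fintype.card F := by
  obtain ⟨k, hk⟩ := hodd
  have := Fintype.one_lt_card (α := F)
  omega

theorem eq_stS_of_degree {χ : S2 → ℂ} (hχ : Cfsg.IsIrrCharacter S2 χ)
    (hdeg : χ 1 = (Fintype.card F : ℂ)) : χ = stS := by
  set q := (Fintype.card F : ℂ) with hq
  have hq1 : q ≠ 1 := by
    rw [hq]
    exact Nat.cast_ne_one.mpr Fintype.one_lt_card.ne'
  by_cases h2 : (2 : F) = 0
  · rcases sl_cases_even h2 hχ with ⟨-, h⟩ | ⟨h, -⟩ | ⟨-, h⟩ | ⟨-, h⟩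
    · exact absurd (hdeg.symm.trans h) hq1
    · exact h
    · exact absurd (show (0 : ℂ) = 1 by linear_combination h - hdeg) zero_ne_one
    · exact absurd (show (1 : ℂ) = 0 by linear_combination h - hdeg) one_ne_zero
  · rcases sl_cases_odd h2 hχ with ⟨-, h⟩ | ⟨h, -⟩ | ⟨-, h⟩ | ⟨-, h⟩ | ⟨-, h⟩ | ⟨-, h⟩
    · exact absurd (hdeg.symm.trans h) hq1
    · exact h
    · exact absurd (show (0 : ℂ) = 1 by linear_combination h - hdeg) zero_ne_one
    · exact absurd (show q = 1 by linear_combination h - 2 * hdeg) hq1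
    · have : Fintype.card F + 1 = 0 := Nat.cast_injective (R := ℂ) (by
        push_cast
        linear_combination h - 2 * hdeg)
      omega
    · exact absurd (show (1 : ℂ) = 0 by linear_combination h - hdeg) one_ne_zero

theorem stS_values (g : S2) :
    ((g : M2) 0 1 = 0 → (g : M2) 1 0 = 0 → (g : M2) 0 0 ^ 2 ≠ 1 → stS g = 1) ∧
    ((∀ (c : F) (v : Fin 2 → F), v ≠ 0 → (g : M2).mulVec v ≠ c • v) → stS g = -1) ∧
    ((g : M2) 1 0 = 0 → (g : M2) 0 0 = (g : M2) 1 1 → (g : M2) 0 1 ≠ 0 → stS g = 0) := by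
  refine ⟨fun h01 h10 hne => ?_, fun h => by rw [stS, sprin_noEigen _ h]; ring,
    fun h10 he h01 => ?_⟩
  · obtain ⟨h0, h1⟩ := entries_SL h10
    have hne' : (g : M2) 0 0 - (g : M2) 1 1 ≠ 0 := by
      rw [h1, sub_ne_zero]
      intro e
      apply hne
      rw [sq]
      nth_rewrite 2 [e]
      exact mul_inv_cancel₀ h0
    rw [stS, sprin_upper 1 h10, Finset.card_eq_one.mpr ⟨0, by ext x; simp [h01, hne']⟩,
      MulChar.one_apply (isUnit_iff_ne_zero.mpr h0),
      MulChar.one_apply (isUnit_iff_ne_zero.mpr (by rw [h1]; exact inv_ne_zero h0))]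
    simp
  · obtain ⟨h0, -⟩ := entries_SL h10
    rw [stS, sprin_upper 1 h10, MulChar.one_apply (isUnit_iff_ne_zero.mpr h0),
      Finset.card_eq_zero.mpr (by ext x; simp [he, h01])]
    simp

theorem trace_sq_ne_four_of_noEigen (h2 : (2 : F) ≠ 0) {g : S2}
    (h : ∀ (c : F) (v : Fin 2 → F), v ≠ 0 → (g : M2).mulVec v ≠ c • v) :
    (g : M2).trace ^ 2 ≠ 4 := by
  intro e
  refine Linear.noEigen_iff.mp h ((g : M2).trace / 2) ?_
  rw [g.2]
  field_simp
  linear_combination -e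

theorem isConj_conjS_of_noEigen (h2 : (2 : F) ≠ 0) {g : S2}
    (h : ∀ (c : F) (v : Fin 2 → F), v ≠ 0 → (g : M2).mulVec v ≠ c • v) (d : Fˣ) :
    IsConj g (conjS d g) := by
  have ht := trace_sq_ne_four_of_noEigen h2 h
  have he : ((conjS d g : S2) : M2).trace = (g : M2).trace := by
    simp [coe_conjS, conjMat, Matrix.trace_fin_two]
  exact Linear.isConj_of_trace_eq (Linear.not_isScalarTwo_of_trace ht)
    (Linear.not_isScalarTwo_of_trace (by rw [he]; exact ht)) he.symm (Or.inr ht)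

theorem apply_conjS_of_noEigen (h2 : (2 : F) ≠ 0) {χ : S2 → ℂ} (hχ : Cfsg.IsClassFunction S2 χ)
    {g : S2} (h : ∀ (c : F) (v : Fin 2 → F), v ≠ 0 → (g : M2).mulVec v ≠ c • v) (d : Fˣ) :
    χ (conjS d g) = χ g := by
  obtain ⟨x, hx⟩ := isConj_iff.mp (isConj_conjS_of_noEigen h2 h d)
  rw [← hx, hχ]

theorem IsHalf.apply_noEigen {ε : MulChar F ℂ} {h : Matrix.SpecialLinearGroup (Fin 2) F → ℂ}
    (H : IsHalf ε h) (hε : ε ^ 2 = 1) (hε1 : ε ≠ 1) (h2 : (2 : F) ≠ 0) {g : S2}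
    (hg : ∀ (c : F) (v : Fin 2 → F), v ≠ 0 → (g : M2).mulVec v ≠ c • v) : h g = 0 := by
  obtain ⟨δ, hδ⟩ := exists_not_isSquare h2
  have e := congrFun (H.eq_add hε hε1 hδ) g
  rw [sprin_noEigen _ hg, Pi.add_apply,
    apply_conjS_of_noEigen h2 (CharBasic.IsIrr.isClassFunction H.1) hg] at e
  linear_combination (-1 / 2 : ℂ) * e

/-- The case `q = 3` of the zeros at elements without eigenvector. -/
theorem cusp_noEigen_three (hq : Fintype.card F = 3) {χ : S2 → ℂ}
    (hχ : Cfsg.IsIrrCharacter S2 χ) (hc : IsCuspS χ) (hd : χ 1 = (Fintype.card F : ℂ) - 1) {g : S2}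
    (hg : ∀ (c : F) (v : Fin 2 → F), v ≠ 0 → (g : M2).mulVec v ≠ c • v) : χ g = 0 := by
  classical
  have h2 : (2 : F) ≠ 0 := Linear.two_ne_zero_of_odd_card (by rw [hq]; exact ⟨1, rfl⟩)
  have hcent : Nat.card (Subgroup.centralizer ({g} : Set S2)) = 4 := by
    rw [Linear.card_centralizer_nonsplit_SL (trace_sq_ne_four_of_noEigen h2 hg) (fun c => by
      have := Linear.noEigen_iff.mp hg c
      rwa [g.2] at this), hq]
  let one' : Cfsg.IrrCharacter S2 := ⟨_, CharBasic.isIrrCharacter_one⟩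
  let st' : Cfsg.IrrCharacter S2 := ⟨_, isIrrCharacter_stS⟩
  set P : Finset (Cfsg.IrrCharacter S2) := Finset.univ.filter fun φ =>
    IsCuspS (φ : S2 → ℂ) ∧ 2 * (φ : S2 → ℂ) 1 = (Fintype.card F : ℂ) - 1 with hP
  have hPcard : P.card = 2 := by
    have := (card_cusp_odd (F := F) h2).1
    rwa [Nat.card_eq_fintype_card, Fintype.card_subtype] at this
  set T : Finset (Cfsg.IrrCharacter S2) := {one', st'} ∪ P with hT
  have hdisj : Disjoint ({one', st'} : Finset _) P := by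
    rw [Finset.disjoint_left]
    intro φ hφ hφ'
    have hc' := (Finset.mem_filter.mp hφ').2.1
    simp only [Finset.mem_insert, Finset.mem_singleton] at hφ
    rcases hφ with rfl | rfl
    · exact one_not_cusp hc'
    · exact stS_not_cusp hc'
  have hTcard : T.card = 4 := by
    rw [hT, Finset.card_union_of_disjoint hdisj, hPcard,
      Finset.card_pair (fun e => stS_ne_one (congrArg Subtype.val e).symm)]
  have hn1 : ∀ φ ∈ T, ‖(φ : S2 → ℂ) g‖ = 1 := by
    intro φ hφ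
    simp only [hT, Finset.mem_union, Finset.mem_insert, Finset.mem_singleton] at hφ
    rcases hφ with (rfl | rfl) | hφ
    · simp [one']
    · simp [st', (stS_values g).2.1 hg]
    · obtain ⟨-, -, hd'⟩ := Finset.mem_filter.mp hφ
      rw [hq] at hd'
      obtain ⟨l, hl⟩ := CharInduce.IsChar.exists_hom_of_degree_one
        (CharBasic.IsIrr.isCharacter φ.2) (by linear_combination (1 / 2 : ℂ) * hd')
      rw [hl]
      exact CharInduce.norm_hom l g
  have hsum : ∑ φ : Cfsg.IrrCharacter S2, ‖(φ : S2 → ℂ) g‖ ^ 2 = 4 := by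
    have h := CharBasic.second_orthogonality_self g
    rw [hcent] at h
    simp only [Complex.mul_conj'] at h
    exact_mod_cast h
  rw [← Finset.sum_add_sum_compl T, Finset.sum_congr rfl (s₁ := T) (g := fun _ => (1 : ℝ))
    (fun φ hφ => by rw [hn1 φ hφ, one_pow]), Finset.sum_const, hTcard, nsmul_eq_mul,
    mul_one, Nat.cast_ofNat, add_eq_left] at hsum
  have hmem : (⟨χ, hχ⟩ : Cfsg.IrrCharacter S2) ∈ Tᶜ := by
    rw [Finset.mem_compl]
    simp only [hT, hP, Finset.mem_union, Finset.mem_insert, Finset.mem_singleton,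
      Finset.mem_filter, Finset.mem_univ, true_and, one', st', Subtype.ext_iff, not_or]
    refine ⟨⟨fun e => one_not_cusp (e ▸ hc), fun e => stS_not_cusp (e ▸ hc)⟩, fun ⟨_, e⟩ => ?_⟩
    rw [hd, hq] at e
    norm_num at e
  have := (Finset.sum_eq_zero_iff_of_nonneg (fun φ _ => sq_nonneg _)).mp hsum _ hmem
  simpa using this

/-- The character of order two, as complex valued. -/
noncomputable def quadC (F : Type*) [Field F] [Fintype F] [DecidableEq F] : MulChar F ℂ :=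
  (quadraticChar F).ringHomComp (Int.castRingHom ℂ)

theorem quadC_apply (c : F) : quadC F c = ((quadraticChar F c : ℤ) : ℂ) := rfl

theorem quadC_neg_one (h2 : (2 : F) ≠ 0) :
    quadC F (-1) = (-1 : ℂ) ^ ((Fintype.card F - 1) / 2) := by
  have hodd := FiniteField.odd_card_of_char_ne_two (ringChar_ne_two h2)
  rw [quadC_apply, quadraticChar_neg_one (ringChar_ne_two h2), ZMod.χ₄_eq_neg_one_pow hodd,
    show (Fintype.card F - 1) / 2 = Fintype.card F / 2 by omega]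
  simp

/-- Values at transvections: `2 z = s ± √(±q)`. -/
theorem two_z_sub_sq (h2 : (2 : F) ≠ 0) {χ : S2 → ℂ} (hχ : Cfsg.IsIrrCharacter S2 χ) {δ : F}
    (hδ : ¬ IsSquare δ) {s : ℂ} (hs : χ (upS 1 1) + χ (upS 1 δ) = s)
    (hd : 2 * χ 1 - s = (Fintype.card F : ℂ)) :
    (2 * χ (upS 1 1) - s) ^ 2 = (-1 : ℂ) ^ ((Fintype.card F - 1) / 2) * (Fintype.card F : ℂ) := by
  classical
  have hcl := CharBasic.IsIrr.isClassFunction hχ
  have hd0 := ne_zero_of_not_isSquare hδ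
  obtain ⟨ψ, hψ⟩ := Symplectic.exists_primitive_addChar F
  set q := (Fintype.card F : ℂ) with hq
  set w : ℂ := χ (upS 1 1) - χ (upS 1 δ) with hw
  have hquad : quadC F ≠ 1 := fun e => quadraticChar_ne_one (ringChar_ne_two h2)
    ((MulChar.ringHomComp_eq_one_iff Int.cast_injective).mp e)
  have hisq : (quadC F).IsQuadratic := (quadraticChar_isQuadratic F).comp _
  have hconj : ∀ c : F, conj (quadC F c) = quadC F c := fun c => by
    rw [quadC_apply, map_intCast]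
  set g := gaussSum (quadC F) ψ with hg
  have hg2 : g ^ 2 = quadC F (-1) * q := gaussSum_sq hquad hisq hψ
  have hval : ∀ c : F, 2 * χ (upS 1 c) =
      (if c = 0 then 2 * χ 1 - s else 0) + s + w * quadC F c := by
    intro c
    rcases eq_or_ne c 0 with rfl | hc
    · rw [if_pos rfl, MulChar.map_zero, upS_one]
      ring
    · rw [if_neg hc]
      by_cases hsq : IsSquare c
      · rw [apply_upS_of_isSquare hcl hc hsq, quadC_apply,
          (quadraticChar_one_iff_isSquare hc).mpr hsq, hw, ← hs]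
        push_cast
        ring
      · rw [apply_upS_of_not_isSquare hcl hsq hδ, quadC_apply,
          quadraticChar_neg_one_iff_not_isSquare.mpr hsq, hw, ← hs]
        push_cast
        ring
  have hshift : ∀ t : F, t ≠ 0 →
      ∑ c : F, quadC F c * conj (ψ (t * c)) = quadC F t * conj g := by
    intro t ht
    have h := gaussSum_mulShift (quadC F) ψ (Units.mk0 t ht)
    rw [Units.val_mk0, ← hg, gaussSum] at h
    rw [← h, map_mul, hconj, map_sum, ← mul_assoc]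
    have h1 : quadC F t * quadC F t = 1 := by
      rw [quadC_apply, ← Int.cast_mul, ← sq, quadraticChar_sq_one ht, Int.cast_one]
    rw [h1, one_mul]
    exact Finset.sum_congr rfl fun c _ => by
      rw [map_mul (starRingEnd ℂ), hconj, AddChar.mulShift_apply]
  let f : Multiplicative F →* S2 :=
    { toFun := fun c => upS 1 c.toAdd
      map_one' := upS_one
      map_mul' := fun a b => (upS_mul a.toAdd b.toAdd).symm }
  have hm : ∀ t : F, t ≠ 0 → ∃ n : ℕ, q + w * quadC F t * conj g = 2 * q * (n : ℂ) := by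
    intro t ht
    obtain ⟨n, hn⟩ := CharBasic.classInner_isChar_nat
      (CharInduce.IsChar.comp (CharBasic.IsIrr.isCharacter hχ) f)
      (CharInduce.isCharacter_hom (ψ.mulShift t).toMonoidHom.toHomUnits)
    refine ⟨n, ?_⟩
    have hsum : ∑ c : F, χ (upS 1 c) * conj (ψ (t * c)) = q * n := by
      rw [← hn, Cfsg.classInner, Nat.card_eq_fintype_card, Fintype.card_multiplicative, ← hq,
        ← mul_assoc, mul_inv_cancel₀ (Nat.cast_ne_zero.mpr Fintype.card_ne_zero), one_mul,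
        ← Equiv.sum_comp Multiplicative.ofAdd]
      rfl
    have hz : ∑ c : F, conj (ψ (t * c)) = 0 := by
      have h := AddChar.sum_mulShift t hψ
      rw [if_neg ht, Nat.cast_zero] at h
      rw [← map_sum, show ∑ c : F, ψ (t * c) = 0 by simpa [mul_comm] using h, map_zero]
    have h2sum : ∑ c : F, 2 * (χ (upS 1 c) * conj (ψ (t * c))) =
        (2 * χ 1 - s) + w * (quadC F t * conj g) := by
      rw [← hshift t ht, Finset.mul_sum]
      have : ∀ c : F, 2 * (χ (upS 1 c) * conj (ψ (t * c))) =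
          (if c = 0 then 2 * χ 1 - s else 0) * conj (ψ (t * c)) + s * conj (ψ (t * c)) +
            w * (quadC F c * conj (ψ (t * c))) := fun c => by
        rw [← mul_assoc, hval]
        ring
      rw [Finset.sum_congr rfl (fun c _ => this c), Finset.sum_add_distrib, Finset.sum_add_distrib,
        ← Finset.mul_sum (a := s), hz, mul_zero, add_zero]
      simp [ite_mul]
    rw [← Finset.mul_sum, hsum, hd] at h2sum
    linear_combination -h2sum
  obtain ⟨n, hn⟩ := hm 1 one_ne_zero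
  obtain ⟨m, hm'⟩ := hm δ hd0
  rw [show quadC F δ = -1 by
    rw [quadC_apply, quadraticChar_neg_one_iff_not_isSquare.mpr hδ]; norm_num] at hm'
  rw [map_one, mul_one] at hn
  have hq0 : q ≠ 0 := Nat.cast_ne_zero.mpr Fintype.card_ne_zero
  have hnm : n + m = 1 := Nat.cast_injective (R := ℂ) (by
    push_cast
    refine mul_left_cancel₀ (mul_ne_zero two_ne_zero hq0) ?_
    linear_combination -hn - hm')
  have hwg : (w * conj g) ^ 2 = q ^ 2 := by
    rcases (by omega : n = 0 ∨ n = 1) with rfl | rfl <;> push_cast at hn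
    · rw [show w * conj g = -q by linear_combination hn]; ring
    · rw [show w * conj g = q by linear_combination hn]
  have hg2' : conj g ^ 2 = quadC F (-1) * q := by
    rw [← map_pow, hg2, map_mul, hconj, hq, Complex.conj_natCast]
  have h1 : quadC F (-1) * quadC F (-1) = 1 := by
    rw [← map_mul, neg_mul_neg, one_mul, map_one]
  rw [mul_pow, hg2'] at hwg
  rw [← quadC_neg_one h2]
  have hw2 : w ^ 2 = quadC F (-1) * q := by
    refine mul_right_cancel₀ hq0 ?_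
    linear_combination quadC F (-1) * hwg - q * w ^ 2 * h1
  rw [show 2 * χ (upS 1 1) - s = w by rw [hw, ← hs]; ring]
  exact hw2

/-- `sl_cases_odd` with natural number degrees. -/
theorem sl_cases_odd_nat (h2 : (2 : F) ≠ 0) {χ : S2 → ℂ} (hχ : Cfsg.IsIrrCharacter S2 χ) :
    ∃ d : ℕ, χ 1 = (d : ℂ) ∧
    ((χ = (fun _ => 1) ∧ d = 1) ∨ (χ = stS ∧ d = Fintype.card F) ∨
    ((∃ α : MulChar F ℂ, α ^ 2 ≠ 1 ∧ χ = sprin α) ∧ d = Fintype.card F + 1) ∨
    ((∃ ε : MulChar F ℂ, ε ^ 2 = 1 ∧ ε ≠ 1 ∧ IsHalf ε χ) ∧ 2 * d = Fintype.card F + 1) ∨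
    (IsCuspS χ ∧ 2 * d + 1 = Fintype.card F) ∨
    (IsCuspS χ ∧ d + 1 = Fintype.card F)) := by
  obtain ⟨d, -, hd⟩ := CharBasic.IsIrr.exists_degree hχ
  refine ⟨d, hd, ?_⟩
  rcases sl_cases_odd h2 hχ with ⟨h, e⟩ | ⟨h, e⟩ | ⟨h, e⟩ | ⟨h, e⟩ | ⟨h, e⟩ | ⟨h, e⟩ <;> rw [hd] at e
  · exact Or.inl ⟨h, by exact_mod_cast e⟩
  · exact Or.inr (Or.inl ⟨h, by exact_mod_cast e⟩)
  · exact Or.inr (Or.inr (Or.inl ⟨h, by exact_mod_cast e⟩))
  · exact Or.inr (Or.inr (Or.inr (Or.inl ⟨h, by exact_mod_cast e⟩)))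
  · exact Or.inr (Or.inr (Or.inr (Or.inr (Or.inl ⟨h, Nat.cast_injective (R := ℂ) (by
      push_cast; linear_combination e)⟩))))
  · exact Or.inr (Or.inr (Or.inr (Or.inr (Or.inr ⟨h, Nat.cast_injective (R := ℂ) (by
      push_cast; linear_combination e)⟩))))

/-- `sl_cases_even` with natural number degrees. -/
theorem sl_cases_even_nat (h2 : (2 : F) = 0) {χ : S2 → ℂ} (hχ : Cfsg.IsIrrCharacter S2 χ) :
    ∃ d : ℕ, χ 1 = (d : ℂ) ∧
    ((χ = (fun _ => 1) ∧ d = 1) ∨ (χ = stS ∧ d = Fintype.card F) ∨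
    ((∃ α : MulChar F ℂ, α ^ 2 ≠ 1 ∧ χ = sprin α) ∧ d = Fintype.card F + 1) ∨
    (IsCuspS χ ∧ d + 1 = Fintype.card F)) := by
  obtain ⟨d, -, hd⟩ := CharBasic.IsIrr.exists_degree hχ
  refine ⟨d, hd, ?_⟩
  rcases sl_cases_even h2 hχ with ⟨h, e⟩ | ⟨h, e⟩ | ⟨h, e⟩ | ⟨h, e⟩ <;> rw [hd] at e
  · exact Or.inl ⟨h, by exact_mod_cast e⟩
  · exact Or.inr (Or.inl ⟨h, by exact_mod_cast e⟩)
  · exact Or.inr (Or.inr (Or.inl ⟨h, by exact_mod_cast e⟩))
  · exact Or.inr (Or.inr (Or.inr ⟨h, Nat.cast_injective (R := ℂ) (by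
      push_cast; linear_combination e)⟩))

omit [DecidableEq F] [DecidableEq (MulChar F ℂ)] [Field F] in
theorem degree_sub_one {d : ℕ} {x : ℂ} (h : x = (d : ℂ))
    (e : x = (Fintype.card F : ℂ) - 1) : d + 1 = Fintype.card F :=
  Nat.cast_injective (R := ℂ) (by push_cast; linear_combination e - h)

omit [DecidableEq F] [DecidableEq (MulChar F ℂ)] [Field F] in
theorem degree_add_one {d : ℕ} {x : ℂ} (h : x = (d : ℂ))
    (e : x = (Fintype.card F : ℂ) + 1) : d = Fintype.card F + 1 :=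
  Nat.cast_injective (R := ℂ) (by push_cast; linear_combination e - h)

end Cfsg.Agent.H53
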