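import Cfsg.Agent.H53.SUHeis
import Cfsg.Agent.Unitary.RankOne
import Cfsg.Agent.Unitary.Stab
import Cfsg.Agent.CharBasic.Rep

/-!
The smallest degree of a non-linear irreducible complex character of SU(n, q).
-/

set_option autoImplicit false
set_option linter.unusedSectionVars false

namespace Cfsg.Agent.H53

open Cfsg Matrix Finset
open Cfsg.Agent.Unitary
open scoped ComplexConjugate

variable {F : Type*} [Field F] [Fintype F] {n q : ℕ}

/-- The recursively defined bound. -/
def suLow (q : ℕ) : ℕ → ℕ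
  | 0 => 0
  | 1 => 0
  | k + 2 => (q - 1) * q ^ k + suLow q k

theorem suLow_closed (hq : 1 ≤ q) : ∀ k : ℕ,
    ((suLow q k : ℤ) * (q + 1) = if Even k then (q : ℤ) ^ k - 1 else (q : ℤ) ^ k - q)
  | 0 => by simp [suLow]
  | 1 => by simp [suLow]
  | k + 2 => by
    have ih := suLow_closed hq k
    rw [suLow, Nat.cast_add, Nat.cast_mul, Nat.cast_sub hq, Nat.cast_pow, Nat.cast_one]
    rcases Nat.even_or_odd k with h | h
    · rw [if_pos h] at ih
      rw [if_pos (h.add (by decide))]
      linear_combination ih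
    · rw [if_neg (Nat.not_even_iff_odd.2 h)] at ih
      rw [if_neg (Nat.not_even_iff_odd.2 (h.add_even (by decide)))]
      linear_combination ih

theorem suLow_lt (hq : 2 ≤ q) (k : ℕ) : suLow q k < q ^ k := by
  have h := suLow_closed (by omega : 1 ≤ q) k
  have hp : (1 : ℤ) ≤ (q : ℤ) ^ k := one_le_pow₀ (by exact_mod_cast (by omega : 1 ≤ q))
  have h0 : (0 : ℤ) ≤ suLow q k := Int.natCast_nonneg _
  have hq' : (2 : ℤ) ≤ q := by exact_mod_cast hq
  have : (suLow q k : ℤ) < (q : ℤ) ^ k := by split_ifs at h <;> nlinarith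
  exact_mod_cast this

/-- The element is a transvection supported on the subspace. -/
def IsTv (hF : Fintype.card F = q ^ 2) (W : Submodule F (Fin n → F)) (t : SU n F q) : Prop :=
  ∃ (v : Fin n → F) (c : F) (hv : hermForm n F q v v = 0) (hc : c + c ^ q = 0),
    v ∈ W ∧ v ≠ 0 ∧ c ≠ 0 ∧ t = tv hF hv hc

theorem IsTv.mono {hF : Fintype.card F = q ^ 2} {W W' : Submodule F (Fin n → F)} (h : W' ≤ W)
    {t : SU n F q} : IsTv hF W' t → IsTv hF W t := by
  rintro ⟨v, c, hv, hc, hvW, rest⟩
  exact ⟨v, c, hv, hc, h hvW, rest⟩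

theorem exists_tv (hF : Fintype.card F = q ^ 2) {W : Submodule F (Fin n → F)} (hW : Nondeg q W)
    (h2 : 2 ≤ Module.finrank F W) : ∃ t : ↥(GW n F q W), IsTv hF W t := by
  obtain ⟨v, hvW, hv0, hv⟩ := exists_isotropic hF hW h2
  obtain ⟨δ, hδ0, hδ⟩ := exists_skew hF
  have hc : δ + δ ^ q = 0 := by rw [hδ, add_neg_cancel]
  exact ⟨⟨tv hF hv hc, tv_mem_fixer hF hv hc (perp_herm_eq_zero hF hvW)⟩, v, δ, hv, hc, hvW, hv0, hδ0, rfl⟩

variable {k : ℕ} {W : Submodule F (Fin n → F)}

/-- A scaling of the hyperbolic line, correcting the determinant. -/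
theorem exists_torus (hF : Fintype.card F = q ^ 2) (d : Frm n F q k W) {lam : F}
    (hlam : lam * lam ^ q = 1) : ∃ (h : Matrix (Fin n) (Fin n) F) (a : F),
      Preserves q h ∧ h.det * lam = 1 ∧ h *ᵥ d.e = a • d.e ∧
      (∀ x, hermForm n F q x d.e = 0 → hermForm n F q x d.f = 0 → h *ᵥ x = x) := by
  have hlam0 : lam ≠ 0 := left_ne_zero_of_mul_eq_one hlam
  obtain ⟨a, ha⟩ : ∃ a : Fˣ, a ^ (q - 1) = Units.mk0 lam hlam0 := by
    have hm : Units.mk0 lam hlam0 ∈ (powMonoidHom (q + 1) : Fˣ →* Fˣ).ker := by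
      rw [MonoidHom.mem_ker, powMonoidHom_apply]
      ext
      simpa [pow_succ'] using hlam
    rw [← range_pow_sub_eq_ker hF] at hm
    exact hm
  set A : F := (a : F)
  have hA0 : A ≠ 0 := a.ne_zero
  have hAq : A ^ q ≠ 0 := pow_ne_zero _ hA0
  set B : F := (A ^ q)⁻¹
  let h : Matrix (Fin n) (Fin n) F :=
    1 + (A - 1) • vecMulVec d.e (cj q d.f) + (B - 1) • vecMulVec d.f (cj q d.e)
  have hh : ∀ x, h *ᵥ x = x + ((A - 1) * hermForm n F q x d.f) • d.e +
      ((B - 1) * hermForm n F q x d.e) • d.f := fun x => by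
    simp only [h, add_mulVec, one_mulVec, smul_mulVec, vecMulVec_mulVec, op_smul_eq_smul, smul_smul,
      herm_eq_dot, dotProduct_comm (cj q d.f), dotProduct_comm (cj q d.e)]
  have hBq : B ^ q = A⁻¹ := by simp only [B, inv_pow, pow_q_q hF]
  refine ⟨h, A, fun x y => ?_, ?_, ?_, fun x h1 h2 => ?_⟩
  · simp only [hh, herm_add_left, herm_add_right hF, herm_smul_left, herm_smul_right, d.he, d.hf,
      d.hef, d.hfe, mul_pow, sub_pow_q hF, one_pow, hBq]
    rw [← herm_swap hF y d.e, ← herm_swap hF y d.f]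
    field_simp
    have : B * A ^ q = 1 := inv_mul_cancel₀ hAq
    linear_combination (hermForm n F q x d.e * hermForm n F q y d.f ^ q * A) * this
  · let X : Matrix (Fin n) (Fin 2) F := Matrix.of fun i j => ![((A - 1) • d.e) i, ((B - 1) • d.f) i] j
    let Y : Matrix (Fin 2) (Fin n) F := Matrix.of fun j i => ![cj q d.f i, cj q d.e i] j
    have hXY : h = 1 + X * Y := by
      ext i j
      simp only [h, X, Y, Matrix.mul_apply, Fin.sum_univ_two, Matrix.add_apply, Matrix.smul_apply,
        vecMulVec_apply, Matrix.of_apply, Matrix.cons_val_zero, Matrix.cons_val_one, smul_eq_mul,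
        Pi.smul_apply]
      ring
    have e : ∀ (s : F) (w : Fin n → F) (z : Fin n → F),
        ∑ i, cj q z i * (s * w i) = s * hermForm n F q w z := fun s w z => by
      rw [herm_eq_dot, dotProduct, Finset.mul_sum]
      exact Finset.sum_congr rfl fun i _ => by ring
    rw [hXY, det_one_add_mul_comm, Matrix.det_fin_two]
    simp only [X, Y, Matrix.add_apply, Matrix.one_apply_eq, Matrix.mul_apply, Matrix.of_apply,
      Matrix.cons_val_zero, Matrix.cons_val_one, Matrix.one_apply_ne (show (0 : Fin 2) ≠ 1 by decide),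
      Matrix.one_apply_ne (show (1 : Fin 2) ≠ 0 by decide), Pi.smul_apply, smul_eq_mul, e, d.he, d.hf,
      d.hef, d.hfe]
    have hl : A ^ (q - 1) = lam := by
      have := congrArg Units.val ha
      simpa using this
    have hq : A ^ q = A ^ (q - 1) * A := by rw [← pow_succ, Nat.sub_add_cancel (q_pos hF)]
    simp only [B, hq, hl]
    field_simp
    ring
  · rw [hh, d.he, d.hef]
    module
  · rw [hh, h1, h2]
    simp

/-- Transvections of the orthogonal part are conjugate by elements normalising the point. -/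
theorem exists_conj_tv (hF : Fintype.card F = q ^ 2) (d : Frm n F q k W) {t t' : SU n F q}
    (ht : IsTv hF d.sub t) (ht' : IsTv hF d.sub t') :
    ∃ g : ↥(GW n F q W), (∃ a : F, ap (g : SU n F q) d.e = a • d.e) ∧
      (g : SU n F q) * t * (g : SU n F q)⁻¹ = t' := by
  obtain ⟨v, c, hv, hc, hvs, hv0, hc0, rfl⟩ := ht
  obtain ⟨v', c', hv', hc', hvs', hv0', hc0', rfl⟩ := ht'
  obtain ⟨l, hl⟩ := exists_norm_eq hF (a := c' / c) (by
    rw [div_pow, eq_neg_of_add_eq_zero_right hc', eq_neg_of_add_eq_zero_right hc, neg_div_neg_eq])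
  have hl0 : l ≠ 0 := by
    rintro rfl
    rw [zero_mul] at hl
    exact div_ne_zero hc0' hc0 hl.symm
  have fin : ∀ g : SU n F q, ap g v = l • v' → g * tv hF hv hc * g⁻¹ = tv hF hv' hc' := by
    intro g hg
    rw [mul_inv_eq_iff_eq_mul]
    refine ap_ext fun x => ?_
    simp only [ap_mul, ap_tv, ap_add, ap_smul, hg]
    rw [← herm_ap g x v, hg, herm_smul_right, smul_smul]
    congr 2
    have hdc : c' = c * (l * l ^ q) := by rw [hl]; field_simp
    rw [hdc]
    ring
  have hsW : d.sub ≤ W := inf_le_left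
  have hv'' : hermForm n F q (l • v') (l • v') = 0 := by rw [herm_self_smul, hv', mul_zero]
  have hvs'' : l • v' ∈ d.sub := d.sub.smul_mem l hvs'
  have hv0'' : l • v' ≠ 0 := smul_ne_zero hl0 hv0'
  have hfix : ∀ x ∈ ({d.e, d.f} : Set (Fin n → F)), x ∈ perp q (d.sub : Set (Fin n → F)) := by
    rintro x hx w hw
    rcases hx with rfl | rfl
    · exact (herm_eq_zero_symm hF).1 (d.herm_sub_e hw)
    · exact (herm_eq_zero_symm hF).1 (d.herm_sub_f hw)
  rcases Nat.lt_or_ge k 3 with hk | hk
  · -- the orthogonal part is a hyperbolic plane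
    obtain ⟨p, hps, hp, hpv⟩ := exists_partner hF d.nd hvs hv0 hv
    obtain ⟨p', hps', hp', hpv'⟩ := exists_partner hF d.nd hvs'' hv0'' hv''
    have hne : ∀ {v p : Fin n → F}, hermForm n F q p v = 1 → hermForm n F q v p ≠ 0 := by
      intro v p h
      rw [← herm_swap hF p v, h, one_pow]
      exact one_ne_zero
    have hspan : ∀ {v p : Fin n → F}, v ∈ d.sub → p ∈ d.sub → hermForm n F q v v = 0 →
        hermForm n F q p p = 0 → hermForm n F q p v = 1 →
        Submodule.span F ({v, p} : Set (Fin n → F)) = d.sub := by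
      intro v p hv hp hvv hpp hpv
      refine Submodule.eq_of_le_of_finrank_le (span_pair_le hv hp) ?_
      rw [finrank_pair (indep_pair hF hvv (hne hpv))]
      exact le_trans (le_of_eq d.fr) (by omega)
    have hS : d.sub = W ⊓ perp q ({d.e, d.f} : Set (Fin n → F)) := rfl
    obtain ⟨o, ho, hos⟩ := exists_ON_basis hF _ (nondeg_perp hF (W := d.sub) d.nd)
    have hgram : ∀ (v p : Fin n → F), v ∈ d.sub → p ∈ d.sub → hermForm n F q v v = 0 →
        hermForm n F q p p = 0 → hermForm n F q p v = 1 →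
        ∀ i j, hermForm n F q (Sum.elim ![v, p] o i) (Sum.elim ![v, p] o j) =
          Sum.elim (fun a => Sum.elim (fun b => ![![(0 : F), 1], ![1, 0]] a b) (fun _ => 0))
            (fun a => Sum.elim (fun _ => 0) (fun b => if a = b then 1 else 0)) i j := by
      intro v p hvs hps hvv hpp hpv i j
      have hvp : hermForm n F q v p = 1 := by rw [← herm_swap hF p v, hpv, one_pow]
      have hperp : ∀ (x : Fin n → F), x ∈ d.sub → ∀ a, hermForm n F q (o a) x = 0 := fun x hx a => by
        have := hos ▸ (Submodule.subset_span ⟨a, rfl⟩ : o a ∈ Submodule.span F (Set.range o))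
        exact this x hx
      rcases i with a | a <;> rcases j with b | b
      · fin_cases a <;> fin_cases b <;> simp [hvv, hpp, hpv, hvp]
      · fin_cases a <;> simp [(herm_eq_zero_symm hF).1 (hperp v hvs b),
          (herm_eq_zero_symm hF).1 (hperp p hps b)]
      · fin_cases b <;> simp [hperp v hvs a, hperp p hps a]
      · simpa using ho a b
    have hli : LinearIndependent F (Sum.elim ![v, p] o) ∧
        ⊤ ≤ Submodule.span F (Set.range (Sum.elim ![v, p] o)) := by
      have hs1 : Submodule.span F (Set.range ![v, p]) = d.sub := by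
        rw [Matrix.range_cons, Matrix.range_cons, Matrix.range_empty, Set.union_empty,
          Set.singleton_union, hspan hvs hps hv hp hpv]
      refine ⟨LinearIndependent.sum_type (indep_pair hF hv (hne hpv)) ho.linearIndependent ?_, ?_⟩
      · rw [hs1, hos]
        exact (isCompl_perp hF (W := d.sub) d.nd).disjoint
      · rw [Set.Sum.elim_range, Submodule.span_union, hs1, hos]
        exact (isCompl_perp hF (W := d.sub) d.nd).sup_eq_top.ge
    obtain ⟨g, hg⟩ := exists_isometry_of_gram hF hli.1 hli.2 (b := Sum.elim ![l • v', p'] o)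
      fun i j => by rw [hgram v p hvs hps hv hp hpv, hgram _ p' hvs'' hps' hv'' hp' hpv']
    have hgv : gmat g *ᵥ v = l • v' := hg (Sum.inl 0)
    have hgo : ∀ x ∈ perp q (d.sub : Set (Fin n → F)), gmat g *ᵥ x = x := by
      intro x hx
      rw [← hos] at hx
      obtain ⟨s, rfl⟩ := (Submodule.mem_span_range_iff_exists_fun F).1 hx
      rw [Matrix.mulVec_sum]
      exact Finset.sum_congr rfl fun a _ => by
        rw [Matrix.mulVec_smul]; exact congrArg _ (hg (Sum.inr a))
    have hgp : Preserves q (gmat g) := g.2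
    obtain ⟨h, a, hhp, hdet, hhe, hhfix⟩ := exists_torus hF d (hgp.det_norm hF)
    have hp : Preserves q (h * gmat g) := fun x y => by
      rw [← mulVec_mulVec, ← mulVec_mulVec, hhp, hgp]
    have hMd : (h * gmat g).det = 1 := by rw [det_mul, hdet]
    let M : SU n F q := toSU hp hMd
    have hM : ∀ x, ap M x = h *ᵥ (gmat g *ᵥ x) := fun x => by
      show (h * gmat g) *ᵥ x = _
      rw [mulVec_mulVec]
    have hmem : M ∈ GW n F q W := by
      intro x hx
      rw [hM, hgo x fun w hw => hx w (hsW hw)]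
      exact hhfix x (hx _ d.eW) (hx _ d.fW)
    refine ⟨⟨M, hmem⟩, ⟨a, ?_⟩, fin M ?_⟩
    · show ap M d.e = _
      rw [hM, hgo _ (hfix _ (Or.inl rfl)), hhe]
    · rw [hM, hgv, hhfix _ (d.herm_sub_e hvs'') (d.herm_sub_f hvs'')]
  · obtain ⟨g, hg, hgv⟩ := exists_map_isotropic hF d.nd (le_trans hk (le_of_eq d.fr.symm)) hvs hvs''
      hv hv'' hv0 hv0''
    have hg2 : g ∈ GW n F q d.sub := hg.2
    refine ⟨⟨g, GW_mono hsW hg2⟩, ⟨1, ?_⟩, fin g hgv⟩
    rw [one_smul]
    exact hg2 _ (hfix _ (Or.inl rfl))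

/-- The lower bound for representations of the group of a subspace. -/
theorem su_bound (hF : Fintype.card F = q ^ 2) : ∀ (k : ℕ) (W : Submodule F (Fin n → F)),
    Nondeg q W → Module.finrank F W = k →
    ∀ (V : Type) [AddCommGroup V] [Module ℂ V] [FiniteDimensional ℂ V]
      (ρ : Representation ℂ ↥(GW n F q W) V) (θ : ℂ),
      (∀ t : ↥(GW n F q W), IsTv hF W t → ρ.character t = θ) → θ ≠ (Module.finrank ℂ V : ℂ) →
      suLow q k ≤ Module.finrank ℂ V
  | 0 => fun _ _ _ _ _ _ _ _ _ _ _ => Nat.zero_le _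
  | 1 => fun _ _ _ _ _ _ _ _ _ _ _ => Nat.zero_le _
  | k + 2 => by
    intro W hW hfin V _ _ _ ρ θ hθ hne
    classical
    have hq := two_le_q hF
    obtain ⟨d⟩ := exists_frm hF hW hfin
    have := Fintype.ofFinite (skewGrp hF)
    set K := skewGrp hF
    have hzθ : ∀ c : K, c ≠ 0 → ρ.character (zel d hF c) = θ := fun c hc =>
      hθ _ ⟨d.e, c, d.he, skew_mem hF c, d.eW, d.e_ne_zero, fun e => hc (Subtype.ext e), rfl⟩
    set dim := Module.finrank ℂ V
    have hval : ∀ χ : AddChar K ℂ, LinearMap.trace ℂ V (zproj d hF ρ χ) =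
        (q : ℂ)⁻¹ * ((dim : ℂ) - θ + (if χ = 0 then (q : ℂ) else 0) * θ) := by
      intro χ
      simp only [zproj, map_smul, map_sum, smul_eq_mul]
      congr 1
      have e : ∀ c : K, χ (-c) * LinearMap.trace ℂ V (ρ (zel d hF c)) =
          (if c = 0 then (dim : ℂ) - θ else 0) + χ (-c) * θ := by
        intro c
        split_ifs with hc
        · subst hc
          rw [zel_zero, map_one, LinearMap.trace_one, neg_zero, AddChar.map_zero_eq_one]
          ring
        · rw [zero_add, ← hzθ c hc]; rfl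
      rw [Finset.sum_congr rfl fun c _ => e c, Finset.sum_add_distrib, Finset.sum_ite_eq',
        if_pos (Finset.mem_univ _), ← Finset.sum_mul]
      congr 2
      have h := Equiv.sum_comp (Equiv.neg K) (fun c => χ c)
      simp only [Equiv.neg_apply] at h
      rw [h, AddChar.sum_eq_ite, card_skew hF]
    have hnat : ∀ χ : AddChar K ℂ, LinearMap.trace ℂ V (zproj d hF ρ χ) =
        (Module.finrank ℂ (LinearMap.range (zproj d hF ρ χ)) : ℂ) := fun χ =>
      LinearMap.IsProj.trace
        (LinearMap.IsIdempotentElem.isProj_range _ (isIdempotentElem_zproj d hF ρ χ))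
    set a := Module.finrank ℂ (LinearMap.range (zproj d hF ρ 0)) with ha
    have hK1 : 1 < Fintype.card (AddChar K ℂ) := by rw [AddChar.card_eq, card_skew hF]; omega
    obtain ⟨χ₁, hχ₁⟩ := Fintype.exists_ne_of_one_lt_card hK1 0
    set D := Module.finrank ℂ (LinearMap.range (zproj d hF ρ χ₁)) with hD
    have hq0 : (q : ℂ) ≠ 0 := q_cast_ne_zero hF
    have hD' : (dim : ℂ) - θ = q * D := by
      rw [hD, ← hnat, hval, if_neg hχ₁]
      field_simp
      ring
    have hall : ∀ χ : AddChar K ℂ, χ ≠ 0 →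
        Module.finrank ℂ (LinearMap.range (zproj d hF ρ χ)) = D := fun χ hχ =>
      Nat.cast_injective (R := ℂ) (by
        rw [hD, ← hnat, ← hnat, hval, hval, if_neg hχ, if_neg hχ₁])
    have hθa : θ = (a : ℂ) - D := by
      have h0 : (a : ℂ) = (q : ℂ)⁻¹ * ((dim : ℂ) - θ + (q : ℂ) * θ) := by
        rw [ha, ← hnat, hval, if_pos rfl]
      rw [h0, hD']
      field_simp
      ring
    have hdim : dim = a + (q - 1) * D := by
      refine Nat.cast_injective (R := ℂ) ?_
      rw [Nat.cast_add, Nat.cast_mul, Nat.cast_sub (by omega : 1 ≤ q), Nat.cast_one]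
      linear_combination hD' + hθa
    obtain ⟨s, hs⟩ := exists_mult_dvd d hF ρ hχ₁
    rw [← hD] at hs
    have hs0 : s ≠ 0 := by
      rintro rfl
      rw [mul_zero] at hs
      rw [hs, Nat.cast_zero, mul_zero, sub_eq_zero] at hD'
      exact hne hD'.symm
    rw [suLow]
    rcases Nat.lt_or_ge 1 s with hs2 | hs1
    · have h1 := suLow_lt hq k
      have h2 : (q - 1) * (q ^ k * 2) ≤ (q - 1) * D := by
        rw [hs]; exact Nat.mul_le_mul_left _ (Nat.mul_le_mul_left _ hs2)
      have h3 : 1 * q ^ k ≤ (q - 1) * q ^ k := Nat.mul_le_mul_right _ (by omega)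
      rw [← mul_assoc] at h2
      omega
    obtain rfl : s = 1 := by omega
    rw [mul_one] at hs
    suffices hU : suLow q k ≤ a by
      rw [hdim, hs]
      omega
    rcases Nat.lt_or_ge k 2 with hk2 | hk2
    · have : suLow q k = 0 := by rcases (show k = 0 ∨ k = 1 by omega) with e | e <;> rw [e] <;> rfl
      omega
    -- the representation on the fixed space of the root group
    have hsW : d.sub ≤ W := inf_le_left
    let ι : ↥(GW n F q d.sub) →* ↥(GW n F q W) := Subgroup.inclusion (GW_mono hsW)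
    have hmem : ∀ g, ι g ∈ d.stab := fun g => g.2 _ (d.e_mem_perp_sub hF)
    have hcomm : ∀ g, ρ (ι g) * zproj d hF ρ 0 = zproj d hF ρ 0 * ρ (ι g) := fun g =>
      stab_mul_zproj d hF ρ (hmem g) 0
    set σ := rangeRep ρ ι (zproj d hF ρ 0) hcomm
    have hσ : ∀ g, σ.character g = LinearMap.trace ℂ V (ρ (ι g) * zproj d hF ρ 0) := fun g =>
      rangeRep_character ρ ι (isIdempotentElem_zproj d hF ρ 0) hcomm g
    obtain ⟨t₀, ht₀⟩ := exists_tv hF (W := d.sub) d.nd (le_trans hk2 (le_of_eq d.fr.symm))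
    have hconst : ∀ t : ↥(GW n F q d.sub), IsTv hF d.sub t → σ.character t = σ.character t₀ := by
      intro t ht
      obtain ⟨g, ⟨x, hgx⟩, hg⟩ := exists_conj_tv hF d ht₀ ht
      have hx0 : x ≠ 0 := fun e => d.e_ne_zero (ap_injective (g : SU n F q) (by
        rw [hgx, e, zero_smul, ap_zero]))
      set N := x * x ^ q with hN
      have hN0 : N ≠ 0 := mul_ne_zero hx0 (pow_ne_zero _ hx0)
      have hNq : N ^ q = N := norm_pow_q hF x
      let f : K → K := fun c => ⟨(c : F) * N, by
        show (c : F) * N + ((c : F) * N) ^ q = 0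
        rw [mul_pow, hNq, ← add_mul, skew_mem hF c, zero_mul]⟩
      have hfinj : Function.Injective f := fun a b e =>
        Subtype.ext (mul_right_cancel₀ hN0 (congrArg Subtype.val e))
      have hconj : ∀ c : K, g * zel d hF c = zel d hF (f c) * g := by
        intro c
        refine Subtype.ext (ap_ext fun y => ?_)
        rw [Subgroup.coe_mul, Subgroup.coe_mul, ap_mul, ap_mul, ap_zel, ap_zel, ap_add, ap_smul, hgx]
        conv_lhs => rw [← herm_ap (g : SU n F q) y d.e, hgx, herm_smul_right]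
        show _ = _ + ((c : F) * N * _) • d.e
        rw [hN, smul_smul]
        congr 2
        ring
      have hz : ρ g * zproj d hF ρ 0 = zproj d hF ρ 0 * ρ g := by
        simp only [zproj, AddChar.zero_apply, one_smul, mul_smul_comm, smul_mul_assoc, Finset.mul_sum,
          Finset.sum_mul]
        congr 1
        exact Fintype.sum_bijective f ⟨hfinj, Finite.surjective_of_injective hfinj⟩ _ _ fun c => by
          rw [← map_mul, ← map_mul, hconj]
      rw [hσ, hσ]
      have e : ρ (ι t) = ρ g * ρ (ι t₀) * ρ g⁻¹ := by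
        rw [← map_mul, ← map_mul]
        congr 1
        exact Subtype.ext hg.symm
      rw [e, mul_assoc, mul_assoc, LinearMap.trace_mul_comm]
      have hz' : ρ g⁻¹ * zproj d hF ρ 0 * ρ g = zproj d hF ρ 0 := by
        rw [mul_assoc, ← hz, ← mul_assoc, ← map_mul, inv_mul_cancel, map_one, one_mul]
      rw [mul_assoc, hz']
    refine su_bound hF k d.sub d.nd d.fr _ σ (σ.character t₀) hconst fun h0 => ?_
    -- the transvection is non-trivial on the fixed space
    obtain ⟨v, c, hv, hc, hvs, hv0, hc0, htv⟩ := id ht₀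
    have hθt : ρ.character (ι t₀) = θ := hθ _ (ht₀.mono hsW)
    have hsplit : ρ.character (ι t₀) = ∑ χ : AddChar K ℂ,
        LinearMap.trace ℂ V (ρ (ι t₀) * zproj d hF ρ χ) := by
      rw [← map_sum, ← Finset.mul_sum, zproj_sum, mul_one]
      rfl
    rw [← Finset.add_sum_erase _ _ (Finset.mem_univ (0 : AddChar K ℂ)), ← hσ, h0, hθt, hθa] at hsplit
    have hrest : ∑ χ ∈ Finset.univ.erase (0 : AddChar K ℂ),
        LinearMap.trace ℂ V (ρ (ι t₀) * zproj d hF ρ χ) = -(D : ℂ) := by
      rw [← ha] at hsplit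
      linear_combination -hsplit
    have hle : ‖∑ χ ∈ Finset.univ.erase (0 : AddChar K ℂ),
        LinearMap.trace ℂ V (ρ (ι t₀) * zproj d hF ρ χ)‖ ≤ ((q : ℝ) - 1) * (q : ℝ) ^ (k - 1) := by
      refine (norm_sum_le _ _).trans ((Finset.sum_le_card_nsmul _ _ ((q : ℝ) ^ (k - 1)) fun χ hχ => ?_).trans ?_)
      · exact norm_trace_le d hF ρ (Finset.ne_of_mem_erase hχ)
          (by rw [hall χ (Finset.ne_of_mem_erase hχ), hs]) hv hc hc0 hv0 hvs
          (g := ⟨ι t₀, hmem t₀⟩) htv
      · rw [Finset.card_erase_of_mem (Finset.mem_univ _), Finset.card_univ, AddChar.card_eq,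
          card_skew hF, nsmul_eq_mul, Nat.cast_sub (by omega : 1 ≤ q), Nat.cast_one]
    rw [hrest, norm_neg, Complex.norm_natCast, hs, Nat.cast_pow] at hle
    have hpow : (q : ℝ) ^ k = (q : ℝ) ^ (k - 1) * q := by rw [← pow_succ, Nat.sub_add_cancel (by omega : 1 ≤ k)]
    have hp : (0 : ℝ) < (q : ℝ) ^ (k - 1) := pow_pos (Nat.cast_pos.2 (by omega)) _
    nlinarith

end Cfsg.Agent.H53

namespace Cfsg.Agent.H53

open Cfsg Matrix
open Cfsg.Agent.Unitary

/-- The lower bound for SU(n, q). -/
theorem su_lower {F : Type*} [Field F] [Fintype F] {n q : ℕ} (hF : Fintype.card F = q ^ 2)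
    (hbig : 4 ≤ n ∨ (n = 3 ∧ 3 ≤ q)) (k : ℕ) (ρ : Representation ℂ (SU n F q) (Fin k → ℂ))
    (hρ : ρ.IsIrreducible) (hk : 2 ≤ k) : suLow q n ≤ k := by
  classical
  have hn : 3 ≤ n := by omega
  have htop : Module.finrank F (⊤ : Submodule F (Fin n → F)) = n := by
    rw [finrank_top, Module.finrank_fin_fun]
  obtain ⟨t₀, ht₀⟩ := exists_tv hF (nondeg_top hF (n := n)) (by omega)
  obtain ⟨v₀, c₀, hv₀, hc₀, -, hv₀0, hc₀0, ht₀e⟩ := id ht₀
  have hdim : Module.finrank ℂ (Fin k → ℂ) = k := Module.finrank_fin_fun ℂ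
  have hconst : ∀ (v : Fin n → F) (c : F) (hv : hermForm n F q v v = 0) (hc : c + c ^ q = 0),
      v ≠ 0 → c ≠ 0 → ρ.character (tv hF hv hc) = ρ.character (tv hF hv₀ hc₀) := by
    intro v c hv hc hv0 hc0
    obtain ⟨g, hg⟩ := isConj_iff.1 (isConj_tv hF hn hv₀ hc₀ hv hc hv₀0 hv0 hc₀0 hc0)
    rw [← hg, Representation.char_conj]
  have hne : ρ.character (tv hF hv₀ hc₀) ≠ (k : ℂ) := by
    intro h
    let N : Subgroup (SU n F q) := MonoidHom.ker ρ
    have htg : tgroup n F q ≤ N := by
      refine (Subgroup.closure_le N).2 ?_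
      rintro A ⟨v, c, hv, hA⟩
      show ρ A = 1
      rcases eq_or_ne v 0 with rfl | hv0
      · rw [show A = 1 from ap_ext fun x => by
          rw [ap_def, hA, unitaryTransvection_mulVec, smul_zero, add_zero, ap_one], map_one]
      rcases eq_or_ne c 0 with rfl | hc0
      · rw [show A = 1 from ap_ext fun x => by
          rw [ap_def, hA, unitaryTransvection_mulVec, zero_mul, zero_smul, add_zero, ap_one], map_one]
      have hc : c + c ^ q = 0 := by
        obtain ⟨z, -, hz, hzv⟩ := exists_partner hF (nondeg_top hF) Submodule.mem_top hv0 hv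
        have h1 := herm_ap A z z
        rw [ap_def, hA, unitaryTransvection_mulVec, hzv, mul_one, herm_self_add hF, herm_self_smul,
          herm_smul_right, hzv, mul_one, pow_q_q hF, hv, hz] at h1
        linear_combination h1
      rw [show A = tv hF hv hc from Subtype.ext (Subtype.ext (hA.trans (mat_tv hF hv hc).symm))]
      exact (CharBasic.character_eq_finrank_iff ρ _).1 (by rw [hconst v c hv hc hv0 hc0, h, hdim])
    rw [tgroup_eq_top hF hbig] at htg
    have h1 : Module.finrank ℂ (Fin k → ℂ) ≤ 1 := by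
      by_contra hd
      have : Nontrivial (Fin k → ℂ) := Module.nontrivial_of_finrank_pos (R := ℂ) (by omega)
      obtain ⟨x, hx⟩ := exists_ne (0 : Fin k → ℂ)
      let S : Subrepresentation ρ :=
        ⟨Submodule.span ℂ {x}, fun g v hv => by
          rw [show ρ g = 1 from htg (Subgroup.mem_top g)]; exact hv⟩
      rcases IsSimpleOrder.eq_bot_or_eq_top S with e | e
      · have h1 : Submodule.span ℂ {x} = ⊥ := congrArg Subrepresentation.toSubmodule e
        rw [Submodule.span_singleton_eq_bot] at h1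
        exact hx h1
      · have h1 : Submodule.span ℂ {x} = (⊤ : Submodule ℂ (Fin k → ℂ)) :=
          congrArg Subrepresentation.toSubmodule e
        have h2 := finrank_span_singleton (K := ℂ) hx
        rw [h1, finrank_top] at h2
        omega
    omega
  have h := su_bound hF n ⊤ (nondeg_top hF) htop (Fin k → ℂ)
    (MonoidHom.comp ρ (GW n F q (⊤ : Submodule F (Fin n → F))).subtype)
    (ρ.character (tv hF hv₀ hc₀)) ?_ (by rw [hdim]; exact hne)
  · rwa [hdim] at h
  · rintro t ⟨v, c, hv, hc, -, hv0, hc0, ht⟩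
    show ρ.character (t : SU n F q) = _
    rw [ht]
    exact hconst v c hv hc hv0 hc0

theorem suLow_eq_odd {q n : ℕ} (hq : 2 ≤ q) (hn : Odd n) : (q ^ n - q) / (q + 1) = suLow q n := by
  have h := suLow_closed (by omega : 1 ≤ q) n
  rw [if_neg (Nat.not_even_iff_odd.2 hn)] at h
  refine Nat.div_eq_of_eq_mul_left (Nat.succ_pos _) ?_
  have : q ≤ q ^ n := Nat.le_self_pow (by have := hn.pos; omega) q
  zify [this]
  exact h.symm

theorem suLow_eq_even {q n : ℕ} (hq : 2 ≤ q) (hn : Even n) : (q ^ n - 1) / (q + 1) = suLow q n := by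
  have h := suLow_closed (by omega : 1 ≤ q) n
  rw [if_pos hn] at h
  refine Nat.div_eq_of_eq_mul_left (Nat.succ_pos _) ?_
  have : 1 ≤ q ^ n := Nat.one_le_pow _ _ (by omega)
  zify [this]
  exact h.symm

end Cfsg.Agent.H53
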