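import Mathlib
import Cfsg.Agent.H53.Words
import Cfsg.Agent.H53.TopProd

/-!
Every non-trivial word has a non-trivial value in `SL(2, F)` on commutators, for all large fields.
-/

set_option autoImplicit false

namespace Cfsg.Agent.H53

open Polynomial Matrix FreeGroup
open scoped MatrixGroups

section

variable {F : Type*} [Field F]

/-- A matrix of determinant one whose columns have slopes `a` and `b` (if `a ≠ b`). -/
noncomputable def slopeMat (a b : F) : SL(2, F) :=
  open scoped Classical in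
  if h : b - a = 0 then 1
  else ⟨!![1, (b - a)⁻¹; a, b * (b - a)⁻¹], by simp [Matrix.det_fin_two]; field_simp⟩

theorem coe_slopeMat {a b : F} (h : a ≠ b) :
    (slopeMat a b : Matrix (Fin 2) (Fin 2) F) = !![1, (b - a)⁻¹; a, b * (b - a)⁻¹] := by
  have : b - a ≠ 0 := sub_ne_zero.mpr h.symm
  simp [slopeMat, this]

/-- `diag(t, t⁻¹)`. -/
def diagSL (t : F) (ht : t ≠ 0) : SL(2, F) :=
  ⟨!![t, 0; 0, t⁻¹], by simp [Matrix.det_fin_two, ht]⟩

/-- The Weyl element of `SL(2, F)`. -/
def weylSL : SL(2, F) := ⟨!![0, 1; -1, 0], by simp [Matrix.det_fin_two]⟩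

theorem coe_diagSL (t : F) (ht : t ≠ 0) :
    (diagSL t ht : Matrix (Fin 2) (Fin 2) F) = !![t, 0; 0, t⁻¹] := rfl

theorem diagSL_inv (t : F) (ht : t ≠ 0) : (diagSL t ht)⁻¹ = diagSL t⁻¹ (inv_ne_zero ht) := by
  refine inv_eq_of_mul_eq_one_right (Subtype.ext ?_)
  rw [Matrix.SpecialLinearGroup.coe_mul, coe_diagSL, coe_diagSL]
  ext i j
  fin_cases i <;> fin_cases j <;> simp [ht]

theorem diagSL_sq_eq (t : F) (ht : t ≠ 0) :
    diagSL (t ^ 2) (pow_ne_zero 2 ht) = diagSL t ht * weylSL * (diagSL t ht)⁻¹ * weylSL⁻¹ := by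
  rw [eq_mul_inv_iff_mul_eq, eq_mul_inv_iff_mul_eq]
  apply Subtype.ext
  simp only [Matrix.SpecialLinearGroup.coe_mul, coe_diagSL]
  ext i j
  fin_cases i <;> fin_cases j <;> simp [weylSL] <;> field_simp

end

/-- Every non-trivial word has a non-trivial value on commutators of `SL(2, F)`, for all large
finite fields `F`. -/
theorem exists_sl2_lift_ne_one {α : Type*} (w : FreeGroup α) (hw : w ≠ 1) :
    ∃ N : ℕ, ∀ (F : Type*) [Field F] [Finite F], N ≤ Nat.card F →
      ∃ f : α → SL(2, F), FreeGroup.lift f w ≠ 1 ∧ ∀ a, f a ∈ commutator SL(2, F) := by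
  classical
  set L := w.toWord with hL
  have hne : L ≠ [] := fun e => hw (toWord_eq_nil_iff.mp e)
  set S := (L.map Prod.fst).toFinset with hS
  refine ⟨4 * L.length + 2 * S.card + 2, fun F _ _ hcard => ?_⟩
  cases nonempty_fintype F
  rw [Nat.card_eq_fintype_card] at hcard
  have hemb : Nonempty (({a // a ∈ S} × Bool) ↪ F) :=
    Function.Embedding.nonempty_of_card_le (by simp; omega)
  obtain ⟨σ⟩ := hemb
  let sl : α → Bool → F := fun a b => if h : a ∈ S then σ (⟨a, h⟩, b) else if b then 0 else 1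
  have hsl : ∀ a, sl a true ≠ sl a false := by
    intro a
    simp only [sl]
    split_ifs with h
    · exact fun e => by simpa using σ.injective e
    all_goals simp_all
  have hslinj : ∀ a ∈ S, ∀ b ∈ S, ∀ x y, sl a x = sl b y → a = b ∧ x = y := by
    intro a ha b hb x y e
    simp only [sl, dif_pos ha, dif_pos hb] at e
    simpa using σ.injective e
  let M : α → SL(2, F) := fun a => slopeMat (sl a true) (sl a false)
  have hM : ∀ a, (M a : Matrix (Fin 2) (Fin 2) F) = !![1, (sl a false - sl a true)⁻¹;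
      sl a true, sl a false * (sl a false - sl a true)⁻¹] := fun a => coe_slopeMat (hsl a)
  let idx : Bool → Fin 2 := fun b => if b then 0 else 1
  let u : α × Bool → Fin 2 → F := fun x k => (M x.1 : Matrix (Fin 2) (Fin 2) F) k (idx x.2)
  let v : α × Bool → Fin 2 → F :=
    fun x k => ((M x.1)⁻¹ : SL(2, F)).1 (idx x.2) k
  let A : α × Bool → Matrix (Fin 2) (Fin 2) F[X] := fun x =>
    (M x.1 : Matrix (Fin 2) (Fin 2) F).map Polynomial.C *
      Matrix.diagonal (fun k => if k = idx x.2 then (Polynomial.X : F[X]) ^ 4 else 1) *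
      ((M x.1)⁻¹ : SL(2, F)).1.map Polynomial.C
  have hdC : ∀ B : Matrix (Fin 2) (Fin 2) F, DegLE 0 (B.map Polynomial.C) := by
    intro B i j; simp [Matrix.map_apply]
  have hdD : ∀ b : Bool, DegLE 4
      (Matrix.diagonal (fun k => if k = idx b then (Polynomial.X : F[X]) ^ 4 else 1)) := by
    intro b i j
    rw [Matrix.diagonal_apply]
    split_ifs <;> simp
  have hdeg : ∀ x, DegLE 4 (A x) := fun x => by
    simpa [A] using ((hdC _).mul (hdD x.2)).mul (hdC ((M x.1)⁻¹ : SL(2, F)).1)
  have hcC : ∀ B : Matrix (Fin 2) (Fin 2) F, coeffMat 0 (B.map Polynomial.C) = B := by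
    intro B; ext i j; simp [coeffMat]
  have htop : ∀ x, coeffMat 4 (A x) = vecMulVec (u x) (v x) := by
    intro x
    have h1 := coeffMat_mul ((hdC (M x.1).1).mul (hdD x.2)) (hdC ((M x.1)⁻¹ : SL(2, F)).1)
    have h2 := coeffMat_mul (hdC (M x.1).1) (hdD x.2)
    simp only [zero_add, add_zero] at h1 h2
    show coeffMat 4 (_ * _ * _) = _
    rw [h1, h2, hcC, hcC]
    ext i j
    simp only [Matrix.mul_apply, Fin.sum_univ_two, coeffMat, Matrix.map_apply, vecMulVec_apply,
      u, v, Matrix.diagonal_apply]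
    obtain ⟨a, b⟩ := x
    cases b <;> simp [idx, Polynomial.coeff_one]
  have hinv : ∀ a, ((M a)⁻¹ : SL(2, F)).1 =
      !![sl a false * (sl a false - sl a true)⁻¹, -(sl a false - sl a true)⁻¹;
        -sl a true, 1] := by
    intro a
    rw [Matrix.SpecialLinearGroup.coe_inv, hM, Matrix.adjugate_fin_two]
    simp
  let R : α × Bool → α × Bool → Prop := fun x y =>
    x.1 ∈ S ∧ y.1 ∈ S ∧ (x.1 = y.1 → x.2 = y.2)
  have hR : ∀ x y, R x y → v x ⬝ᵥ u y ≠ 0 := by
    rintro ⟨a, b⟩ ⟨a', b'⟩ ⟨ha, ha', hbb⟩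
    have hδ : sl a false - sl a true ≠ 0 := sub_ne_zero.mpr (hsl a).symm
    have hδ' : sl a' false - sl a' true ≠ 0 := sub_ne_zero.mpr (hsl a').symm
    have key : sl a (!b) - sl a' b' ≠ 0 := by
      intro e
      obtain ⟨rfl, h⟩ := hslinj a ha a' ha' _ _ (sub_eq_zero.mp e)
      have := hbb rfl
      simp only at this
      subst this
      cases b <;> simp at h
    simp only [dotProduct, Fin.sum_univ_two, u, v, hinv, hM]
    cases b <;> cases b' <;> simp [idx] at key ⊢ <;> intro e <;> apply key <;>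
      (try field_simp at e) <;> grind
  have hu : ∀ x, u x ≠ 0 := by
    rintro ⟨a, b⟩ h
    have := congrFun h 0
    simp only [u, hM] at this
    cases b <;> simp [idx, sub_eq_zero, (hsl a).symm] at this
  have hv : ∀ x, v x ≠ 0 := by
    rintro ⟨a, b⟩ h
    have := congrFun h 1
    simp only [v, hinv] at this
    cases b <;> simp [idx, sub_eq_zero, (hsl a).symm] at this
  have hchain : List.IsChain R L := by
    have h1 : List.IsChain (fun a b : α × Bool => a.1 = b.1 → a.2 = b.2) L := isReduced_toWord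
    rw [List.isChain_iff_getElem] at h1 ⊢
    intro i hi
    refine ⟨?_, ?_, h1 i hi⟩ <;>
      exact List.mem_toFinset.mpr (List.mem_map.mpr ⟨_, List.getElem_mem _, rfl⟩)
  have hT : 4 * L.length < (Finset.univ.erase (0 : F)).card := by
    rw [Finset.card_erase_of_mem (Finset.mem_univ _), Finset.card_univ]
    omega
  obtain ⟨t, ht, hne'⟩ :=
    exists_eval_ne R A u v 4 2 (by norm_num) hdeg htop hR hu hv L hchain hne _ hT
  have ht0 : t ≠ 0 := (Finset.mem_erase.mp ht).1
  refine ⟨fun a => M a * diagSL (t ^ 2) (pow_ne_zero 2 ht0) * (M a)⁻¹, ?_, fun a => ?_⟩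
  · intro heq
    apply hne'
    set f : α → SL(2, F) := fun a => M a * diagSL (t ^ 2) (pow_ne_zero 2 ht0) * (M a)⁻¹
    have hdiag : ∀ b : Bool, (Matrix.diagonal (fun k =>
        if k = idx b then (Polynomial.X : F[X]) ^ 4 else 1)).map (Polynomial.evalRingHom t) =
        t ^ 2 • (cond b (diagSL (t ^ 2) (pow_ne_zero 2 ht0))
          (diagSL (t ^ 2) (pow_ne_zero 2 ht0))⁻¹ : SL(2, F)).1 := by
      intro b
      rw [diagSL_inv]
      ext i j
      cases b <;> fin_cases i <;> fin_cases j <;>
        simp [idx, coe_diagSL, Matrix.diagonal] <;> field_simp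
    have hmapC : ∀ B : Matrix (Fin 2) (Fin 2) F,
        (B.map Polynomial.C).map (Polynomial.evalRingHom t) = B := by
      intro B; ext i j; simp
    have hA : ∀ x : α × Bool, (A x).map (Polynomial.evalRingHom t) =
        t ^ 2 • ((cond x.2 (f x.1) (f x.1)⁻¹ : SL(2, F)) : Matrix (Fin 2) (Fin 2) F) := by
      rintro ⟨a, b⟩
      have e : (cond b (f a) (f a)⁻¹ : SL(2, F)) = M a * cond b (diagSL (t ^ 2) (pow_ne_zero 2 ht0))
          (diagSL (t ^ 2) (pow_ne_zero 2 ht0))⁻¹ * (M a)⁻¹ := by
        cases b <;> simp [f, mul_assoc]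
      simp only [A, Matrix.map_mul, hmapC, hdiag, e, Matrix.SpecialLinearGroup.coe_mul,
        Matrix.smul_mul, Matrix.mul_smul]
    have hprod : ∀ K : List (α × Bool), ((K.map A).prod).map (Polynomial.evalRingHom t) =
        t ^ (2 * K.length) •
          (((K.map fun x => cond x.2 (f x.1) (f x.1)⁻¹).prod : SL(2, F)) :
            Matrix (Fin 2) (Fin 2) F) := by
      intro K
      induction K with
      | nil => simp [Matrix.map_one]
      | cons x K ih =>
        simp only [List.map_cons, List.prod_cons, Matrix.map_mul, ih, hA,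
          Matrix.SpecialLinearGroup.coe_mul, Matrix.smul_mul, Matrix.mul_smul, smul_smul,
          List.length_cons]
        congr 1
        ring
    rw [hprod]
    have : FreeGroup.lift f (FreeGroup.mk L) = 1 := by rw [hL, mk_toWord]; exact heq
    rw [lift_mk] at this
    rw [this]
    rfl
  · refine Subgroup.Normal.conj_mem inferInstance _ ?_ (M a)
    rw [diagSL_sq_eq t ht0]
    exact Subgroup.commutator_mem_commutator (Subgroup.mem_top _) (Subgroup.mem_top _)

end Cfsg.Agent.H53
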