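import Cfsg.Prelude.Def_Classical
import Cfsg.Agent.H53.SLTwo

/-!
A non-trivial word is a law of only finitely many of the groups SL_n, Sp_2m, SU_n and Ω.
-/

set_option autoImplicit false

namespace Cfsg.Agent.H53

open Matrix
open scoped MatrixGroups

universe u v

variable {m : ℕ} {F : Type u} [Field F]

/-- The alternating group inside `SL_m`, as permutation matrices. -/
noncomputable def altSL (m : ℕ) (F : Type u) [Field F] : alternatingGroup (Fin m) →* SL(m, F) where
  toFun σ := ⟨Matrix.permMatrixHom σ.1, by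
    show ((σ.1)⁻¹.permMatrix F).det = 1
    rw [det_permutation, Equiv.Perm.sign_inv, Equiv.Perm.mem_alternatingGroup.mp σ.2]; simp⟩
  map_one' := Subtype.ext (_root_.map_one Matrix.permMatrixHom)
  map_mul' σ τ := Subtype.ext (_root_.map_mul Matrix.permMatrixHom σ.1 τ.1)

theorem altSL_injective : Function.Injective (altSL m F) := by
  intro σ τ h
  have h1 : ((σ.1)⁻¹).permMatrix F = ((τ.1)⁻¹).permMatrix F := congrArg Subtype.val h
  apply Subtype.ext
  apply inv_injective
  apply Equiv.ext
  intro i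
  have h2 := congrFun (congrFun h1 i) ((σ.1)⁻¹ i)
  simp [Equiv.toPEquiv, PEquiv.toMatrix_apply] at h2
  exact h2.symm

/-- A matrix on two letters, extended by the identity to `m ≥ 2` letters. -/
def blockTwo (hm : 2 ≤ m) (M : Matrix (Fin 2) (Fin 2) F) : Matrix (Fin m) (Fin m) F :=
  Matrix.reindexAlgEquiv F F (finSumFinEquiv.trans (finCongr (Nat.add_sub_cancel' hm)))
    (Matrix.fromBlocks M 0 0 (1 : Matrix (Fin (m - 2)) (Fin (m - 2)) F))

theorem blockTwo_one (hm : 2 ≤ m) : blockTwo (F := F) hm 1 = 1 := by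
  rw [blockTwo, Matrix.fromBlocks_one]
  exact _root_.map_one _

theorem blockTwo_mul (hm : 2 ≤ m) (A B : Matrix (Fin 2) (Fin 2) F) :
    blockTwo hm (A * B) = blockTwo hm A * blockTwo hm B := by
  rw [blockTwo, blockTwo, blockTwo, ← _root_.map_mul, Matrix.fromBlocks_multiply]
  simp

theorem blockTwo_injective (hm : 2 ≤ m) : Function.Injective (blockTwo (F := F) hm) := by
  intro A B h
  have := (Matrix.reindexAlgEquiv F F _).injective h
  exact (Matrix.fromBlocks_inj.mp this).1

theorem det_blockTwo (hm : 2 ≤ m) (M : Matrix (Fin 2) (Fin 2) F) :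
    (blockTwo hm M).det = M.det := by
  rw [blockTwo, Matrix.det_reindexAlgEquiv, Matrix.det_fromBlocks_zero₂₁, Matrix.det_one, mul_one]

/-- `SL_2` inside `SL_m`. -/
def twoSL (hm : 2 ≤ m) : SL(2, F) →* SL(m, F) where
  toFun M := ⟨blockTwo hm M.1, by rw [det_blockTwo, M.2]⟩
  map_one' := Subtype.ext (blockTwo_one hm)
  map_mul' A B := Subtype.ext (blockTwo_mul hm A.1 B.1)

theorem twoSL_injective (hm : 2 ≤ m) : Function.Injective (twoSL (F := F) hm) :=
  fun _ _ h => Subtype.ext (blockTwo_injective hm (congrArg Subtype.val h))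

theorem mem_commutator_map {G H : Type*} [Group G] [Group H] (φ : G →* H) {x : G}
    (hx : x ∈ commutator G) : φ x ∈ commutator H := by
  have h : (commutator G).map φ ≤ commutator H := by
    rw [_root_.commutator, Subgroup.map_commutator]
    exact Subgroup.commutator_mono le_top le_top
  exact h (Subgroup.mem_map_of_mem φ hx)

/-- A non-trivial word is a law of `SL_m(F)'` only for bounded `m` and `F`. -/
theorem exists_bound_SL (w : FreeGroup ℕ) (hw : w ≠ 1) :
    ∃ N : ℕ, ∀ (F : Type u) [Field F] [Finite F] (m : ℕ), 2 ≤ m →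
      IsLaw w ↥(commutator SL(m, F)) → Nat.card F < N ∧ m < N := by
  obtain ⟨N₁, h₁⟩ := exists_sl2_lift_ne_one.{0, u} w hw
  obtain ⟨N₂, h₂⟩ := exists_alternating_not_law w hw
  refine ⟨max N₁ (max N₂ 5), fun F _ _ m hm hlaw => ⟨?_, ?_⟩⟩
  · by_contra hF
    obtain ⟨f, hf, hfc⟩ := h₁ F (by omega)
    apply hf
    apply twoSL_injective (F := F) hm
    rw [lift_comp_hom, _root_.map_one]
    have h := congrArg Subtype.val (hlaw fun a => ⟨twoSL hm (f a), mem_commutator_map _ (hfc a)⟩)
    rw [← Subgroup.coe_subtype, lift_comp_hom] at h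
    exact h
  · by_contra hM
    refine h₂ m (by omega) (IsLaw.of_injective hlaw
      ((altSL m F).codRestrict _ fun σ => ?_) fun a b h => altSL_injective (congrArg Subtype.val h))
    apply mem_commutator_map
    rw [commutator_alternatingGroup_eq_top (by simp; omega)]
    exact Subgroup.mem_top _

/-- `A ↦ diag(A, A⁻ᵀ)` from `SL_m` to `GL_{2m}`. -/
def hypGL (m : ℕ) (F : Type u) [Field F] : SL(m, F) →* GL (Fin m ⊕ Fin m) F :=
  MonoidHom.toHomUnits
    { toFun := fun A => Matrix.fromBlocks A.1 0 0 (A⁻¹ : SL(m, F)).1ᵀ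
      map_one' := by simp [Matrix.fromBlocks_one]
      map_mul' := fun A B => by
        rw [Matrix.fromBlocks_multiply, _root_.mul_inv_rev, Matrix.SpecialLinearGroup.coe_mul,
          Matrix.SpecialLinearGroup.coe_mul, Matrix.transpose_mul]
        simp }

theorem coe_hypGL (A : SL(m, F)) : (hypGL m F A : Matrix (Fin m ⊕ Fin m) (Fin m ⊕ Fin m) F) =
    Matrix.fromBlocks A.1 0 0 (A⁻¹ : SL(m, F)).1ᵀ := rfl

theorem hypGL_injective : Function.Injective (hypGL m F) := by
  intro A B h
  exact Subtype.ext (Matrix.fromBlocks_inj.mp (congrArg Units.val h)).1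

theorem coe_inv_mul_coe (A : SL(m, F)) : (A⁻¹ : SL(m, F)).1 * A.1 = 1 := by
  rw [← Matrix.SpecialLinearGroup.coe_mul, inv_mul_cancel, Matrix.SpecialLinearGroup.coe_one]

theorem coe_mul_coe_inv (A : SL(m, F)) : A.1 * (A⁻¹ : SL(m, F)).1 = 1 := by
  rw [← Matrix.SpecialLinearGroup.coe_mul, mul_inv_cancel, Matrix.SpecialLinearGroup.coe_one]

/-- `SL_m` inside `Sp_2m`. -/
def hypSp (m : ℕ) (F : Type u) [Field F] : SL(m, F) →* Matrix.symplecticGroup (Fin m) F :=
  ((Units.coeHom _).comp (hypGL m F)).codRestrict _ fun A => by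
    rw [SymplecticGroup.mem_iff]
    show (hypGL m F A).1 * Matrix.J _ F * (hypGL m F A).1ᵀ = _
    rw [coe_hypGL, Matrix.J, Matrix.fromBlocks_transpose, Matrix.fromBlocks_multiply,
      Matrix.fromBlocks_multiply]
    simp only [Matrix.transpose_zero, Matrix.transpose_transpose, Matrix.mul_zero, Matrix.zero_mul,
      add_zero, zero_add, Matrix.mul_neg, Matrix.mul_one, Matrix.neg_mul, coe_mul_coe_inv]
    rw [← Matrix.transpose_mul, coe_mul_coe_inv, Matrix.transpose_one, neg_zero]

theorem hyp_form (A : SL(m, F)) (v : Fin m ⊕ Fin m → F) :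
    quadFormPlus m F ((hypGL m F A : Matrix (Fin m ⊕ Fin m) (Fin m ⊕ Fin m) F) *ᵥ v) =
      quadFormPlus m F v := by
  show (fun i => (_ *ᵥ v) (Sum.inl i)) ⬝ᵥ (fun i => (_ *ᵥ v) (Sum.inr i)) =
    (fun i => v (Sum.inl i)) ⬝ᵥ (fun i => v (Sum.inr i))
  rw [coe_hypGL, Matrix.fromBlocks_mulVec]
  simp only [Sum.elim_inl, Sum.elim_inr, Matrix.zero_mulVec, add_zero, zero_add]
  show (A.1 *ᵥ (v ∘ Sum.inl)) ⬝ᵥ ((A⁻¹ : SL(m, F)).1ᵀ *ᵥ (v ∘ Sum.inr)) =
    (v ∘ Sum.inl) ⬝ᵥ (v ∘ Sum.inr)
  rw [Matrix.mulVec_transpose, dotProduct_comm, ← Matrix.dotProduct_mulVec, Matrix.mulVec_mulVec,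
    coe_inv_mul_coe, Matrix.one_mulVec, dotProduct_comm]

/-- `SL_m` inside `O⁺_2m`. -/
def hypPlus (m : ℕ) (F : Type u) [Field F] : SL(m, F) →* isometryGroup F (quadFormPlus m F) :=
  (hypGL m F).codRestrict _ fun A v _ => hyp_form A v

/-- `g ↦ diag(1, g)`. -/
def extLeft (ι κ : Type) [Fintype ι] [DecidableEq ι] [Fintype κ] [DecidableEq κ] (F : Type u)
    [Field F] : GL κ F →* GL (ι ⊕ κ) F :=
  MonoidHom.toHomUnits
    { toFun := fun g => Matrix.fromBlocks 1 0 0 g.1
      map_one' := by simp [Matrix.fromBlocks_one]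
      map_mul' := fun a b => by simp [Matrix.fromBlocks_multiply] }

/-- `g ↦ diag(g, 1)`. -/
def extRight (ι κ : Type) [Fintype ι] [DecidableEq ι] [Fintype κ] [DecidableEq κ] (F : Type u)
    [Field F] : GL ι F →* GL (ι ⊕ κ) F :=
  MonoidHom.toHomUnits
    { toFun := fun g => Matrix.fromBlocks g.1 0 0 1
      map_one' := by simp [Matrix.fromBlocks_one]
      map_mul' := fun a b => by simp [Matrix.fromBlocks_multiply] }

/-- `SL_m` inside `O_{2m+1}`. -/
def hypOdd (m : ℕ) (F : Type u) [Field F] : SL(m, F) →* isometryGroup F (quadFormOdd m F) :=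
  ((extLeft Unit (Fin m ⊕ Fin m) F).comp (hypGL m F)).codRestrict _ fun A v _ => by
    show quadFormOdd m F (Matrix.fromBlocks 1 0 0 (hypGL m F A).1 *ᵥ v) = _
    rw [Matrix.fromBlocks_mulVec]
    have := hyp_form A (v ∘ Sum.inr)
    simp only [quadFormPlus, quadFormOdd, Sum.elim_inl, Sum.elim_inr, Matrix.zero_mulVec,
      Matrix.one_mulVec, Function.comp_apply, add_zero, zero_add]
      at this ⊢
    rw [this]

/-- `SL_m` inside the orthogonal group of a form `hyperbolic ⊕ binary`. -/
def hypMinus (m : ℕ) (F : Type u) [Field F] (a b : F) :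
    SL(m, F) →* isometryGroup F (quadFormMinus m F a b) :=
  ((extRight (Fin m ⊕ Fin m) (Fin 2) F).comp (hypGL m F)).codRestrict _ fun A v _ => by
    show quadFormMinus m F a b (Matrix.fromBlocks (hypGL m F A).1 0 0 1 *ᵥ v) = _
    rw [Matrix.fromBlocks_mulVec]
    have := hyp_form A (v ∘ Sum.inl)
    simp only [quadFormPlus, quadFormMinus, Sum.elim_inl, Sum.elim_inr, Matrix.zero_mulVec,
      Matrix.one_mulVec, Function.comp_apply, add_zero, zero_add]
      at this ⊢
    rw [this]

theorem hypPlus_injective : Function.Injective (hypPlus m F) := fun _ _ h =>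
  hypGL_injective (congrArg Subtype.val h)

theorem hypSp_injective : Function.Injective (hypSp m F) := fun _ _ h =>
  hypGL_injective (Units.ext (congrArg Subtype.val h))

theorem hypOdd_injective : Function.Injective (hypOdd m F) := fun _ _ h =>
  hypGL_injective (Units.ext (Matrix.fromBlocks_inj.mp
    (congrArg (fun g => Units.val (Subtype.val g)) h)).2.2.2)

theorem hypMinus_injective {a b : F} : Function.Injective (hypMinus m F a b) := fun _ _ h =>
  hypGL_injective (Units.ext (Matrix.fromBlocks_inj.mp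
    (congrArg (fun g => Units.val (Subtype.val g)) h)).1)

/-- A law of the derived group passes back along an injective map. -/
theorem IsLaw.commutator_of_injective {α : Type*} {w : FreeGroup α} {G H : Type*} [Group G]
    [Group H] (h : IsLaw w ↥(commutator H)) (φ : G →* H) (hφ : Function.Injective φ) :
    IsLaw w ↥(commutator G) :=
  h.of_injective ((φ.comp (commutator G).subtype).codRestrict _
    fun x => mem_commutator_map φ x.2) fun _ _ e => Subtype.ext (hφ (congrArg Subtype.val e))

theorem IsLaw.commutator {α : Type*} {w : FreeGroup α} {H : Type*} [Group H]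
    (h : IsLaw w H) : IsLaw w ↥(_root_.commutator H) :=
  h.of_injective (_root_.commutator H).subtype Subtype.val_injective

end Cfsg.Agent.H53
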