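import Cfsg.Agent.Linear.TwoGL

/-!
Conjugacy classes of GL₂: scalars, and one class for each trace and non-zero determinant.
-/

set_option autoImplicit false

namespace Cfsg.Agent.H53

open Matrix
open Cfsg.Agent.Linear (IsScalarTwo glOfDet)

variable {F : Type*} [Field F]

local notation "G2" => Matrix.GeneralLinearGroup (Fin 2) F
local notation "M2" => Matrix (Fin 2) (Fin 2) F

theorem isConj_iff_mat {g h : G2} :
    IsConj g h ↔ ∃ P : G2, (P : M2) * (g : M2) = (h : M2) * (P : M2) := by
  rw [isConj_iff]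
  refine exists_congr fun P => ?_
  rw [mul_inv_eq_iff_eq_mul, ← Units.val_mul, ← Units.val_mul, Units.ext_iff]

theorem isConj_of_trace_det {g h : G2} (hg : ¬ IsScalarTwo (g : M2)) (hh : ¬ IsScalarTwo (h : M2))
    (ht : (g : M2).trace = (h : M2).trace) (hd : (g : M2).det = (h : M2).det) : IsConj g h := by
  obtain ⟨P, hP, e⟩ := Linear.exists_conj_of_trace_det hg hh ht hd
  exact isConj_iff_mat.mpr ⟨glOfDet P (isUnit_iff_ne_zero.mpr hP), e⟩

theorem trace_det_of_isConj {g h : G2} (hc : IsConj g h) :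
    (g : M2).trace = (h : M2).trace ∧ (g : M2).det = (h : M2).det := by
  obtain ⟨P, hP⟩ := isConj_iff.mp hc
  subst hP
  simp only [Units.val_mul]
  exact ⟨(Matrix.trace_units_conj P _).symm, (Matrix.det_units_conj P _).symm⟩

theorem eq_of_isConj_of_isScalarTwo {g h : G2} (hc : IsConj g h) (hs : IsScalarTwo (g : M2)) :
    g = h := by
  obtain ⟨P, hP⟩ := isConj_iff_mat.mp hc
  obtain ⟨c, hcA⟩ := Linear.isScalarTwo_iff.mp hs
  apply Units.ext
  have h1 : (g : M2) * (P : M2) = (h : M2) * (P : M2) := by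
    rw [← hP, hcA, Matrix.smul_mul, Matrix.mul_smul, Matrix.one_mul, Matrix.mul_one]
  exact P.isUnit.mul_right_cancel h1

/-- The scalar matrix `a`. -/
noncomputable def scalarGL (a : Fˣ) : G2 :=
  glOfDet !![(a : F), 0; 0, (a : F)] (by simp [Matrix.det_fin_two_of])

/-- The companion matrix of trace `t` and determinant `d`. -/
noncomputable def compGL (t : F) (d : Fˣ) : G2 :=
  glOfDet !![0, -(d : F); 1, t] (by simp [Matrix.det_fin_two_of])

theorem coe_scalarGL (a : Fˣ) : ((scalarGL a : G2) : M2) = !![(a : F), 0; 0, (a : F)] := rfl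

theorem coe_compGL (t : F) (d : Fˣ) : ((compGL t d : G2) : M2) = !![0, -(d : F); 1, t] := rfl

theorem isScalarTwo_scalarGL (a : Fˣ) : IsScalarTwo ((scalarGL a : G2) : M2) := by
  simp [IsScalarTwo, coe_scalarGL]

theorem not_isScalarTwo_compGL (t : F) (d : Fˣ) : ¬ IsScalarTwo ((compGL t d : G2) : M2) := by
  simp [IsScalarTwo, coe_compGL]

/-- GL₂(q) has q² − 1 conjugacy classes. -/
theorem card_conjClasses_GL_two [Finite F] :
    Nat.card (ConjClasses G2) = Nat.card F ^ 2 - 1 := by
  cases nonempty_fintype F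
  classical
  have e : Nat.card (Fˣ ⊕ F × Fˣ) = Nat.card (ConjClasses G2) := by
    refine Nat.card_congr (Equiv.ofBijective (fun x =>
      ConjClasses.mk (x.elim scalarGL (fun p => compGL p.1 p.2) : G2)) ⟨?_, fun C => ?_⟩)
    · intro x y h
      rw [ConjClasses.mk_eq_mk_iff_isConj] at h
      rcases x with a | ⟨t, d⟩ <;> rcases y with b | ⟨s, e⟩ <;>
        simp only [Sum.elim_inl, Sum.elim_inr] at h
      · have := eq_of_isConj_of_isScalarTwo h (isScalarTwo_scalarGL a)
        have h0 : (a : F) = b := by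
          simpa [coe_scalarGL] using congrArg (fun z : G2 => (z : M2) 0 0) this
        rw [Units.ext h0]
      · have := eq_of_isConj_of_isScalarTwo h (isScalarTwo_scalarGL a)
        exact absurd (this ▸ isScalarTwo_scalarGL a) (not_isScalarTwo_compGL s e)
      · have := eq_of_isConj_of_isScalarTwo h.symm (isScalarTwo_scalarGL b)
        exact absurd (this ▸ isScalarTwo_scalarGL b) (not_isScalarTwo_compGL t d)
      · obtain ⟨ht, hd⟩ := trace_det_of_isConj h
        simp [coe_compGL, Matrix.trace_fin_two, Matrix.det_fin_two] at ht hd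
        rw [ht, Units.ext hd]
    · obtain ⟨g, rfl⟩ := ConjClasses.mk_surjective C
      by_cases hs : IsScalarTwo (g : M2)
      · have h0 : (g : M2) 0 0 ≠ 0 := by
          intro h0
          have := Matrix.GeneralLinearGroup.det_ne_zero g
          rw [Matrix.det_fin_two, h0, hs.1] at this
          simp at this
        refine ⟨Sum.inl (Units.mk0 _ h0), congrArg _ (Linear.GL_ext_two ?_ ?_ ?_ ?_)⟩ <;>
          simp [coe_scalarGL, hs.1, hs.2.1, ← hs.2.2]
      · refine ⟨Sum.inr ((g : M2).trace, Units.mk0 _ (Matrix.GeneralLinearGroup.det_ne_zero g)),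
          ConjClasses.mk_eq_mk_iff_isConj.mpr
            (isConj_of_trace_det (not_isScalarTwo_compGL _ _) hs ?_ ?_)⟩ <;>
          simp [coe_compGL, Matrix.trace_fin_two, Matrix.det_fin_two]
  rw [← e, Nat.card_sum, Nat.card_prod, Nat.card_units]
  have h1 : 1 ≤ Nat.card F := Nat.card_pos
  obtain ⟨k, hk⟩ := Nat.exists_eq_add_of_le h1
  rw [hk, Nat.add_sub_cancel_left]
  have : (1 + k) ^ 2 = (k + (1 + k) * k) + 1 := by ring
  omega

end Cfsg.Agent.H53
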