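import Cfsg.Agent.CharInduce.Induce
import Mathlib.NumberTheory.MulChar.Duality
import Mathlib.NumberTheory.MulChar.Lemmas
import Mathlib.Analysis.Complex.Polynomial.Basic

/-!
Induced functions over a transversal, and orthogonality of multiplicative characters.
-/

set_option autoImplicit false

namespace Cfsg.Agent.H53

open scoped ComplexConjugate

/-- An induced class function is a sum over any transversal. -/
theorem indFun_eq_sum_transversal {G : Type*} [Group G] [Fintype G] {H : Subgroup G} {ι : Type*}
    [Fintype ι] (r : ι → G) (hr : Function.Bijective (fun x : ι × H => r x.1 * (x.2 : G)))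
    (θ : H → ℂ) (hθ : Cfsg.IsClassFunction H θ) (g : G) :
    Cfsg.indFun H θ g = ∑ i, Cfsg.extendByZero H θ ((r i)⁻¹ * g * r i) := by
  cases nonempty_fintype H
  have h1 : ∑ x : G, Cfsg.extendByZero H θ (x⁻¹ * g * x) =
      ∑ i, (Nat.card H : ℂ) * Cfsg.extendByZero H θ ((r i)⁻¹ * g * r i) := by
    rw [← Fintype.sum_bijective _ hr (fun p : ι × H => Cfsg.extendByZero H θ
      ((r p.1 * (p.2 : G))⁻¹ * g * (r p.1 * (p.2 : G)))) _ (fun p => rfl), Fintype.sum_prod_type]
    refine Finset.sum_congr rfl fun i _ => ?_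
    have h2 : ∀ h : H, Cfsg.extendByZero H θ ((r i * (h : G))⁻¹ * g * (r i * (h : G))) =
        Cfsg.extendByZero H θ ((r i)⁻¹ * g * r i) := by
      intro h
      have := CharInduce.extendByZero_conj hθ (H.inv_mem h.2) ((r i)⁻¹ * g * r i)
      rw [inv_inv] at this
      rw [← this]
      congr 1
      group
    rw [Finset.sum_congr rfl (fun h _ => h2 h), Finset.sum_const, Finset.card_univ,
      nsmul_eq_mul, Nat.card_eq_fintype_card]
  rw [CharInduce.indFun_apply, h1, ← Finset.mul_sum, ← mul_assoc,
    inv_mul_cancel₀ (CharInduce.card_ne_zero_complex H), one_mul]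

/-- A function of the linear character form is a class function. -/
theorem isClassFunction_of_mul {H : Type*} [Group H] (θ : H → ℂ)
    (hθ : ∀ a b : H, θ (a * b) = θ a * θ b) (h1 : θ 1 = 1) : Cfsg.IsClassFunction H θ := by
  intro g h
  rw [hθ, hθ, mul_comm (θ h), mul_assoc, ← hθ, mul_inv_cancel, h1, mul_one]

section MulChar

variable {F : Type*} [Field F] [Fintype F]

theorem conj_mulChar (α : MulChar F ℂ) (a : F) : conj (α a) = α⁻¹ a := MulChar.star_apply' α a

theorem mulChar_mul_conj (α : MulChar F ℂ) {a : F} (ha : a ≠ 0) : α a * conj (α a) = 1 := by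
  rw [conj_mulChar, ← MulChar.mul_apply, mul_inv_cancel, MulChar.one_apply (isUnit_iff_ne_zero.mpr ha)]

variable [DecidableEq (MulChar F ℂ)]

/-- Orthogonality of multiplicative characters. -/
theorem sum_mulChar_mul_conj (α β : MulChar F ℂ) :
    ∑ a : F, α a * conj (β a) = if α = β then (Fintype.card F : ℂ) - 1 else 0 := by
  classical
  simp only [conj_mulChar, ← MulChar.mul_apply]
  split_ifs with h
  · rw [h, mul_inv_cancel, MulChar.sum_one_eq_card_units, Fintype.card_units,
      Nat.cast_sub Fintype.card_pos, Nat.cast_one]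
  · exact MulChar.sum_eq_zero_of_ne_one (fun e => h (mul_inv_eq_one.mp e))

omit [DecidableEq (MulChar F ℂ)] in
/-- The dual orthogonality: the characters sum to zero away from 1. -/
theorem sum_mulChar_apply [Fintype (MulChar F ℂ)] {a : F} (ha : a ≠ 1) :
    ∑ α : MulChar F ℂ, α a = 0 := by
  obtain ⟨χ, hχ⟩ := MulChar.exists_apply_ne_one_of_hasEnoughRootsOfUnity F ℂ ha
  have h1 : ∑ α : MulChar F ℂ, (χ * α) a = ∑ α : MulChar F ℂ, α a :=
    Fintype.sum_bijective _ (Group.mulLeft_bijective χ) _ _ (fun α => rfl)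
  simp only [MulChar.mul_apply, ← Finset.mul_sum] at h1
  by_contra hne
  exact hχ (mul_right_cancel₀ hne (h1.trans (one_mul _).symm))

omit [DecidableEq (MulChar F ℂ)] in
theorem card_mulChar : Nat.card (MulChar F ℂ) = Fintype.card F - 1 := by
  rw [MulChar.card_eq_card_units_of_hasEnoughRootsOfUnity, Nat.card_units,
    Nat.card_eq_fintype_card]

end MulChar

end Cfsg.Agent.H53
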