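import Cfsg.Prelude.Def_ParabolicCharacters
import Cfsg.Prelude.Def_Characters
import Cfsg.Agent.Linear.TwoGL
import Cfsg.Agent.H53.IndTools

/-!
The principal series of GL₂: values and inner products.
-/

set_option autoImplicit false

namespace Cfsg.Agent.H53

open Matrix
open scoped ComplexConjugate

variable {F : Type*} [Field F]

local notation "G2" => Matrix.GeneralLinearGroup (Fin 2) F
local notation "M2" => Matrix (Fin 2) (Fin 2) F
local notation "B2" => Cfsg.upperTriangularGL 2 F

/-- The linear character `b ↦ α(b₁₁) β(b₂₂)` of the upper triangular group. -/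
noncomputable def borelFun (α β : MulChar F ℂ) : B2 → ℂ :=
  fun b => α (((b : G2) : M2) 0 0) * β (((b : G2) : M2) 1 1)

theorem entries_ne_zero {g : G2} (hg : (g : M2) 1 0 = 0) :
    (g : M2) 0 0 ≠ 0 ∧ (g : M2) 1 1 ≠ 0 := by
  have := Matrix.GeneralLinearGroup.det_ne_zero g
  rw [Matrix.det_fin_two, hg, mul_zero, sub_zero] at this
  exact ⟨left_ne_zero_of_mul this, right_ne_zero_of_mul this⟩

theorem borelFun_one (α β : MulChar F ℂ) : borelFun α β 1 = 1 := by
  simp [borelFun]

theorem borelFun_mul (α β : MulChar F ℂ) (a b : B2) :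
    borelFun α β (a * b) = borelFun α β a * borelFun α β b := by
  have ha := Linear.mem_upperTriangularGL_two.mp a.2
  have hb := Linear.mem_upperTriangularGL_two.mp b.2
  simp [borelFun, Linear.mul_two_apply, ha, hb]
  ring

theorem isClassFunction_borelFun (α β : MulChar F ℂ) : Cfsg.IsClassFunction B2 (borelFun α β) :=
  isClassFunction_of_mul _ (borelFun_mul α β) (borelFun_one α β)

theorem isCharacter_borelFun (α β : MulChar F ℂ) : Cfsg.IsCharacter B2 (borelFun α β) :=
  CharInduce.isCharacter_hom
    ((({ toFun := borelFun α β, map_one' := borelFun_one α β, map_mul' := borelFun_mul α β } :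
      B2 →* ℂ)).toHomUnits)

/-- The coset representatives of the upper triangular group, indexed by the projective line. -/
noncomputable def lineRep : Option F → G2
  | none => 1
  | some t => Linear.glOfDet !![t, 1; 1, 0] (by simp [Matrix.det_fin_two_of])

theorem coe_lineRep_some (t : F) : ((lineRep (some t) : G2) : M2) = !![t, 1; 1, 0] := rfl

theorem coe_inv_lineRep_some (t : F) :
    (((lineRep (some t))⁻¹ : G2) : M2) = !![0, 1; 1, -t] := by
  rw [Matrix.coe_units_inv, coe_lineRep_some]
  refine Matrix.inv_eq_left_inv ?_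
  apply Linear.ext_two <;> simp [Linear.mul_two_apply]

variable [Fintype F] [DecidableEq F]

theorem lineRep_bijective :
    Function.Bijective (fun x : Option F × B2 => lineRep x.1 * (x.2 : G2)) := by
  constructor
  · rintro ⟨i, a⟩ ⟨j, b⟩ h
    have ha := Linear.mem_upperTriangularGL_two.mp a.2
    have hb := Linear.mem_upperTriangularGL_two.mp b.2
    obtain ⟨ha0, -⟩ := entries_ne_zero ha
    obtain ⟨hb0, -⟩ := entries_ne_zero hb
    have e0 := congrArg (fun z : G2 => (z : M2) 0 0) h
    have e1 := congrArg (fun z : G2 => (z : M2) 1 0) h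
    have hij : i = j := by
      rcases i with _ | s <;> rcases j with _ | t <;>
        simp only [Units.val_mul, lineRep, Units.val_one,
          Linear.glOfDet_coe, Linear.mul_two_apply] at e0 e1 <;>
        simp [ha, hb] at e0 e1
      · rfl
      · exact absurd e1.symm hb0
      · exact absurd e1 ha0
      · rw [e1] at e0
        exact congrArg some (mul_right_cancel₀ hb0 e0)
    subst hij
    exact congrArg (Prod.mk i) (Subtype.ext (mul_left_cancel h))
  · intro g
    by_cases hg : (g : M2) 1 0 = 0
    · exact ⟨(none, ⟨g, Linear.mem_upperTriangularGL_two.mpr hg⟩), by simp [lineRep]⟩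
    · refine ⟨(some ((g : M2) 0 0 / (g : M2) 1 0),
        ⟨(lineRep (some ((g : M2) 0 0 / (g : M2) 1 0)))⁻¹ * g,
          Linear.mem_upperTriangularGL_two.mpr ?_⟩), mul_inv_cancel_left _ _⟩
      rw [Units.val_mul, coe_inv_lineRep_some]
      simp [Linear.mul_two_apply]
      field_simp
      ring

/-- The principal series character. -/
noncomputable def prin (α β : MulChar F ℂ) : G2 → ℂ := Cfsg.indFun B2 (borelFun α β)

theorem isCharacter_prin (α β : MulChar F ℂ) : Cfsg.IsCharacter G2 (prin α β) :=
  CharInduce.IsChar.ind B2 (isCharacter_borelFun α β)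

theorem isClassFunction_prin (α β : MulChar F ℂ) : Cfsg.IsClassFunction G2 (prin α β) :=
  CharInduce.isClassFunction_indFun _ _

theorem prin_one (α β : MulChar F ℂ) : prin α β 1 = (Fintype.card F : ℂ) + 1 := by
  rw [prin, CharInduce.indFun_one, borelFun_one, Linear.index_upperTriangularGL_two]
  simp

/-- The value of a principal series character at an upper triangular matrix. -/
theorem prin_upper (α β : MulChar F ℂ) {g : G2} (hg : (g : M2) 1 0 = 0) :
    prin α β g = α ((g : M2) 0 0) * β ((g : M2) 1 1) +
      ((Finset.univ.filter (fun t : F =>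
          ((g : M2) 0 0 - (g : M2) 1 1) * t + (g : M2) 0 1 = 0)).card : ℂ) *
        (α ((g : M2) 1 1) * β ((g : M2) 0 0)) := by
  rw [prin, indFun_eq_sum_transversal lineRep lineRep_bijective _ (isClassFunction_borelFun α β),
    Fintype.sum_option]
  congr 1
  · rw [CharInduce.extendByZero_of_mem _ (by
      simpa [lineRep] using Linear.mem_upperTriangularGL_two.mpr hg)]
    simp [borelFun, lineRep]
  · have hentries : ∀ t : F, (((lineRep (some t))⁻¹ * g * lineRep (some t) : G2) : M2) =
        !![(g : M2) 1 1, 0; ((g : M2) 0 0 - (g : M2) 1 1) * t + (g : M2) 0 1, (g : M2) 0 0] := by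
      intro t
      rw [Units.val_mul, Units.val_mul, coe_inv_lineRep_some, coe_lineRep_some]
      apply Linear.ext_two <;> simp only [Linear.mul_two_apply] <;> simp [hg] <;> ring
    have key : ∀ t : F, Cfsg.extendByZero B2 (borelFun α β)
        ((lineRep (some t))⁻¹ * g * lineRep (some t)) =
        if ((g : M2) 0 0 - (g : M2) 1 1) * t + (g : M2) 0 1 = 0 then
          α ((g : M2) 1 1) * β ((g : M2) 0 0) else 0 := by
      intro t
      split_ifs with ht
      · rw [CharInduce.extendByZero_of_mem _ (Linear.mem_upperTriangularGL_two.mpr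
          (by rw [hentries]; simpa using ht))]
        simp [borelFun, hentries]
      · refine CharInduce.extendByZero_of_not_mem _ fun hm => ht ?_
        simpa [hentries] using Linear.mem_upperTriangularGL_two.mp hm
    rw [Finset.sum_congr rfl (fun t _ => key t), ← Finset.sum_filter, Finset.sum_const,
      nsmul_eq_mul]

omit [DecidableEq F] in
/-- `g` is conjugate into the upper triangular group iff it has an eigenvector. -/
theorem not_mem_of_noEigen {g : G2}
    (h : ∀ (c : F) (v : Fin 2 → F), v ≠ 0 → (g : M2).mulVec v ≠ c • v) (x : G2) :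
    x⁻¹ * g * x ∉ B2 := by
  intro hm
  rw [Linear.mem_upperTriangularGL_two] at hm
  refine h (((x⁻¹ * g * x : G2) : M2) 0 0) (fun i => (x : M2) i 0) ?_ ?_
  · intro e
    have := Matrix.GeneralLinearGroup.det_ne_zero x
    rw [Matrix.det_fin_two] at this
    simp [show (x : M2) 0 0 = 0 from congrFun e 0, show (x : M2) 1 0 = 0 from congrFun e 1] at this
  · have e : (g : M2) * (x : M2) = (x : M2) * ((x⁻¹ * g * x : G2) : M2) := by
      rw [← Units.val_mul, ← Units.val_mul]
      congr 1
      group
    funext i
    have := congrFun (congrFun e i) 0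
    rw [Linear.mul_two_apply, Linear.mul_two_apply, hm, mul_zero, add_zero] at this
    simp only [Matrix.mulVec, dotProduct, Fin.sum_univ_two, Pi.smul_apply, smul_eq_mul]
    rw [this, mul_comm]

theorem prin_noEigen (α β : MulChar F ℂ) {g : G2}
    (h : ∀ (c : F) (v : Fin 2 → F), v ≠ 0 → (g : M2).mulVec v ≠ c • v) : prin α β g = 0 :=
  CharInduce.indFun_eq_zero_of_forall_not_mem _ _ (not_mem_of_noEigen h)

/-- Sums over the upper triangular group. -/
theorem sum_borel [Fintype B2] (f : F → F → F → ℂ) :
    ∑ b : B2, f (((b : G2) : M2) 0 0) (((b : G2) : M2) 1 1) (((b : G2) : M2) 0 1) =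
      ∑ a : Fˣ, ∑ d : Fˣ, ∑ c : F, f a d c := by
  rw [← Equiv.sum_comp (Linear.borelTwoEquiv (F := F)), Fintype.sum_prod_type,
    Fintype.sum_prod_type]
  refine Finset.sum_congr rfl fun a _ => Finset.sum_congr rfl fun d _ =>
    Finset.sum_congr rfl fun c _ => ?_
  simp [Linear.borelTwoEquiv]

theorem sum_units (f : F → ℂ) (hf : f 0 = 0) : ∑ a : Fˣ, f a = ∑ a : F, f a := by
  rw [← Finset.sum_erase_add _ _ (Finset.mem_univ (0 : F)), hf, add_zero]
  symm
  refine Finset.sum_bij (fun a ha => Units.mk0 a (Finset.ne_of_mem_erase ha)) (fun _ _ => by simp)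
    (fun a _ b _ e => congrArg Units.val e) (fun u _ => ⟨u, by simp, Units.ext rfl⟩) (fun _ _ => rfl)

variable [DecidableEq (MulChar F ℂ)]

/-- Inner products of principal series characters. -/
theorem classInner_prin (α β α' β' : MulChar F ℂ) :
    Cfsg.classInner (prin α β) (prin α' β') =
      (if α = α' ∧ β = β' then 1 else 0) + (if α = β' ∧ β = α' then 1 else 0) := by
  have := Fintype.ofFinite B2
  rw [prin, CharInduce.classInner_indFun_left _ _ _ (isClassFunction_prin α' β'), classInner]
  set T : ℂ := ∑ a : Fˣ, ∑ d : Fˣ, ((α (a : F) * β (d : F)) *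
    conj (α' (a : F) * β' (d : F) + α' (d : F) * β' (a : F))) with hT
  have hsum : ∑ b : B2, borelFun α β b * conj (prin α' β' (b : G2)) =
      (Fintype.card F : ℂ) * T := by
    rw [Finset.sum_congr rfl (fun b _ => by
      rw [prin_upper α' β' (Linear.mem_upperTriangularGL_two.mp b.2)])]
    simp only [borelFun]
    rw [sum_borel (fun a d c => α a * β d * conj (α' a * β' d +
      ((Finset.univ.filter (fun t : F => (a - d) * t + c = 0)).card : ℂ) * (α' d * β' a)))]
    rw [hT, Finset.mul_sum]
    refine Finset.sum_congr rfl fun a _ => ?_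
    rw [Finset.mul_sum]
    refine Finset.sum_congr rfl fun d _ => ?_
    have hN : ∑ c : F, ((Finset.univ.filter
        (fun t : F => ((a : F) - d) * t + c = 0)).card : ℂ) = Fintype.card F := by
      rw [← Nat.cast_sum, ← Finset.card_univ, Finset.card_eq_sum_card_fiberwise (s := Finset.univ)
        (f := fun t : F => -(((a : F) - d) * t)) (t := Finset.univ) (by simp)]
      congr 1
      refine Finset.sum_congr rfl fun c _ => congrArg Finset.card ?_
      ext t
      simp only [Finset.mem_filter, Finset.mem_univ, true_and]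
      constructor <;> intro h <;> linear_combination -h
    simp only [map_add, map_mul, Complex.conj_natCast, mul_add, Finset.sum_add_distrib,
      Finset.sum_const, Finset.card_univ, nsmul_eq_mul]
    rw [← Finset.mul_sum, ← Finset.sum_mul, hN]
    ring
  have hT' : T = ((∑ a : F, α a * conj (α' a)) * (∑ d : F, β d * conj (β' d))) +
      ((∑ a : F, α a * conj (β' a)) * (∑ d : F, β d * conj (α' d))) := by
    have hz : ∀ (γ δ : MulChar F ℂ), γ (0 : F) * conj (δ 0) = 0 := fun γ δ => by
      rw [MulChar.map_nonunit γ not_isUnit_zero, zero_mul]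
    rw [← sum_units (fun x => α x * conj (α' x)) (hz α α'),
      ← sum_units (fun x => β x * conj (β' x)) (hz β β'),
      ← sum_units (fun x => α x * conj (β' x)) (hz α β'),
      ← sum_units (fun x => β x * conj (α' x)) (hz β α'), Finset.sum_mul_sum, Finset.sum_mul_sum, hT,
      ← Finset.sum_add_distrib]
    refine Finset.sum_congr rfl fun a _ => ?_
    rw [← Finset.sum_add_distrib]
    refine Finset.sum_congr rfl fun d _ => ?_
    simp only [map_add, map_mul]
    ring
  rw [hsum, hT', sum_mulChar_mul_conj, sum_mulChar_mul_conj, sum_mulChar_mul_conj,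
    sum_mulChar_mul_conj, Linear.card_upperTriangularGL_two, Nat.cast_mul, Nat.cast_pow,
    Nat.cast_sub Fintype.card_pos, Nat.cast_one]
  have h1 : (Fintype.card F : ℂ) - 1 ≠ 0 := by
    rw [sub_ne_zero, Nat.cast_ne_one]
    exact Fintype.one_lt_card.ne'
  have h0 : (Fintype.card F : ℂ) ≠ 0 := Nat.cast_ne_zero.mpr Fintype.card_ne_zero
  have key : ∀ (n : ℂ) (P Q : Prop) [Decidable P] [Decidable Q],
      (if P then n else 0) * (if Q then n else 0) = n ^ 2 * (if P ∧ Q then 1 else 0) := by
    intro n P Q _ _
    by_cases hP : P <;> by_cases hQ : Q <;> simp [hP, hQ, sq]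
  rw [key, key]
  field_simp

/-- Principal series characters only depend on the unordered pair. -/
theorem prin_comm (α β : MulChar F ℂ) : prin α β = prin β α := by
  rw [← sub_eq_zero, ← CharBasic.classInner_self_eq_zero, CharBasic.classInner_sub_left,
    CharBasic.classInner_sub_right, CharBasic.classInner_sub_right, classInner_prin,
    classInner_prin, classInner_prin, classInner_prin]
  by_cases h : α = β
  · simp [h]
  · simp [h, Ne.symm h]

/-- The principal series coincide exactly for equal unordered pairs. -/
theorem prin_eq_iff (α β α' β' : MulChar F ℂ) :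
    prin α β = prin α' β' ↔ (α = α' ∧ β = β') ∨ (α = β' ∧ β = α') := by
  refine ⟨fun h => ?_, ?_⟩
  · have h1 := classInner_prin α β α β
    conv_lhs at h1 => arg 2; rw [h]
    rw [classInner_prin] at h1
    by_contra hne
    push Not at hne
    rw [if_neg (fun e => hne.1 e.1 e.2), if_neg (fun e => hne.2 e.1 e.2)] at h1
    simp only [and_self, if_true] at h1
    split_ifs at h1 <;> norm_num at h1
  · rintro (⟨rfl, rfl⟩ | ⟨rfl, rfl⟩)
    · rfl
    · exact prin_comm _ _

theorem isIrrCharacter_prin {α β : MulChar F ℂ} (h : α ≠ β) :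
    Cfsg.IsIrrCharacter G2 (prin α β) := by
  refine CharInduce.isIrr_of_norm_one (isCharacter_prin α β) ?_
  rw [classInner_prin]
  simp [h]

omit [DecidableEq (MulChar F ℂ)] in
/-- The permutation character on the lines is the principal series character of the trivial pair. -/
theorem fixedPointCharacter_borel :
    Cfsg.fixedPointCharacter B2 = prin (1 : MulChar F ℂ) 1 := by
  have h := CharInduce.fixedBy_eq_indFun (G := G2) (X := G2 ⧸ B2) ((1 : G2) : G2 ⧸ B2)
  have hst : MulAction.stabilizer G2 ((1 : G2) : G2 ⧸ B2) = B2 := MulAction.stabilizer_quotient _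
  funext g
  refine (congrFun h g).trans ?_
  have hfun : ∀ (K : Subgroup G2), K = B2 →
      Cfsg.indFun K (fun _ => (1 : ℂ)) g = Cfsg.indFun B2 (fun _ => (1 : ℂ)) g := by
    intro K hK
    subst hK
    rfl
  rw [hfun _ hst, prin]
  congr 1
  funext b
  obtain ⟨h0, h1⟩ := entries_ne_zero (Linear.mem_upperTriangularGL_two.mp b.2)
  simp [borelFun, MulChar.one_apply (isUnit_iff_ne_zero.mpr h0),
    MulChar.one_apply (isUnit_iff_ne_zero.mpr h1)]

end Cfsg.Agent.H53
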