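import Cfsg.Agent.H53.GLPrincipal
import Cfsg.Agent.H53.GLClasses
import Cfsg.Agent.H81.AlgInt
import Mathlib.Data.Sym.Card

/-!
The irreducible characters of GL₂: linear, Steinberg twists, principal series, and the rest
(cuspidal), the latter having degree q − 1 by a count.
-/

set_option autoImplicit false

namespace Cfsg.Agent.H53

open Matrix Finset
open scoped ComplexConjugate

variable {F : Type*} [Field F]

local notation "G2" => Matrix.GeneralLinearGroup (Fin 2) F
local notation "M2" => Matrix (Fin 2) (Fin 2) F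
local notation "B2" => Cfsg.upperTriangularGL 2 F

/-- `α ∘ det`. -/
noncomputable def linFun (α : MulChar F ℂ) : G2 → ℂ := fun g => α (g : M2).det

theorem linFun_one (α : MulChar F ℂ) : linFun α (1 : G2) = 1 := by simp [linFun]

theorem linFun_upper (α : MulChar F ℂ) (b : B2) : linFun α (b : G2) = borelFun α α b := by
  rw [linFun, borelFun, Matrix.det_fin_two, Linear.mem_upperTriangularGL_two.mp b.2, mul_zero,
    sub_zero, map_mul]

/-- The matrix `(a c; 0 d)`. -/
noncomputable def upGL (a d : Fˣ) (c : F) : G2 :=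
  Linear.glOfDet !![(a : F), c; 0, (d : F)] (by simp [Matrix.det_fin_two_of])

theorem coe_upGL (a d : Fˣ) (c : F) : ((upGL a d c : G2) : M2) = !![(a : F), c; 0, (d : F)] := rfl

theorem upGL_one : upGL (1 : Fˣ) 1 (0 : F) = 1 := by
  apply Linear.GL_ext_two <;> simp [coe_upGL]

/-- The standard transvection. -/
noncomputable def uGL : G2 := upGL 1 1 1

theorem isConj_upGL_one {c : F} (hc : c ≠ 0) : IsConj (upGL (1 : Fˣ) 1 c) (uGL : G2) := by
  refine isConj_of_trace_det ?_ ?_ ?_ ?_ <;>
    simp [Linear.IsScalarTwo, coe_upGL, uGL, hc, Matrix.trace_fin_two, Matrix.det_fin_two]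

variable [Fintype F] [DecidableEq F]

theorem isIrrCharacter_linFun (α : MulChar F ℂ) : Cfsg.IsIrrCharacter G2 (linFun α) := by
  have h := CharInduce.isIrrCharacter_hom
    (α.toUnitHom.comp (Matrix.GeneralLinearGroup.det : G2 →* Fˣ))
  convert h using 2 with g
  rw [linFun, MonoidHom.comp_apply, MulChar.coe_toUnitHom]
  rfl

theorem linFun_injective : Function.Injective (linFun (F := F)) := by
  intro α β h
  refine MulChar.ext fun a => ?_
  have := congrFun h (upGL a 1 0)
  simpa [linFun, coe_upGL, Matrix.det_fin_two_of] using this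

variable [DecidableEq (MulChar F ℂ)]

theorem classInner_borelFun [Fintype B2] (α β α' β' : MulChar F ℂ) :
    Cfsg.classInner (borelFun α β) (borelFun α' β') = if α = α' ∧ β = β' then 1 else 0 := by
  have hz : ∀ (γ δ : MulChar F ℂ), γ (0 : F) * conj (δ 0) = 0 := fun γ δ => by
    rw [MulChar.map_nonunit γ not_isUnit_zero, zero_mul]
  have hsum : ∑ b : B2, borelFun α β b * conj (borelFun α' β' b) =
      (∑ a : F, α a * conj (α' a)) * (∑ d : F, β d * conj (β' d)) * Fintype.card F := by
    rw [← sum_units (fun x => α x * conj (α' x)) (hz α α'),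
      ← sum_units (fun x => β x * conj (β' x)) (hz β β'), Finset.sum_mul_sum]
    simp only [borelFun]
    rw [sum_borel (fun a d _ => α a * β d * conj (α' a * β' d)), Finset.sum_mul]
    refine Finset.sum_congr rfl fun a _ => ?_
    rw [Finset.sum_mul]
    refine Finset.sum_congr rfl fun d _ => ?_
    simp only [Finset.sum_const, Finset.card_univ, nsmul_eq_mul, map_mul]
    ring
  have h1 : (Fintype.card F : ℂ) - 1 ≠ 0 := by
    rw [sub_ne_zero, Nat.cast_ne_one]
    exact Fintype.one_lt_card.ne'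
  have h0 : (Fintype.card F : ℂ) ≠ 0 := Nat.cast_ne_zero.mpr Fintype.card_ne_zero
  rw [Cfsg.classInner, hsum, sum_mulChar_mul_conj, sum_mulChar_mul_conj,
    Linear.card_upperTriangularGL_two, Nat.cast_mul, Nat.cast_pow,
    Nat.cast_sub Fintype.card_pos, Nat.cast_one]
  by_cases e1 : α = α' <;> by_cases e2 : β = β' <;> simp [e1, e2] <;> field_simp

theorem classInner_prin_linFun (α β γ : MulChar F ℂ) :
    Cfsg.classInner (prin α β) (linFun γ) = if α = γ ∧ β = γ then 1 else 0 := by
  have := Fintype.ofFinite B2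
  rw [prin, CharInduce.classInner_indFun_left _ _ _
    (CharBasic.IsIrr.isClassFunction (isIrrCharacter_linFun γ)), ← classInner_borelFun]
  simp only [linFun_upper]

/-- The Steinberg character twisted by `α`. -/
noncomputable def stFun (α : MulChar F ℂ) : G2 → ℂ := prin α α - linFun α

omit [DecidableEq (MulChar F ℂ)] in
theorem stFun_one (α : MulChar F ℂ) : stFun α 1 = (Fintype.card F : ℂ) := by
  rw [stFun, Pi.sub_apply, prin_one, linFun_one, add_sub_cancel_right]

theorem isIrrCharacter_stFun (α : MulChar F ℂ) : Cfsg.IsIrrCharacter G2 (stFun α) := by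
  have hl := isIrrCharacter_linFun α
  obtain ⟨r, hr, e⟩ := CharInduce.IsChar.exists_eq_add (isCharacter_prin α α) hl
    (by rw [classInner_prin_linFun]; simp)
  have hr' : stFun α = r := by rw [stFun, e, add_sub_cancel_left]
  rw [hr']
  refine CharInduce.isIrr_of_norm_one hr ?_
  rw [← hr', stFun, CharBasic.classInner_sub_left, CharBasic.classInner_sub_right,
    CharBasic.classInner_sub_right, classInner_prin, classInner_prin_linFun,
    ← CharBasic.classInner_conj_symm (prin α α) (linFun α), classInner_prin_linFun,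
    CharBasic.classInner_irr_self hl]
  simp

/-- The principal series character of an unordered pair. -/
noncomputable def prinPair : Sym2 (MulChar F ℂ) → G2 → ℂ :=
  Sym2.lift ⟨prin, prin_comm⟩

theorem prinPair_mk (α β : MulChar F ℂ) : prinPair s(α, β) = prin α β := rfl

theorem isIrrCharacter_prinPair {z : Sym2 (MulChar F ℂ)} (hz : ¬ z.IsDiag) :
    Cfsg.IsIrrCharacter G2 (prinPair z) := by
  induction z using Sym2.inductionOn with
  | _ α β => exact isIrrCharacter_prin hz

/-- The non-cuspidal characters. -/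
noncomputable def ncChar :
    MulChar F ℂ ⊕ MulChar F ℂ ⊕ {z : Sym2 (MulChar F ℂ) // ¬ z.IsDiag} → Cfsg.IrrCharacter G2
  | .inl α => ⟨linFun α, isIrrCharacter_linFun α⟩
  | .inr (.inl α) => ⟨stFun α, isIrrCharacter_stFun α⟩
  | .inr (.inr z) => ⟨prinPair z.1, isIrrCharacter_prinPair z.2⟩

theorem prinPair_one (z : Sym2 (MulChar F ℂ)) : prinPair z 1 = (Fintype.card F : ℂ) + 1 := by
  induction z using Sym2.inductionOn with
  | _ α β => exact prin_one α β

theorem ncChar_injective : Function.Injective (ncChar (F := F)) := by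
  have h1 : (Fintype.card F : ℂ) ≠ 1 := Nat.cast_ne_one.mpr Fintype.one_lt_card.ne'
  have h0 : (Fintype.card F : ℂ) ≠ 0 := Nat.cast_ne_zero.mpr Fintype.card_ne_zero
  intro x y h
  have hd := congrArg (fun χ : Cfsg.IrrCharacter G2 => (χ : G2 → ℂ) 1) h
  rcases x with α | α | ⟨z, hz⟩ <;> rcases y with β | β | ⟨w, hw⟩ <;>
    simp only [ncChar, linFun_one, stFun_one, prinPair_one] at hd
  · exact congrArg Sum.inl (linFun_injective (congrArg Subtype.val h))
  · exact absurd hd.symm h1
  · exact absurd (by linear_combination -hd) h0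
  · exact absurd hd h1
  · have e : stFun α = stFun β := congrArg Subtype.val h
    have h2 := classInner_prin α α β β
    rw [show prin α α = stFun α + linFun α by simp [stFun],
      show prin β β = stFun β + linFun β by simp [stFun], e,
      CharBasic.classInner_add_left, CharBasic.classInner_add_right,
      CharBasic.classInner_irr_self (isIrrCharacter_stFun β)] at h2
    by_contra hne
    have hab : α ≠ β := fun e' => hne (by rw [e'])
    have hdeg : stFun β ≠ linFun α := fun e' => h1 (by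
      simpa [stFun_one, linFun_one] using congrFun e' 1)
    rw [CharBasic.classInner_irr_of_ne (isIrrCharacter_stFun β) (isIrrCharacter_linFun β)
      (fun e' => h1 (by simpa [stFun_one, linFun_one] using congrFun e' 1)),
      CharBasic.classInner_add_right,
      CharBasic.classInner_irr_of_ne (isIrrCharacter_linFun α) (isIrrCharacter_stFun β) hdeg.symm,
      CharBasic.classInner_irr_of_ne (isIrrCharacter_linFun α) (isIrrCharacter_linFun β)
        (fun e' => hab (linFun_injective e'))] at h2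
    simp [hab] at h2
  · exact absurd (by linear_combination -hd) (one_ne_zero (α := ℂ))
  · exact absurd (by linear_combination hd) h0
  · exact absurd (by linear_combination hd) (one_ne_zero (α := ℂ))
  · have e : prinPair z = prinPair w := congrArg Subtype.val h
    induction z using Sym2.inductionOn with
    | _ α β =>
      induction w using Sym2.inductionOn with
      | _ γ δ =>
        rcases (prin_eq_iff α β γ δ).mp e with ⟨rfl, rfl⟩ | ⟨rfl, rfl⟩
        · rfl
        · exact congrArg (fun v => Sum.inr (Sum.inr v)) (Subtype.ext Sym2.eq_swap)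

/-- A character outside the non-cuspidal list has no vectors fixed by the unitriangular group,
twisted or not. -/
theorem sum_upGL_eq_zero {χ : Cfsg.IrrCharacter G2} (hχ : χ ∉ Set.range (ncChar (F := F)))
    (a d : Fˣ) : ∑ c : F, (χ : G2 → ℂ) (upGL a d c) = 0 := by
  classical
  have hinner : ∀ α β : MulChar F ℂ, Cfsg.classInner (prin α β) (χ : G2 → ℂ) = 0 := by
    intro α β
    rcases eq_or_ne α β with rfl | hne
    · rw [show prin α α = stFun α + linFun α by simp [stFun], CharBasic.classInner_add_left,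
        CharBasic.classInner_irr_of_ne (isIrrCharacter_stFun α) χ.2
          (fun e => hχ ⟨.inr (.inl α), Subtype.ext e⟩),
        CharBasic.classInner_irr_of_ne (isIrrCharacter_linFun α) χ.2
          (fun e => hχ ⟨.inl α, Subtype.ext e⟩), add_zero]
    · exact CharBasic.classInner_irr_of_ne (isIrrCharacter_prin hne) χ.2
        (fun e => hχ ⟨.inr (.inr ⟨s(α, β), hne⟩), Subtype.ext e⟩)
  set f : Fˣ → Fˣ → ℂ := fun a d => ∑ c : F, (χ : G2 → ℂ) (upGL a d c) with hf
  have hf0 : ∀ α β : MulChar F ℂ,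
      ∑ a : Fˣ, ∑ d : Fˣ, α (a : F) * β (d : F) * conj (f a d) = 0 := by
    intro α β
    have := Fintype.ofFinite B2
    have h := hinner α β
    rw [prin, CharInduce.classInner_indFun_left _ _ _ (CharBasic.IsIrr.isClassFunction χ.2),
      Cfsg.classInner, mul_eq_zero, inv_eq_zero, Nat.cast_eq_zero] at h
    have h' := h.resolve_left Nat.card_pos.ne'
    rw [← Equiv.sum_comp (Linear.borelTwoEquiv (F := F)), Fintype.sum_prod_type,
      Fintype.sum_prod_type] at h'
    rw [← h']
    refine Finset.sum_congr rfl fun a _ => Finset.sum_congr rfl fun d _ => ?_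
    rw [hf, map_sum, Finset.mul_sum]
    refine Finset.sum_congr rfl fun c _ => ?_
    rfl
  have := Fintype.ofFinite (MulChar F ℂ)
  have hn : (Fintype.card (MulChar F ℂ) : ℂ) ≠ 0 := Nat.cast_ne_zero.mpr Fintype.card_ne_zero
  have hdual : ∀ x y : Fˣ, ∑ α : MulChar F ℂ, α ((x⁻¹ * y : Fˣ) : F) =
      if y = x then (Fintype.card (MulChar F ℂ) : ℂ) else 0 := by
    intro x y
    split_ifs with e
    · simp [e]
    · exact sum_mulChar_apply (fun h => e (inv_mul_eq_one.mp (Units.ext h)).symm)
  have key : (Fintype.card (MulChar F ℂ) : ℂ) ^ 2 * conj (f a d) = 0 := by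
    have h1 : ∑ α : MulChar F ℂ, ∑ β : MulChar F ℂ, α ((a⁻¹ : Fˣ) : F) * β ((d⁻¹ : Fˣ) : F) *
        ∑ x : Fˣ, ∑ y : Fˣ, α (x : F) * β (y : F) * conj (f x y) = 0 := by
      simp only [hf0, mul_zero, Finset.sum_const_zero]
    rw [← h1]
    simp only [Finset.mul_sum]
    rw [Finset.sum_comm]
    conv_rhs => arg 2; ext β; rw [Finset.sum_comm]
    rw [Finset.sum_comm]
    conv_rhs => arg 2; ext x; arg 2; ext β; rw [Finset.sum_comm]
    conv_rhs => arg 2; ext x; rw [Finset.sum_comm]
    have e : ∀ x y : Fˣ, (∑ β : MulChar F ℂ, ∑ α : MulChar F ℂ,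
        α ((a⁻¹ : Fˣ) : F) * β ((d⁻¹ : Fˣ) : F) * (α (x : F) * β (y : F) * conj (f x y))) =
        (∑ α : MulChar F ℂ, α ((a⁻¹ * x : Fˣ) : F)) * (∑ β : MulChar F ℂ, β ((d⁻¹ * y : Fˣ) : F)) *
          conj (f x y) := by
      intro x y
      rw [Finset.sum_mul_sum, Finset.sum_comm, Finset.sum_mul]
      refine Finset.sum_congr rfl fun β _ => ?_
      rw [Finset.sum_mul]
      refine Finset.sum_congr rfl fun α _ => ?_
      rw [Units.val_mul, Units.val_mul, map_mul, map_mul]
      ring
    simp only [e, hdual]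
    rw [Finset.sum_eq_single a (fun x _ hx => by simp [hx]) (by simp),
      Finset.sum_eq_single d (fun y _ hy => by simp [hy]) (by simp)]
    simp [sq]
  rcases mul_eq_zero.mp key with h | h
  · exact absurd (pow_eq_zero_iff two_ne_zero |>.mp h) hn
  · simpa using h

/-- Cuspidal characters: the degree is a multiple `k (q - 1)`, and the value at `u` is `-k`. -/
theorem exists_cusp_degree {χ : Cfsg.IrrCharacter G2} (hχ : χ ∉ Set.range (ncChar (F := F))) :
    ∃ k : ℕ, 1 ≤ k ∧ (χ : G2 → ℂ) 1 = k * ((Fintype.card F : ℂ) - 1) ∧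
      (χ : G2 → ℂ) uGL = -(k : ℂ) := by
  classical
  obtain ⟨d, hd, hd1⟩ := CharBasic.IsIrr.exists_degree χ.2
  have h := sum_upGL_eq_zero hχ 1 1
  rw [← Finset.add_sum_erase _ _ (Finset.mem_univ (0 : F)), upGL_one, hd1,
    Finset.sum_congr rfl (fun c hc => (CharBasic.isConj_iff_forall_irr _ _).mp
      (isConj_upGL_one (Finset.ne_of_mem_erase hc)) χ),
    Finset.sum_const, Finset.card_erase_of_mem (Finset.mem_univ _), Finset.card_univ,
    nsmul_eq_mul, Nat.cast_sub Fintype.card_pos, Nat.cast_one] at h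
  have hn : (Fintype.card F : ℂ) - 1 ≠ 0 := by
    rw [sub_ne_zero, Nat.cast_ne_one]
    exact Fintype.one_lt_card.ne'
  have hu : (χ : G2 → ℂ) uGL = ((-(d : ℚ) / ((Fintype.card F : ℚ) - 1) : ℚ) : ℂ) := by
    push_cast
    field_simp
    linear_combination h
  obtain ⟨z, hz⟩ := H81.int_of_isIntegral_ratCast
    (hu ▸ CharBasic.IsChar.isIntegral (CharBasic.IsIrr.isCharacter χ.2) uGL)
  have hzu : (χ : G2 → ℂ) uGL = (z : ℂ) := by rw [hu, ← hz]; push_cast; rfl
  rw [hzu] at h
  have hz' : (d : ℤ) + ((Fintype.card F : ℤ) - 1) * z = 0 := by exact_mod_cast h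
  have hq : (2 : ℤ) ≤ Fintype.card F := by exact_mod_cast Fintype.one_lt_card
  have hneg : z < 0 := by
    by_contra hc
    push Not at hc
    nlinarith [show (1 : ℤ) ≤ d by exact_mod_cast hd]
  obtain ⟨k, hk⟩ : ∃ k : ℕ, z = -(k : ℤ) := ⟨z.natAbs, by omega⟩
  refine ⟨k, by omega, ?_, by rw [hzu, hk]; simp⟩
  rw [hd1]
  rw [hk] at h
  push_cast at h
  linear_combination h

/-- The number of cuspidal characters, and all have degree q − 1. -/
theorem cusp_data : Nat.card {χ : Cfsg.IrrCharacter G2 // χ ∉ Set.range (ncChar (F := F))} =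
      Fintype.card F * (Fintype.card F - 1) / 2 ∧
    ∀ χ : Cfsg.IrrCharacter G2, χ ∉ Set.range (ncChar (F := F)) →
      (χ : G2 → ℂ) 1 = (Fintype.card F : ℂ) - 1 ∧ (χ : G2 → ℂ) uGL = -1 := by
  classical
  have := Fintype.ofFinite (MulChar F ℂ)
  obtain ⟨n, hn⟩ := Nat.exists_eq_add_of_le (Fintype.card_pos (α := F))
  have hmc : Fintype.card (MulChar F ℂ) = n := by
    rw [← Nat.card_eq_fintype_card, card_mulChar, hn]; omega
  have hz : 2 * Fintype.card {z : Sym2 (MulChar F ℂ) // ¬ z.IsDiag} = n * (n - 1) := by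
    rw [Sym2.card_subtype_not_diag, hmc, Nat.choose_two_right]
    exact Nat.mul_div_cancel' (Nat.even_mul_pred_self n).two_dvd
  set P := Fintype.card {z : Sym2 (MulChar F ℂ) // ¬ z.IsDiag} with hP
  set I := (Finset.univ : Finset (MulChar F ℂ ⊕ MulChar F ℂ ⊕
    {z : Sym2 (MulChar F ℂ) // ¬ z.IsDiag})).image (ncChar (F := F)) with hI
  have hmem : ∀ χ, χ ∈ Iᶜ ↔ χ ∉ Set.range (ncChar (F := F)) := by simp [hI]
  have hIcard : I.card = 2 * n + P := by
    rw [hI, Finset.card_image_of_injective _ ncChar_injective, Finset.card_univ, Fintype.card_sum,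
      Fintype.card_sum, hmc]
    ring
  have hirr : Fintype.card (Cfsg.IrrCharacter G2) = (1 + n) ^ 2 - 1 := by
    rw [← Nat.card_eq_fintype_card, CharBasic.card_irrCharacter, card_conjClasses_GL_two,
      Nat.card_eq_fintype_card, hn]
  have hcard : 2 * (Iᶜ).card = n * (n + 1) := by
    rw [Finset.card_compl, hirr, hIcard]
    have e1 : (1 + n) ^ 2 - 1 = n * n + 2 * n := by
      have : (1 + n) ^ 2 = n * n + 2 * n + 1 := by ring
      omega
    rcases n with _ | m
    · simp
    · rw [e1]
      simp only [Nat.add_sub_cancel] at hz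
      nlinarith [Nat.sub_add_cancel (show 2 * (m + 1) + P ≤ (m + 1) * (m + 1) + 2 * (m + 1) by
        nlinarith)]
  refine ⟨?_, ?_⟩
  · rw [Nat.card_eq_fintype_card, Fintype.card_subtype, hn]
    have : (Finset.univ.filter fun χ => χ ∉ Set.range (ncChar (F := F))) = Iᶜ := by
      ext χ; simp [hmem]
    rw [this]
    simp only [Nat.add_sub_cancel_left]
    rw [mul_comm, add_comm, ← hcard]
    omega
  · have hsq := CharBasic.sum_sq_degree (G := G2)
    rw [← Finset.sum_add_sum_compl I, Linear.card_GL_two] at hsq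
    rw [hI, Finset.sum_image ncChar_injective.injOn, Fintype.sum_sum_type, Fintype.sum_sum_type,
      ← hI] at hsq
    simp only [ncChar, linFun_one, stFun_one, prinPair_one, one_pow, Finset.sum_const,
      Finset.card_univ, hmc, nsmul_eq_mul, mul_one, ← hP, hn, Nat.add_sub_cancel_left] at hsq
    choose k hk using fun χ : {χ // χ ∈ Iᶜ} => exists_cusp_degree ((hmem χ.1).mp χ.2)
    have e : ∑ χ ∈ Iᶜ, (χ : G2 → ℂ) 1 ^ 2 = ((∑ χ : {χ // χ ∈ Iᶜ}, k χ ^ 2 : ℕ) : ℂ) * (n : ℂ) ^ 2 := by
      rw [← Finset.sum_coe_sort (Iᶜ), Nat.cast_sum, Finset.sum_mul]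
      refine Finset.sum_congr rfl fun χ _ => ?_
      rw [(hk χ).2.1, hn]
      push_cast
      ring
    rw [e] at hsq
    have hn0 : (n : ℂ) ≠ 0 := by
      rw [Nat.cast_ne_zero]
      have := Fintype.one_lt_card (α := F)
      omega
    have hzC : 2 * (P : ℂ) = (n : ℂ) * ((n : ℂ) - 1) := by
      rw [← Nat.cast_two, ← Nat.cast_mul, hz, Nat.cast_mul, Nat.cast_sub, Nat.cast_one]
      have := Fintype.one_lt_card (α := F)
      omega
    have hS : (∑ χ : {χ // χ ∈ Iᶜ}, k χ ^ 2) = ∑ _χ : {χ // χ ∈ Iᶜ}, 1 := by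
      rw [Finset.sum_const, Finset.card_univ, Fintype.card_coe, smul_eq_mul, mul_one]
      have : ((∑ χ : {χ // χ ∈ Iᶜ}, k χ ^ 2 : ℕ) : ℂ) * (n : ℂ) ^ 2 * 2 =
          ((Iᶜ).card : ℂ) * (n : ℂ) ^ 2 * 2 := by
        have hc : 2 * ((Iᶜ).card : ℂ) = (n : ℂ) * ((n : ℂ) + 1) := by exact_mod_cast hcard
        push_cast at hsq ⊢
        linear_combination 2 * hsq - ((n : ℂ) + 2) ^ 2 * hzC - (n : ℂ) ^ 2 * hc
      exact_mod_cast mul_right_cancel₀ (pow_ne_zero 2 hn0) (mul_right_cancel₀ two_ne_zero this)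
    have hall := (Finset.sum_eq_sum_iff_of_le (fun χ _ => Nat.one_le_pow _ _ (hk χ).1)).mp hS.symm
    intro χ hχ
    have h1 : k ⟨χ, (hmem χ).mpr hχ⟩ = 1 := by
      have := hall ⟨χ, (hmem χ).mpr hχ⟩ (Finset.mem_univ _)
      exact (pow_eq_one_iff.mp this.symm).resolve_right two_ne_zero
    obtain ⟨-, h2, h3⟩ := hk ⟨χ, (hmem χ).mpr hχ⟩
    rw [h1] at h2 h3
    exact ⟨by simpa using h2, by simpa using h3⟩

end Cfsg.Agent.H53
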