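import Cfsg.Agent.H53.GLTable

/-!
Degrees and values of the irreducible characters of GL₂, read off the table.
-/

set_option autoImplicit false

namespace Cfsg.Agent.H53

open Matrix Finset
open scoped ComplexConjugate

variable {F : Type*} [Field F] [Fintype F] [DecidableEq F] [DecidableEq (MulChar F ℂ)]

local notation "G2" => Matrix.GeneralLinearGroup (Fin 2) F
local notation "M2" => Matrix (Fin 2) (Fin 2) F

theorem gl_cases {χ : G2 → ℂ} (h : Cfsg.IsIrrCharacter G2 χ) :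
    (∃ α, χ = linFun α) ∨ (∃ α, χ = stFun α) ∨ (∃ α β, α ≠ β ∧ χ = prin α β) ∨
      (⟨χ, h⟩ : Cfsg.IrrCharacter G2) ∉ Set.range (ncChar (F := F)) := by
  by_cases hr : (⟨χ, h⟩ : Cfsg.IrrCharacter G2) ∈ Set.range (ncChar (F := F))
  · obtain ⟨x, hx⟩ := hr
    have hval := congrArg Subtype.val hx
    rcases x with α | α | ⟨z, hz⟩
    · exact Or.inl ⟨α, hval.symm⟩
    · exact Or.inr (Or.inl ⟨α, hval.symm⟩)
    · induction z using Sym2.inductionOn with
      | _ α β => exact Or.inr (Or.inr (Or.inl ⟨α, β, hz, hval.symm⟩))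
  · exact Or.inr (Or.inr (Or.inr hr))

omit [DecidableEq (MulChar F ℂ)] in
theorem prin_diag (α β : MulChar F ℂ) {g : G2} (h01 : (g : M2) 0 1 = 0) (h10 : (g : M2) 1 0 = 0)
    (hne : (g : M2) 0 0 ≠ (g : M2) 1 1) :
    prin α β g = α ((g : M2) 0 0) * β ((g : M2) 1 1) + α ((g : M2) 1 1) * β ((g : M2) 0 0) := by
  rw [prin_upper α β h10,
    Finset.card_eq_one.mpr ⟨0, by ext x; simp [h01, sub_ne_zero.mpr hne]⟩]
  simp

omit [DecidableEq (MulChar F ℂ)] in
theorem prin_uGL (α β : MulChar F ℂ) : prin α β (uGL : G2) = 1 := by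
  rw [prin_upper α β (by simp [uGL, coe_upGL])]
  simp [uGL, coe_upGL]

omit [DecidableEq (MulChar F ℂ)] in
theorem linFun_uGL (α : MulChar F ℂ) : linFun α (uGL : G2) = 1 := by
  simp [linFun, uGL, coe_upGL, Matrix.det_fin_two_of]

theorem norm_mulChar (α : MulChar F ℂ) {a : F} (ha : a ≠ 0) : ‖α a‖ = 1 := by
  have h := mulChar_mul_conj α ha
  rw [Complex.mul_conj'] at h
  have : ‖α a‖ ^ 2 = 1 := by exact_mod_cast h
  exact (pow_eq_one_iff_of_nonneg (norm_nonneg _) two_ne_zero).mp this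

theorem cusp_diag {χ : Cfsg.IrrCharacter G2} (hχ : χ ∉ Set.range (ncChar (F := F))) {g : G2}
    (h01 : (g : M2) 0 1 = 0) (h10 : (g : M2) 1 0 = 0) (hne : (g : M2) 0 0 ≠ (g : M2) 1 1) :
    (χ : G2 → ℂ) g = 0 := by
  obtain ⟨h0, h1⟩ := entries_ne_zero h10
  have h := sum_upGL_eq_zero hχ (Units.mk0 _ h0) (Units.mk0 _ h1)
  have hc : ∀ c : F, (χ : G2 → ℂ) (upGL (Units.mk0 _ h0) (Units.mk0 _ h1) c) = (χ : G2 → ℂ) g := by
    intro c
    refine (CharBasic.isConj_iff_forall_irr _ _).mp (isConj_of_trace_det ?_ ?_ ?_ ?_) χ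
    · intro hs
      exact hne (by simpa [coe_upGL] using hs.2.2)
    · exact fun hs => hne hs.2.2
    · simp [coe_upGL, Matrix.trace_fin_two]
    · simp [coe_upGL, Matrix.det_fin_two, h01]
  rw [Finset.sum_congr rfl (fun c _ => hc c), Finset.sum_const, Finset.card_univ, nsmul_eq_mul,
    mul_eq_zero] at h
  exact h.resolve_left (Nat.cast_ne_zero.mpr Fintype.card_ne_zero)

theorem gl_degrees {χ : G2 → ℂ} (h : Cfsg.IsIrrCharacter G2 χ) :
    χ 1 = 1 ∨ χ 1 = (Fintype.card F : ℂ) - 1 ∨ χ 1 = (Fintype.card F : ℂ) ∨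
      χ 1 = (Fintype.card F : ℂ) + 1 := by
  rcases gl_cases h with ⟨α, rfl⟩ | ⟨α, rfl⟩ | ⟨α, β, -, rfl⟩ | hc
  · exact Or.inl (linFun_one α)
  · exact Or.inr (Or.inr (Or.inl (stFun_one α)))
  · exact Or.inr (Or.inr (Or.inr (prin_one α β)))
  · exact Or.inr (Or.inl ((cusp_data.2 _ hc).1))

omit [DecidableEq (MulChar F ℂ)] [DecidableEq F] [Field F] in
theorem degree_ne (hq : 3 ≤ Fintype.card F) :
    (1 : ℂ) ≠ (Fintype.card F : ℂ) - 1 ∧ (1 : ℂ) ≠ (Fintype.card F : ℂ) ∧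
      (1 : ℂ) ≠ (Fintype.card F : ℂ) + 1 := by
  have h1 : (Fintype.card F : ℂ) ≠ 1 := Nat.cast_ne_one.mpr (by omega)
  have h2 : (Fintype.card F : ℂ) ≠ 2 := by
    rw [← Nat.cast_two, Ne, Nat.cast_inj]; omega
  have h0 : (Fintype.card F : ℂ) ≠ 0 := Nat.cast_ne_zero.mpr (by omega)
  exact ⟨fun e => h2 (by linear_combination -e), fun e => h1 e.symm,
    fun e => h0 (by linear_combination -e)⟩

theorem gl_count (hq : 3 ≤ Fintype.card F) :
    Nat.card {χ : Cfsg.IrrCharacter G2 // (χ : G2 → ℂ) 1 = 1} = Fintype.card F - 1 ∧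
    Nat.card {χ : Cfsg.IrrCharacter G2 // (χ : G2 → ℂ) 1 = (Fintype.card F : ℂ)} =
      Fintype.card F - 1 ∧
    Nat.card {χ : Cfsg.IrrCharacter G2 // (χ : G2 → ℂ) 1 = (Fintype.card F : ℂ) + 1} =
      (Fintype.card F - 1) * (Fintype.card F - 2) / 2 ∧
    Nat.card {χ : Cfsg.IrrCharacter G2 // (χ : G2 → ℂ) 1 = (Fintype.card F : ℂ) - 1} =
      Fintype.card F * (Fintype.card F - 1) / 2 := by
  obtain ⟨a1, a2, a3⟩ := degree_ne hq
  set q := (Fintype.card F : ℂ)
  have hval : ∀ x, (ncChar (F := F) x : G2 → ℂ) 1 =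
      Sum.elim (fun _ => 1) (Sum.elim (fun _ => q) (fun _ => q + 1)) x := by
    rintro (α | α | z) <;> simp only [Sum.elim_inl, Sum.elim_inr, ncChar]
    · exact linFun_one α
    · exact stFun_one α
    · exact prinPair_one z.1
  have part : ∀ {ι : Type _} (i : ι → MulChar F ℂ ⊕ MulChar F ℂ ⊕
      {z : Sym2 (MulChar F ℂ) // ¬ z.IsDiag}) (d : ℂ),
      Function.Injective i → (∀ y, (ncChar (F := F) (i y) : G2 → ℂ) 1 = d) →
      (∀ x, (ncChar (F := F) x : G2 → ℂ) 1 = d → x ∈ Set.range i) → d ≠ q - 1 →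
      Nat.card {χ : Cfsg.IrrCharacter G2 // (χ : G2 → ℂ) 1 = d} = Nat.card ι := by
    intro ι i d hi hd hsurj hne
    refine (Nat.card_congr (Equiv.ofBijective
      (fun y : ι => (⟨ncChar (i y), hd y⟩ : {χ : Cfsg.IrrCharacter G2 // (χ : G2 → ℂ) 1 = d}))
      ⟨fun y y' e => hi (ncChar_injective (congrArg Subtype.val e)), fun χ => ?_⟩)).symm
    have hr : χ.1 ∈ Set.range (ncChar (F := F)) := by
      by_contra hc
      exact hne (χ.2.symm.trans (cusp_data.2 _ hc).1)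
    obtain ⟨x, hx⟩ := hr
    obtain ⟨y, rfl⟩ := hsurj x (by rw [hx]; exact χ.2)
    exact ⟨y, Subtype.ext hx⟩
  refine ⟨?_, ?_, ?_, ?_⟩
  · refine (part Sum.inl 1 Sum.inl_injective (fun y => hval _) ?_ a1).trans card_mulChar
    rintro (α | α | z) hx <;> rw [hval] at hx
    · exact ⟨α, rfl⟩
    · exact absurd hx.symm a2
    · exact absurd hx.symm a3
  · refine (part (Sum.inr ∘ Sum.inl) q (Sum.inr_injective.comp Sum.inl_injective)
      (fun y => hval _) ?_ (fun e => one_ne_zero (α := ℂ) (by linear_combination e))).trans card_mulChar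
    rintro (α | α | z) hx <;> rw [hval] at hx
    · exact absurd hx a2
    · exact ⟨α, rfl⟩
    · simp at hx
  · refine (part (Sum.inr ∘ Sum.inr) (q + 1) (Sum.inr_injective.comp Sum.inr_injective)
      (fun y => hval _) ?_ (fun e => by
        have : (2 : ℂ) = 0 := by linear_combination e
        exact two_ne_zero this)).trans ?_
    · rintro (α | α | z) hx <;> rw [hval] at hx
      · exact absurd hx a3
      · simp at hx
      · exact ⟨z, rfl⟩
    · have := Fintype.ofFinite (MulChar F ℂ)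
      rw [Nat.card_eq_fintype_card, Sym2.card_subtype_not_diag, ← Nat.card_eq_fintype_card,
        card_mulChar, Nat.choose_two_right, Nat.sub_sub]
  · rw [← cusp_data.1]
    refine Nat.card_congr (Equiv.subtypeEquivRight fun χ => ⟨fun hχ => ?_, fun hc => (cusp_data.2 _ hc).1⟩)
    rintro ⟨x, rfl⟩
    rw [hval] at hχ
    rcases x with α | α | z <;> simp only [Sum.elim_inl, Sum.elim_inr] at hχ
    · exact a1 hχ
    · exact one_ne_zero (α := ℂ) (by linear_combination hχ)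
    · exact two_ne_zero (α := ℂ) (by linear_combination hχ)

end Cfsg.Agent.H53
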