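import Cfsg.Agent.Orthogonal.Spinor
import Cfsg.Agent.Orthogonal.Extend
import Cfsg.Agent.Orthogonal.StdForms
import Cfsg.Agent.Arith.PrimDiv
import Mathlib.LinearAlgebra.Eigenspace.Zero

/-!
Isometries of odd order unipotent part times a torus element of order `q^m + 1` in odd dimension
`2m + 3` are never in the commutator subgroup.
-/

set_option autoImplicit false
set_option linter.unusedSectionVars false

namespace Cfsg.Agent.H53

open QuadraticMap Module Orthogonal

variable {F V : Type*} [Field F] [AddCommGroup V] [Module F V] [FiniteDimensional F V]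
variable {Q : QuadraticForm F V}

/-- An isometry as an endomorphism. -/
def linHom (Q : QuadraticForm F V) : O Q →* Module.End F V where
  toFun g := ((g : V ≃ₗ[F] V) : V →ₗ[F] V)
  map_one' := rfl
  map_mul' _ _ := rfl

theorem linHom_apply (g : O Q) (v : V) : linHom Q g v = (g : V ≃ₗ[F] V) v := rfl

theorem linHom_injective : Function.Injective (linHom Q) := fun g h e =>
  O.ext_app fun v => LinearMap.congr_fun e v

theorem polar_linHom (g : O Q) (a b : V) :
    polar Q (linHom Q g a) (linHom Q g b) = polar Q a b := O.polar_app g a b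

/-- `det g · det (1 - g) = (-1)^dim · det (1 - g)`. -/
theorem det_mul_det_one_sub (hQ : Nondeg Q) (g : O Q) :
    LinearMap.det (linHom Q g) * LinearMap.det (1 - linHom Q g) =
      (-1) ^ finrank F V * LinearMap.det (1 - linHom Q g) := by
  classical
  set b := Module.finBasis F V
  set M := LinearMap.toMatrix b b (linHom Q g) with hM
  set J := LinearMap.BilinForm.toMatrix b Q.polarBilin with hJ
  have hJ0 : J.det ≠ 0 := (LinearMap.BilinForm.nondegenerate_iff_det_ne_zero b).mp hQ.polarBilin
  have hMJ : M.transpose * J * M = J := by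
    rw [hM, hJ, ← LinearMap.BilinForm.toMatrix_comp]
    congr 1
    ext x y
    simp [LinearMap.BilinForm.comp_apply, polar_linHom]
  have h1 : LinearMap.toMatrix b b (1 - linHom Q g) = 1 - M := by
    rw [map_sub, LinearMap.toMatrix_one]
  have key : M.transpose * J * (1 - M) = -((1 - M).transpose * J) := by
    rw [Matrix.mul_sub, mul_one, hMJ, Matrix.transpose_sub, Matrix.transpose_one, Matrix.sub_mul,
      one_mul, neg_sub]
  have hd := congrArg Matrix.det key
  rw [Matrix.det_mul, Matrix.det_mul, Matrix.det_transpose, Matrix.det_neg, Matrix.det_mul,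
    Matrix.det_transpose, Fintype.card_fin] at hd
  rw [← LinearMap.det_toMatrix b, ← LinearMap.det_toMatrix b (1 - linHom Q g), h1]
  refine mul_right_cancel₀ hJ0 ?_
  linear_combination hd

/-- In odd dimension an isometry of determinant one fixes a non-zero vector. -/
theorem exists_fixed_of_det_one (hQ : Nondeg Q) (h2 : (2 : F) ≠ 0) (hd : Odd (finrank F V))
    (g : O Q) (hg : LinearMap.det (linHom Q g) = 1) : ∃ v, v ≠ 0 ∧ (g : V ≃ₗ[F] V) v = v := by
  have h := det_mul_det_one_sub hQ g
  rw [hg, hd.neg_one_pow, one_mul, neg_one_mul] at h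
  have h0 : LinearMap.det (1 - linHom Q g) = 0 :=
    (mul_eq_zero.mp (by linear_combination h : (2 : F) * LinearMap.det (1 - linHom Q g) = 0)).resolve_left h2
  obtain ⟨v, hv, hv0⟩ := Submodule.exists_mem_ne_zero_of_ne_bot
    (LinearMap.bot_lt_ker_of_det_eq_zero h0).ne'
  refine ⟨v, hv0, ?_⟩
  rw [LinearMap.mem_ker, LinearMap.sub_apply, Module.End.one_apply, sub_eq_zero] at hv
  exact hv.symm

/-- For an endomorphism of order prime to the characteristic, the fixed space is complemented by
the image of `T - 1`. -/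
theorem isCompl_ker_range {T : Module.End F V} {k : ℕ} (hk : (k : F) ≠ 0) (hT : T ^ k = 1) :
    IsCompl (LinearMap.ker (T - 1)) (LinearMap.range (T - 1)) := by
  have hdisj : LinearMap.ker (T - 1) ⊓ LinearMap.range (T - 1) = ⊥ := by
    refine eq_bot_iff.2 fun w hw => ?_
    obtain ⟨hw1, z, hz⟩ := hw
    have hw1' : T w = w := by
      have := LinearMap.mem_ker.mp hw1
      simpa [sub_eq_zero] using this
    have hpow : ∀ i : ℕ, (T ^ i) w = w := by
      intro i
      induction i with
      | zero => simp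
      | succ i ih => rw [pow_succ, Module.End.mul_apply, hw1', ih]
    have h0 := LinearMap.congr_fun (geom_sum_mul T k) z
    rw [hT, sub_self, Module.End.mul_apply, hz, LinearMap.sum_apply, LinearMap.zero_apply] at h0
    simp only [hpow, Finset.sum_const, Finset.card_range] at h0
    rw [← Nat.cast_smul_eq_nsmul F] at h0
    exact (Submodule.mem_bot F).2 ((smul_eq_zero.mp h0).resolve_left hk)
  refine ⟨disjoint_iff.2 hdisj, codisjoint_iff.2 (Submodule.eq_top_of_finrank_eq ?_)⟩
  have h1 := Submodule.finrank_sup_add_finrank_inf_eq (LinearMap.ker (T - 1)) (LinearMap.range (T - 1))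
  rw [hdisj, finrank_bot] at h1
  have := LinearMap.finrank_range_add_finrank_ker (T - 1)
  omega

theorem perp_fix (hQ : Nondeg Q) (g : O Q) {k : ℕ} (hk : (k : F) ≠ 0) (hg : g ^ k = 1) :
    Nondeg (restr Q (LinearMap.ker (linHom Q g - 1))) ∧
      perp Q (LinearMap.ker (linHom Q g - 1)) = LinearMap.range (linHom Q g - 1) := by
  have hc := isCompl_ker_range hk (by rw [← map_pow, hg, map_one] : linHom Q g ^ k = 1)
  have hle : LinearMap.range (linHom Q g - 1) ≤ perp Q (LinearMap.ker (linHom Q g - 1)) := by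
    rintro _ ⟨z, rfl⟩
    refine (mem_perp Q).2 fun u hu => ?_
    have hu' : linHom Q g u = u := by simpa [sub_eq_zero] using LinearMap.mem_ker.mp hu
    rw [LinearMap.sub_apply, Module.End.one_apply, polar_sub_right]
    nth_rewrite 1 [← hu']
    rw [polar_linHom, sub_self]
  have heq : perp Q (LinearMap.ker (linHom Q g - 1)) = LinearMap.range (linHom Q g - 1) := by
    refine (Submodule.eq_of_le_of_finrank_eq hle ?_).symm
    have h1 := hQ.finrank_add_perp (LinearMap.ker (linHom Q g - 1))
    have h2 := LinearMap.finrank_range_add_finrank_ker (linHom Q g - 1)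
    omega
  refine ⟨(nondeg_restr_iff _).2 ?_, heq⟩
  rw [heq]
  exact disjoint_iff.1 hc.disjoint

/-- A unipotent isometry fixes every non-degenerate invariant subspace of dimension at most two. -/
theorem fixes_of_unipotent (hQ : Nondeg Q) (h2 : (2 : F) ≠ 0) (u : O Q) {j : ℕ}
    (hn : (linHom Q u - 1) ^ j = 0) (W : Submodule F V) (hW : Nondeg (restr Q W))
    (hd : finrank F W ≤ 2) (hinv : ∀ x ∈ W, (u : V ≃ₗ[F] V) x ∈ W) {x : V} (hx : x ∈ W) :
    (u : V ≃ₗ[F] V) x = x := by
  have hninv : ∀ y ∈ W, (linHom Q u - 1) y ∈ W := fun y hy => W.sub_mem (hinv y hy) hy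
  set n : Module.End F W := (linHom Q u - 1).restrict hninv with hndef
  have hn2 : ∀ y : W, n (n y) = 0 := by
    have hnil : IsNilpotent n := ⟨j, LinearMap.ext fun y => Subtype.ext (by
      rw [hndef, Module.End.pow_restrict j, LinearMap.restrict_coe_apply, hn]
      rfl)⟩
    have h := LinearMap.aeval_self_charpoly n
    rw [hnil.charpoly_eq_X_pow_finrank, map_pow, Polynomial.aeval_X] at h
    have h2' : n ^ 2 = 0 := pow_eq_zero_of_le hd h
    intro y
    have := LinearMap.congr_fun h2' y
    simpa [pow_two] using this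
  set B : W → W → F := fun a b => polar (restr Q W) a b with hB
  have hskew : ∀ a b : W, B (n a) b = - B a (n b) := by
    intro a b
    have hu : ∀ y : W, ((y + n y : W) : V) = (u : V ≃ₗ[F] V) y := fun y => by
      simp [hndef, linHom_apply]
    have he : (b - n b) + n (b - n b) = b := by rw [map_sub, hn2]; abel
    have := O.polar_app u (a : V) ((b - n b : W) : V)
    rw [← hu a, ← hu (b - n b), he, ← polar_restr, ← polar_restr, polar_add_left,
      polar_sub_right] at this
    simp only [hB]
    linear_combination this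
  have hself : ∀ a : W, B (n a) a = 0 := by
    intro a
    have h := hskew a a
    have hs : B a (n a) = B (n a) a := polar_comm _ _ _
    have : (2 : F) * B (n a) a = 0 := by linear_combination h + hs * (-1 : F)
    exact (mul_eq_zero.mp this).resolve_left h2
  have hzero : n ⟨x, hx⟩ = 0 := by
    set a : W := ⟨x, hx⟩ with ha
    by_contra hne
    have hli : LinearIndependent F ![a, n a] := by
      rw [LinearIndependent.pair_iff]
      intro s t e
      have e' := congrArg n e
      rw [map_add, map_smul, map_smul, hn2, smul_zero, add_zero, map_zero] at e'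
      obtain rfl := (smul_eq_zero.mp e').resolve_right hne
      rw [zero_smul, zero_add] at e
      exact ⟨rfl, (smul_eq_zero.mp e).resolve_right hne⟩
    have hge := hli.fintype_card_le_finrank
    rw [Fintype.card_fin] at hge
    have hspan := hli.span_eq_top_of_card_eq_finrank' (by rw [Fintype.card_fin]; omega)
    apply hne
    refine hW (n a) fun y => ?_
    have hy : y ∈ Submodule.span F (Set.range ![a, n a]) := by rw [hspan]; trivial
    rw [Submodule.mem_span_range_iff_exists_fun, ] at hy
    obtain ⟨c, rfl⟩ := hy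
    rw [Fin.sum_univ_two, polar_add_right, polar_smul_right', polar_smul_right']
    simp only [Matrix.cons_val_zero, Matrix.cons_val_one]
    rw [show polar (restr Q W) (n a) a = 0 from hself a]
    have : B (n a) (n a) = 0 := by
      rw [hskew, hn2]
      simp [hB, polar]
    rw [show polar (restr Q W) (n a) (n a) = 0 from this]
    ring
  have := congrArg Subtype.val hzero
  simpa [hndef, sub_eq_zero, linHom_apply] using this

theorem mem_ker_iff (g : O Q) (v : V) :
    v ∈ LinearMap.ker (linHom Q g - 1) ↔ (g : V ≃ₗ[F] V) v = v := by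
  rw [LinearMap.mem_ker, LinearMap.sub_apply, Module.End.one_apply, sub_eq_zero, linHom_apply]

theorem ker_invariant (g h : O Q) (hc : Commute g h) :
    ∀ v ∈ LinearMap.ker (linHom Q g - 1), (h : V ≃ₗ[F] V) v ∈ LinearMap.ker (linHom Q g - 1) := by
  intro v hv
  rw [mem_ker_iff] at hv ⊢
  rw [← mul_app, ← Subgroup.coe_mul, hc.eq, Subgroup.coe_mul, mul_app, hv]

theorem range_invariant (g : O Q) {T : Module.End F V} (hc : Commute (linHom Q g) T) :
    ∀ v ∈ LinearMap.range (linHom Q g - 1), T v ∈ LinearMap.range (linHom Q g - 1) := by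
  rintro _ ⟨z, rfl⟩
  exact ⟨T z, LinearMap.congr_fun (hc.sub_left (Commute.one_left T)).eq z⟩

/-- In dimension three, a commuting unipotent element makes a semisimple element with a fixed
vector trivial. -/
theorem semisimple_or_unipotent (hQ : Nondeg Q) (h2 : (2 : F) ≠ 0) (hd : finrank F V = 3)
    (s u : O Q) (hc : Commute s u) {k : ℕ} (hk : (k : F) ≠ 0) (hs : s ^ k = 1)
    (hfix : ∃ v, v ≠ 0 ∧ (s : V ≃ₗ[F] V) v = v) {j : ℕ} (hu : (linHom Q u - 1) ^ j = 0) :
    s = 1 ∨ u = 1 := by
  obtain ⟨hE, hperp⟩ := perp_fix hQ s hk hs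
  set E := LinearMap.ker (linHom Q s - 1) with hEdef
  obtain ⟨v, hv0, hv⟩ := hfix
  have hEpos : 0 < finrank F E := Module.finrank_pos_iff.2 ⟨⟨⟨v, (mem_ker_iff s v).2 hv⟩, 0,
    fun e => hv0 (congrArg Subtype.val e)⟩⟩
  have hsum := hQ.finrank_add_perp E
  by_cases hE' : finrank F (perp Q E) = 0
  · left
    have : E = ⊤ := Submodule.eq_top_of_finrank_eq (by omega)
    exact O.ext_app fun x => (mem_ker_iff s x).1 (by rw [← hEdef, this]; exact Submodule.mem_top)
  · right
    refine O.ext_app fun x => ?_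
    obtain ⟨a, ha, b, hb, rfl⟩ := Submodule.mem_sup.1
      ((hQ.isCompl_perp hE).sup_eq_top ▸ Submodule.mem_top : x ∈ E ⊔ perp Q E)
    have h1 := fixes_of_unipotent hQ h2 u hu E hE (by omega) (ker_invariant s u hc) ha
    have h3 := fixes_of_unipotent hQ h2 u hu (perp Q E) (hQ.nondeg_perp hE) (by omega)
      (fun y hy => map_mem_perp u (ker_invariant s u hc) hy) hb
    rw [map_add, h1, h3]
    rfl

theorem restrictO_pow_app {W : Submodule F V} (g : O Q) (hW : ∀ x ∈ W, (g : V ≃ₗ[F] V) x ∈ W)
    (k : ℕ) (x : W) :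
    ((((restrictO g hW) ^ k : O (restr Q W)) : W ≃ₗ[F] W) x : V) =
      ((g ^ k : O Q) : V ≃ₗ[F] V) x := by
  induction k generalizing x with
  | zero => rfl
  | succ k ih =>
    rw [pow_succ, pow_succ, Subgroup.coe_mul, Subgroup.coe_mul, mul_app, mul_app, ih]
    rfl

theorem linHom_restrictO_sub_pow {W : Submodule F V} (g : O Q)
    (hW : ∀ x ∈ W, (g : V ≃ₗ[F] V) x ∈ W) (k : ℕ) (x : W) :
    ((((linHom (restr Q W) (restrictO g hW) - 1) ^ k) x : W) : V) =
      ((linHom Q g - 1) ^ k) (x : V) := by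
  induction k generalizing x with
  | zero => rfl
  | succ k ih =>
    rw [pow_succ, pow_succ, Module.End.mul_apply, Module.End.mul_apply, ih]
    rfl

section Count

variable [Finite F]

/-- A free action of an element of prime order on a submodule. -/
theorem dvd_card_sub_one {T : Module.End F V} {r : ℕ} (hr : r.Prime) (hT : T ^ r = 1)
    (W : Submodule F V) (hinv : ∀ x ∈ W, T x ∈ W) (hfree : ∀ w ∈ W, T w = w → w = 0) :
    r ∣ Nat.card F ^ finrank F W - 1 := by
  classical
  have := Fact.mk hr
  have : Finite V := Module.finite_of_finite F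
  have := Fintype.ofFinite W
  have hbij : Function.Bijective (T.restrict hinv) := by
    refine Finite.injective_iff_bijective.mp fun a b e => Subtype.ext ?_
    have h := congrArg Subtype.val e
    simp only [LinearMap.restrict_coe_apply] at h
    have h' := congrArg (T ^ (r - 1)) h
    rwa [← Module.End.mul_apply, ← Module.End.mul_apply, ← pow_succ,
      Nat.sub_add_cancel hr.one_le, hT] at h'
  set σ : Equiv.Perm W := Equiv.ofBijective _ hbij with hσ
  have hpow : ∀ (i : ℕ) (w : W), ((σ ^ i) w : V) = (T ^ i) (w : V) := by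
    intro i
    induction i with
    | zero => intro w; rfl
    | succ i ih =>
      intro w
      rw [pow_succ, pow_succ, Equiv.Perm.mul_apply, ih, Module.End.mul_apply]
      rfl
  have hσr : σ ^ r ^ 1 = 1 := Equiv.ext fun w => Subtype.ext (by rw [hpow, pow_one, hT]; rfl)
  have hmod := Equiv.Perm.card_compl_support_modEq hσr
  have hfix : σ.supportᶜ = {0} := by
    ext w
    rw [Finset.mem_compl, Equiv.Perm.mem_support, not_not, Finset.mem_singleton]
    constructor
    · exact fun h => Subtype.ext (hfree w w.2 (congrArg Subtype.val h))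
    · rintro rfl
      exact Subtype.ext (map_zero T)
  rw [hfix, Finset.card_singleton, ← Nat.card_eq_fintype_card, natCard_eq_pow] at hmod
  exact (Nat.modEq_iff_dvd' (Nat.one_le_pow _ _ Nat.card_pos)).mp hmod

theorem sphereCard_restr (K : Submodule F V) (c : F) :
    sphereCard (restr Q K) ⊤ c = sphereCard Q K c := by
  rw [sphereCard_top]
  rfl

/-- The unit sphere in odd dimension. -/
theorem sphereCard_one_odd (hQ : Nondeg Q) (h2 : (2 : F) ≠ 0) {k : ℕ}
    (hn : finrank F V = 2 * k + 1) :
    ∃ a : ℤ, (a = 1 ∨ a = -1) ∧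
      (sphereCard Q ⊤ (1 : F) : ℤ) = (Nat.card F : ℤ) ^ (2 * k) + a * (Nat.card F : ℤ) ^ k := by
  obtain ⟨k', e, f, h, ha⟩ := hQ.exists_frame
  have hr := h.finrank_kernel hQ
  have hle := finrank_le_two_of_aniso (h.nondeg_kernel hQ) ha
  obtain rfl : k' = k := by omega
  have h1 : finrank F (IsFrame.kernel Q e f) = 1 := by omega
  obtain ⟨hcount, hV⟩ := sphereCard_frame h 1
  rw [natCard_eq_pow (IsFrame.kernel Q e f), h1, pow_one] at hcount hV
  have hker : sphereCard Q (IsFrame.kernel Q e f) 1 = 0 ∨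
      sphereCard Q (IsFrame.kernel Q e f) 1 = 2 := by
    unfold sphereCard
    rcases isEmpty_or_nonempty {x : IsFrame.kernel Q e f // Q (x : V) = 1} with he | ⟨⟨x₀, hx₀⟩⟩
    · exact Or.inl (Nat.card_eq_zero.2 (Or.inl he))
    · right
      have hx0 : x₀ ≠ 0 := fun e0 => by
        rw [e0, Submodule.coe_zero, QuadraticMap.map_zero] at hx₀
        exact zero_ne_one hx₀
      rw [Nat.card_eq_two_iff]
      refine ⟨⟨x₀, hx₀⟩, ⟨-x₀, by rw [Submodule.coe_neg, QuadraticMap.map_neg, hx₀]⟩, ?_, ?_⟩
      · intro e0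
        have e1 : x₀ = -x₀ := congrArg Subtype.val e0
        have : (2 : F) • x₀ = 0 := by rw [two_smul]; nth_rewrite 2 [e1]; rw [add_neg_cancel]
        exact hx0 ((smul_eq_zero.mp this).resolve_left h2)
      · refine Set.eq_univ_of_forall fun y => ?_
        obtain ⟨y, hy⟩ := y
        obtain ⟨c, rfl⟩ := (finrank_eq_one_iff_of_nonzero' x₀ hx0).1 h1 y
        rw [Submodule.coe_smul, qmap_smul, hx₀, mul_one] at hy
        rcases sq_eq_one_iff.mp hy with rfl | rfl
        · exact Or.inl (Subtype.ext (one_smul F x₀))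
        · exact Or.inr (Subtype.ext (neg_one_smul F x₀))
  have hq : (Nat.card F : ℤ) ≠ 0 := Nat.cast_ne_zero.mpr Nat.card_pos.ne'
  have hc : ((Nat.card F * sphereCard Q ⊤ 1 + Nat.card F ^ k' * Nat.card F : ℕ) : ℤ) =
      ((Nat.card V + Nat.card F ^ (k' + 1) * sphereCard Q (IsFrame.kernel Q e f) 1 : ℕ) : ℤ) := by
    rw [hcount]
  rw [hV] at hc
  push_cast at hc
  rcases hker with hk0 | hk0 <;> rw [hk0] at hc
  · refine ⟨-1, Or.inr rfl, mul_left_cancel₀ hq ?_⟩
    push_cast at hc
    linear_combination hc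
  · refine ⟨1, Or.inl rfl, mul_left_cancel₀ hq ?_⟩
    push_cast at hc
    linear_combination hc

end Count

/-- A permutation moving every moved point in a full cycle of length `N`, `N` even. -/
theorem sign_of_free {α : Type*} [Fintype α] [DecidableEq α] (σ : Equiv.Perm α) {N : ℕ}
    (hN : Even N) (hpow : σ ^ N = 1) (hfree : ∀ x i, σ x ≠ x → (σ ^ i) x = x → N ∣ i) :
    N ∣ σ.support.card ∧ Equiv.Perm.sign σ = (-1) ^ (σ.support.card / N) := by
  have hct : ∀ ℓ ∈ σ.cycleType, ℓ = N := by
    intro ℓ hℓ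
    obtain ⟨c, τ, hσ, hdis, hc, hcard⟩ := Equiv.Perm.mem_cycleType_iff.1 hℓ
    obtain ⟨x, hx⟩ : ∃ x, x ∈ c.support := Finset.nonempty_of_ne_empty
      (fun e => hc.ne_one (Equiv.Perm.support_eq_empty_iff.mp e))
    rw [Equiv.Perm.mem_support] at hx
    have hτx : τ x = x := (hdis x).resolve_left hx
    have hpw : ∀ i, (σ ^ i) x = (c ^ i) x := fun i => by
      rw [hσ, hdis.commute.mul_pow, Equiv.Perm.mul_apply,
        Equiv.Perm.pow_apply_eq_self_of_apply_eq_self hτx]
    have hord : orderOf c = ℓ := by rw [hc.orderOf, hcard]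
    have hσx : σ x ≠ x := by
      have := hpw 1
      rw [pow_one, pow_one] at this
      rw [this]; exact hx
    have h1 : N ∣ ℓ := hfree x ℓ hσx (by rw [hpw, ← hord, pow_orderOf_eq_one]; rfl)
    have h2 : ℓ ∣ N := (Equiv.Perm.dvd_of_mem_cycleType hℓ).trans (orderOf_dvd_of_pow_eq_one hpow)
    exact Nat.dvd_antisymm h2 h1
  have hrep : σ.cycleType = Multiset.replicate σ.cycleType.card N :=
    Multiset.eq_replicate.2 ⟨rfl, hct⟩
  have hsum : σ.support.card = σ.cycleType.card * N := by
    rw [← Equiv.Perm.sum_cycleType]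
    nth_rewrite 1 [hrep]
    rw [Multiset.sum_replicate, smul_eq_mul]
  refine ⟨⟨σ.cycleType.card, by rw [hsum, mul_comm]⟩, ?_⟩
  rw [Equiv.Perm.sign_of_cycleType, Equiv.Perm.sum_cycleType, hsum, pow_add, mul_comm _ N]
  rcases Nat.eq_zero_or_pos N with rfl | hpos
  · have : σ.cycleType.card = 0 := Multiset.card_eq_zero.2 (Multiset.eq_zero_of_forall_notMem
      fun ℓ hℓ => absurd (hct ℓ hℓ) (Nat.ne_of_gt ((Nat.zero_lt_one).trans
        (Equiv.Perm.one_lt_of_mem_cycleType hℓ))))
    simp [this]
  · rw [Nat.mul_div_cancel_left _ hpos, (hN.mul_right _).neg_one_pow, one_mul]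

/-- The action of the orthogonal group on the unit sphere. -/
def spherePerm (Q : QuadraticForm F V) : O Q →* Equiv.Perm {x : V // Q x = 1} where
  toFun g := (g : V ≃ₗ[F] V).toEquiv.subtypeEquiv (p := fun x => Q x = 1) (q := fun x => Q x = 1)
    fun x => by rw [LinearEquiv.coe_toEquiv, O.map_app]
  map_one' := by ext x; rfl
  map_mul' a b := by ext x; rfl

theorem spherePerm_app (g : O Q) (x : {x : V // Q x = 1}) :
    (spherePerm Q g x : V) = (g : V ≃ₗ[F] V) (x : V) := rfl

/-- No element of the commutator subgroup has order `p (q^m + 1)` in dimension `2m + 3`. -/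
theorem no_torus_unipotent [Finite F] (p : ℕ) [Fact p.Prime] [CharP F p] (hQ : Nondeg Q)
    (h2 : (2 : F) ≠ 0) {m r : ℕ} (hm : 2 ≤ m) (hdim : finrank F V = 2 * m + 3)
    (hr : Arith.IsPPD r (Nat.card F) (2 * m)) (g : O Q) (hg : g ∈ commutator (O Q))
    (hord : orderOf g = p * (Nat.card F ^ m + 1)) : False := by
  classical
  have hp : p.Prime := Fact.out
  have hpq : p ∣ Nat.card F := by
    have := Fintype.ofFinite F
    obtain ⟨f, -, hf⟩ := FiniteField.card F p
    rw [Nat.card_eq_fintype_card, hf]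
    exact dvd_pow_self p f.ne_zero
  have hqodd : Odd (Nat.card F) := odd_natCard_of_two_ne_zero h2
  set q := Nat.card F with hqdef
  have hq3 : 3 ≤ q := by
    have := Finite.one_lt_card (α := F)
    obtain ⟨t, ht⟩ := hqodd
    omega
  set N := q ^ m + 1 with hN
  have hNeven : Even N := Odd.add_one hqodd.pow
  have hqm : 9 ≤ q ^ m := calc 9 = 3 ^ 2 := by norm_num
    _ ≤ q ^ 2 := Nat.pow_le_pow_left hq3 2
    _ ≤ q ^ m := Nat.pow_le_pow_right (by omega) hm
  have hNpos : 0 < N := Nat.succ_pos _
  have hNp : ¬ p ∣ N := by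
    rw [hN, ← Nat.dvd_add_iff_right (hpq.trans (dvd_pow_self q (by omega : m ≠ 0)))]
    exact hp.not_dvd_one
  have hNF : (N : F) ≠ 0 := fun e => hNp ((CharP.cast_eq_zero_iff F p N).mp e)
  -- the primitive prime
  have hrN : r ∣ N := by
    have h := hr.2.1
    rw [mul_comm 2 m, pow_mul, show (q ^ m) ^ 2 - 1 = N * (q ^ m - 1) by
      simpa [hN] using Nat.sq_sub_sq (q ^ m) 1] at h
    exact (hr.1.dvd_mul.mp h).resolve_right (hr.2.2 m (by omega) (by omega))
  have hrF : (r : F) ≠ 0 := fun e => by
    have h1 := (CharP.cast_eq_zero_iff F p r).mp e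
    rw [Nat.prime_dvd_prime_iff_eq hp hr.1] at h1
    exact hr.not_dvd_base (by omega) (by omega) (h1 ▸ hpq)
  set s := g ^ p with hs
  set u := g ^ N with hu
  have hso : orderOf s = N := by
    rw [hs, orderOf_pow_of_dvd hp.ne_zero (by rw [hord]; exact dvd_mul_right _ _), hord,
      Nat.mul_div_cancel_left _ hp.pos]
  have huo : orderOf u = p := by
    rw [hu, orderOf_pow_of_dvd hNpos.ne' (by rw [hord]; exact dvd_mul_left _ _), hord,
      Nat.mul_div_cancel _ hNpos]
  set x := s ^ (N / r) with hx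
  have hxo : orderOf x = r := by
    rw [hx, orderOf_pow_of_dvd (Nat.div_pos (Nat.le_of_dvd hNpos hrN) hr.1.pos).ne'
      (by rw [hso]; exact Nat.div_dvd_of_dvd hrN), hso, Nat.div_div_self hrN hNpos.ne']
  have hxr : x ^ r = 1 := by rw [← hxo, pow_orderOf_eq_one]
  have hgx : Commute g x := (Commute.refl g).pow_right p |>.pow_right (N / r)
  obtain ⟨hUn, hperp⟩ := perp_fix hQ x hrF hxr
  set U := LinearMap.ker (linHom Q x - 1) with hU
  set W := LinearMap.range (linHom Q x - 1) with hW
  have hcompl : IsCompl U W := isCompl_ker_range hrF (by rw [← map_pow, hxr, map_one])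
  have hsplit : ∀ v : V, ∃ a ∈ U, ∃ b ∈ W, a + b = v := fun v =>
    Submodule.mem_sup.1 (hcompl.sup_eq_top ▸ Submodule.mem_top)
  have hfreeW : ∀ w ∈ W, linHom Q x w = w → w = 0 := fun w hw e =>
    (Submodule.mem_bot F).1 (hcompl.disjoint.le_bot ⟨(mem_ker_iff x w).2 e, hw⟩)
  have hsub : ∀ W' : Submodule F V, W' ≤ W → (∀ w ∈ W', linHom Q x w ∈ W') →
      2 * m ∣ finrank F W' := fun W' hle hinv =>
    (hr.dvd_iff (by omega) (by omega)).1 (dvd_card_sub_one hr.1
      (by rw [← map_pow, hxr, map_one]) W' hinv (fun w hw => hfreeW w (hle hw)))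
  have hWpos : finrank F W ≠ 0 := fun e => by
    have hW0 : W = ⊥ := Submodule.finrank_eq_zero.1 e
    refine hr.1.ne_one (hxo.symm.trans (orderOf_eq_one_iff.2 (linHom_injective ?_)))
    rw [map_one, ← sub_eq_zero, ← LinearMap.range_eq_bot]
    exact hW0
  have hdW : finrank F W = 2 * m := by
    obtain ⟨c, hc⟩ := hsub W le_rfl (range_invariant x (Commute.refl _))
    have hle : finrank F W ≤ 2 * m + 3 := hdim ▸ Submodule.finrank_le _
    rcases c with _ | _ | c
    · omega
    · omega
    · exfalso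
      rw [hc] at hle
      have : 2 * m * 2 ≤ 2 * m * (c + 1 + 1) := Nat.mul_le_mul_left _ (by omega)
      omega
  have hdU : finrank F U = 3 := by
    have := Submodule.finrank_add_eq_of_isCompl hcompl
    omega
  -- an endomorphism commuting with x with a non-trivial kernel on W kills W
  have hkey : ∀ T : Module.End F V, Commute (linHom Q x) T →
      (∃ w ∈ W, w ≠ 0 ∧ T w = 0) → ∀ w ∈ W, T w = 0 := by
    rintro T hT ⟨w₀, hw₀, hne, hTw⟩ w hw
    have hinv : ∀ v ∈ LinearMap.ker T ⊓ W, linHom Q x v ∈ LinearMap.ker T ⊓ W := by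
      rintro v ⟨hv1, hv2⟩
      refine ⟨?_, range_invariant x (Commute.refl _) v hv2⟩
      rw [SetLike.mem_coe, LinearMap.mem_ker, ← Module.End.mul_apply, ← hT.eq,
        Module.End.mul_apply, LinearMap.mem_ker.1 hv1, map_zero]
    have hpos : 0 < finrank F (LinearMap.ker T ⊓ W : Submodule F V) :=
      Module.finrank_pos_iff.2 ⟨⟨⟨w₀, LinearMap.mem_ker.2 hTw, hw₀⟩, 0,
        fun e => hne (congrArg Subtype.val e)⟩⟩
    have heq : LinearMap.ker T ⊓ W = W := by
      refine Submodule.eq_of_le_of_finrank_le inf_le_right ?_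
      rw [hdW]
      exact Nat.le_of_dvd hpos (hsub _ inf_le_right hinv)
    exact LinearMap.mem_ker.1 (heq.ge hw).1
  have hcg : ∀ i, Commute (linHom Q x) (linHom Q (g ^ i)) := fun i =>
    ((hgx.pow_left i).symm).map (linHom Q)
  -- the unipotent part is trivial on W
  have hn : (linHom Q u - 1) ^ p = 0 := by
    have : Nontrivial V := Module.nontrivial_of_finrank_pos (R := F) (by omega)
    have : CharP (Module.End F V) p :=
      charP_of_injective_algebraMap (algebraMap F (Module.End F V)).injective p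
    rw [sub_pow_char_of_commute (p := p) (Commute.one_right _), one_pow, ← map_pow, ← huo,
      pow_orderOf_eq_one, map_one, sub_self]
  have hcn : Commute (linHom Q x) (linHom Q u - 1) := (hcg N).sub_right (Commute.one_right _)
  have huW : ∀ w ∈ W, (u : V ≃ₗ[F] V) w = w := by
    obtain ⟨w₀, hw₀, hne⟩ := Submodule.exists_mem_ne_zero_of_ne_bot
      (fun e : W = ⊥ => hWpos (by rw [e, finrank_bot]))
    have hex : ∃ j : ℕ, ((linHom Q u - 1) ^ j) w₀ = 0 := ⟨p, by rw [hn]; rfl⟩
    have hj0 : Nat.find hex ≠ 0 := fun e => hne (by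
      have := Nat.find_spec hex
      rwa [e, pow_zero] at this)
    obtain ⟨j, hj⟩ : ∃ j, Nat.find hex = j + 1 := ⟨Nat.find hex - 1, by omega⟩
    have hspec := Nat.find_spec hex
    rw [hj, pow_succ', Module.End.mul_apply] at hspec
    have hmem : ((linHom Q u - 1) ^ j) w₀ ∈ W := range_invariant x (hcn.pow_right j) w₀ hw₀
    intro w hw
    have := hkey _ hcn ⟨_, hmem, Nat.find_min hex (by omega), hspec⟩ w hw
    rwa [LinearMap.sub_apply, Module.End.one_apply, sub_eq_zero] at this
  have hune : ¬ ∀ v ∈ U, (u : V ≃ₗ[F] V) v = v := by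
    intro h
    have : u = 1 := O.ext_app fun v => by
      obtain ⟨a, ha, b, hb, rfl⟩ := hsplit v
      rw [map_add, h a ha, huW b hb]
      rfl
    rw [this, orderOf_one] at huo
    exact hp.ne_one huo.symm
  -- the semisimple part is trivial on U
  have hfixle : ∀ v, (s : V ≃ₗ[F] V) v = v → v ∈ U := by
    intro v hv
    rw [hU, mem_ker_iff, hx]
    have : ∀ i : ℕ, ((s ^ i : O Q) : V ≃ₗ[F] V) v = v := by
      intro i
      induction i with
      | zero => rfl
      | succ i ih => rw [pow_succ, Subgroup.coe_mul, mul_app, hv, ih]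
    exact this _
  have hdetg : LinearMap.det (linHom Q g) = 1 :=
    (detSign_eq_one_iff hQ h2 g).1 ((mem_commutator_iff hQ h2 g).1 hg).1
  have hdets : LinearMap.det (linHom Q s) = 1 := by
    rw [hs, map_pow, map_pow, hdetg, one_pow]
  obtain ⟨v₀, hv₀, hsv₀⟩ := exists_fixed_of_det_one hQ h2 (by rw [hdim]; exact ⟨m + 1, by ring⟩) s hdets
  have hgU := ker_invariant x g hgx.symm
  have hsU : ∀ v ∈ U, (s : V ≃ₗ[F] V) v = v := by
    have hsinv := ker_invariant x s ((hgx.pow_left p).symm)
    have huinv := ker_invariant x u ((hgx.pow_left N).symm)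
    have hres := semisimple_or_unipotent (Q := restr Q U) hUn h2 hdU (restrictO s hsinv)
      (restrictO u huinv) ?_ hNF ?_ ⟨⟨v₀, hfixle v₀ hsv₀⟩, fun e => hv₀ (congrArg Subtype.val e),
        Subtype.ext hsv₀⟩ (j := p) ?_
    · rcases hres with h | h
      · intro v hv
        have := congrArg (fun z : O (restr Q U) => (((z : U ≃ₗ[F] U) ⟨v, hv⟩ : U) : V)) h
        exact this
      · refine absurd (fun v hv => ?_) hune
        have := congrArg (fun z : O (restr Q U) => (((z : U ≃ₗ[F] U) ⟨v, hv⟩ : U) : V)) h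
        exact this
    · refine O.ext_app fun v => Subtype.ext ?_
      show (s : V ≃ₗ[F] V) ((u : V ≃ₗ[F] V) (v : V)) = (u : V ≃ₗ[F] V) ((s : V ≃ₗ[F] V) (v : V))
      rw [← mul_app, ← mul_app, ← Subgroup.coe_mul, ← Subgroup.coe_mul,
        ((Commute.refl g).pow_pow p N).eq]
    · refine O.ext_app fun v => Subtype.ext ?_
      rw [restrictO_pow_app, ← hso, pow_orderOf_eq_one]
      rfl
    · refine LinearMap.ext fun v => Subtype.ext ?_
      rw [linHom_restrictO_sub_pow, hn]
      rfl
  -- the sign of the permutation of the unit sphere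
  have : Finite V := Module.finite_of_finite F
  let _ := Fintype.ofFinite {y : V // Q y = 1}
  set σ := spherePerm Q s with hσ
  have hpowapp : ∀ (i : ℕ) (y : {y : V // Q y = 1}),
      ((σ ^ i) y : V) = ((s ^ i : O Q) : V ≃ₗ[F] V) (y : V) := fun i y => by
    rw [hσ, ← map_pow, spherePerm_app]
  have hσN : σ ^ N = 1 := by rw [hσ, ← map_pow, ← hso, pow_orderOf_eq_one, map_one]
  have hfree : ∀ y i, σ y ≠ y → (σ ^ i) y = y → N ∣ i := by
    intro y i hy hi
    have hyU : (y : V) ∉ U := fun h => hy (Subtype.ext (hsU _ h))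
    obtain ⟨a, ha, b, hb, hab⟩ := hsplit (y : V)
    have hb0 : b ≠ 0 := fun e => hyU (by rw [← hab, e, add_zero]; exact ha)
    have hpowU : ∀ (k : ℕ), ∀ v ∈ U, ((s ^ k : O Q) : V ≃ₗ[F] V) v = v := by
      intro k v hv
      induction k with
      | zero => rfl
      | succ k ih => rw [pow_succ, Subgroup.coe_mul, mul_app, hsU v hv, ih]
    have hib : (linHom Q (s ^ i) - 1) b = 0 := by
      have h := congrArg Subtype.val hi
      rw [hpowapp, ← hab, map_add, hpowU i a ha, add_right_inj] at h
      rw [LinearMap.sub_apply, Module.End.one_apply, linHom_apply, h, sub_self]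
    have hcomm : Commute (linHom Q x) (linHom Q (s ^ i) - 1) := by
      rw [hs, ← pow_mul]
      exact (hcg _).sub_right (Commute.one_right _)
    have hall := hkey _ hcomm ⟨b, hb, hb0, hib⟩
    rw [← hso]
    refine orderOf_dvd_of_pow_eq_one (O.ext_app fun v => ?_)
    obtain ⟨c, hc, d, hd, rfl⟩ := hsplit v
    have hd' := hall d hd
    rw [LinearMap.sub_apply, Module.End.one_apply, linHom_apply, sub_eq_zero] at hd'
    rw [map_add, hpowU i c hc, hd']
    rfl
  obtain ⟨hNdvd, hsign⟩ := sign_of_free σ hNeven hσN hfree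
  have hsign1 : Equiv.Perm.sign σ = 1 :=
    MonoidHom.mem_ker.1 (Abelianization.commutator_subset_ker
      (Equiv.Perm.sign.comp (spherePerm Q)) ((commutator (O Q)).pow_mem hg p))
  have hfix : σ.supportᶜ.card = sphereCard Q U 1 := by
    rw [sphereCard, ← Fintype.card_coe, ← Nat.card_eq_fintype_card]
    exact Nat.card_congr
      { toFun := fun y => ⟨⟨(y.1 : V), by
          by_contra hyU
          have hmem : σ y.1 = y.1 := by
            exact Equiv.Perm.notMem_support.1 (Finset.mem_compl.1 y.2)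
          exact hyU (hfixle _ (congrArg Subtype.val hmem))⟩, y.1.2⟩
        invFun := fun v => ⟨⟨(v.1 : V), v.2⟩, by
          simp only [Finset.mem_compl, Equiv.Perm.mem_support, not_not]
          exact Subtype.ext (hsU _ v.1.2)⟩
        left_inv := fun _ => rfl
        right_inv := fun _ => rfl }
  have htot : σ.support.card + sphereCard Q U 1 = sphereCard Q ⊤ 1 := by
    rw [← hfix, Finset.card_add_card_compl, sphereCard_top, Nat.card_eq_fintype_card]
  obtain ⟨c, hc⟩ := hNdvd
  have hceven : Even c := by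
    have h : ((-1 : ℤˣ)) ^ (σ.support.card / N) = 1 := hsign.symm.trans hsign1
    rw [hc, Nat.mul_div_cancel_left _ hNpos] at h
    exact (neg_one_pow_eq_one_iff_even (by decide)).1 h
  obtain ⟨a, ha, hSV⟩ := sphereCard_one_odd hQ h2 (k := m + 1) (by omega)
  obtain ⟨b, hb, hSU⟩ := sphereCard_one_odd (Q := restr Q U) hUn h2 (k := 1) (by omega)
  rw [sphereCard_restr] at hSU
  have heq : (N : ℤ) * c + ((q : ℤ) ^ 2 + b * q) = (q : ℤ) ^ (2 * (m + 1)) + a * (q : ℤ) ^ (m + 1) := by
    rw [← hSV, ← htot, hc]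
    push_cast
    rw [hSU]
    push_cast
    ring
  set Q0 : ℤ := (q : ℤ) with hQ0
  have hNZ : (N : ℤ) = Q0 ^ m + 1 := by rw [hN]; push_cast; ring
  rw [hNZ] at heq
  have hdiv : Q0 ^ m + 1 ∣ Q0 * (a + b) := by
    refine ⟨Q0 ^ 2 * (Q0 ^ m - 1) + a * Q0 - c, ?_⟩
    linear_combination heq
  have hab : a + b = 0 := by
    have hcop : IsCoprime (Q0 ^ m + 1) Q0 := by
      refine ⟨1, -Q0 ^ (m - 1), ?_⟩
      obtain ⟨m', rfl⟩ : ∃ m', m = m' + 1 := ⟨m - 1, by omega⟩
      simp only [Nat.add_sub_cancel]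
      ring
    refine Int.eq_zero_of_abs_lt_dvd (hcop.dvd_of_dvd_mul_left hdiv) ?_
    have h9 : (9 : ℤ) ≤ Q0 ^ m := by rw [hQ0]; exact_mod_cast hqm
    rcases ha with rfl | rfl <;> rcases hb with rfl | rfl <;> norm_num <;> omega
  have hcval : (c : ℤ) = Q0 ^ 2 * (Q0 ^ m - 1) + a * Q0 := by
    have hne : Q0 ^ m + 1 ≠ 0 := by
      have : (9 : ℤ) ≤ Q0 ^ m := by rw [hQ0]; exact_mod_cast hqm
      omega
    refine mul_left_cancel₀ hne ?_
    have hb' : b = -a := by linear_combination hab
    subst hb'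
    linear_combination heq
  obtain ⟨c', rfl⟩ := hceven
  obtain ⟨t, ht⟩ : Odd (Q0 ^ m) := by
    have : Odd Q0 := by rw [hQ0]; exact_mod_cast hqodd
    exact this.pow
  obtain ⟨t', ht'⟩ : Odd Q0 := by rw [hQ0]; exact_mod_cast hqodd
  rw [ht] at hcval
  push_cast at hcval
  rcases ha with rfl | rfl <;> rw [ht'] at hcval <;>
    ring_nf at hcval <;> omega

end Cfsg.Agent.H53
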