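import Cfsg.Agent.H53.PSUThree

/-!
Elements of PSU(m, q) commuting with an element of order p.
-/

set_option autoImplicit false
set_option linter.unusedSectionVars false

namespace Cfsg.Agent.H53

open Cfsg.Agent.Unitary Polynomial
open scoped Matrix

/-- A nilpotent matrix commuting with one whose eigenvalues are all simple is zero. -/
theorem eq_zero_of_commute_nodup {K : Type*} [Field K] [IsAlgClosed K] {n : ℕ}
    (M N : Matrix (Fin n) (Fin n) K) (hnd : M.charpoly.roots.Nodup) (hc : Commute M N)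
    (hN : IsNilpotent N) : N = 0 := by
  classical
  let S := M.charpoly.roots.toFinset
  have hcard : Fintype.card {x // x ∈ S} = n := by
    rw [Fintype.card_coe, Multiset.toFinset_card_of_nodup hnd,
      ← (IsAlgClosed.splits M.charpoly).natDegree_eq_card_roots, Matrix.charpoly_natDegree_eq_dim,
      Fintype.card_fin]
  have hex : ∀ x : {x // x ∈ S}, ∃ v : Fin n → K, v ≠ 0 ∧ M *ᵥ v = x.1 • v := by
    intro x
    have hx : M.charpoly.eval x.1 = 0 :=
      ((mem_roots M.charpoly_monic.ne_zero).1 (Multiset.mem_toFinset.1 x.2))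
    rw [Matrix.eval_charpoly] at hx
    obtain ⟨v, hv, h⟩ := Matrix.exists_mulVec_eq_zero_iff.2 hx
    refine ⟨v, hv, ?_⟩
    rw [Matrix.sub_mulVec, sub_eq_zero, Matrix.scalar_apply] at h
    rw [← h]
    ext i
    simp [Matrix.mulVec_diagonal]
  choose v hv0 hv using hex
  have hli : LinearIndependent K v := Module.End.eigenvectors_linearIndependent' (Matrix.toLin' M)
    (fun x : {x // x ∈ S} => x.1) Subtype.val_injective v fun x =>
      ⟨by rw [Module.End.mem_eigenspace_iff, Matrix.toLin'_apply, hv], hv0 x⟩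
  have hspan : ⊤ ≤ Submodule.span K (Set.range v) := by
    rw [hli.span_eq_top_of_card_eq_finrank' (by rw [hcard, Module.finrank_fin_fun])]
  obtain ⟨k, hk⟩ := hN
  have hNv : ∀ x, N *ᵥ v x = 0 := by
    intro x
    obtain ⟨c, hcoef⟩ := (Submodule.mem_span_range_iff_exists_fun K).1
      (hspan (Submodule.mem_top (x := N *ᵥ v x)))
    have h1 : M *ᵥ (N *ᵥ v x) = x.1 • (N *ᵥ v x) := by
      rw [Matrix.mulVec_mulVec, hc.eq, ← Matrix.mulVec_mulVec, hv, Matrix.mulVec_smul]
    rw [← hcoef, Matrix.mulVec_sum, Finset.smul_sum] at h1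
    simp only [Matrix.mulVec_smul, hv, smul_smul] at h1
    have h2 := Fintype.linearIndependent_iff.1 hli (fun y => c y * y.1 - x.1 * c y)
      (by simp only [sub_smul, Finset.sum_sub_distrib]; rw [h1, sub_self])
    have h3 : ∀ y, y ≠ x → c y = 0 := fun y hy => by
      have h4 : c y * (y.1 - x.1) = 0 := by linear_combination h2 y
      exact (mul_eq_zero.1 h4).resolve_right (sub_ne_zero.2 fun e => hy (Subtype.ext e))
    have h5 : N *ᵥ v x = c x • v x := by
      rw [← hcoef, Finset.sum_eq_single x (fun y _ hy => by rw [h3 y hy, zero_smul])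
        (fun h => absurd (Finset.mem_univ x) h)]
    have h6 : ∀ j, (N ^ j) *ᵥ v x = c x ^ j • v x := by
      intro j
      induction j with
      | zero => simp
      | succ j ih => rw [pow_succ, ← Matrix.mulVec_mulVec, h5, Matrix.mulVec_smul, ih, smul_smul, ← pow_succ']
    have h7 := h6 k
    rw [hk, Matrix.zero_mulVec] at h7
    have h8 : c x = 0 := by
      rcases smul_eq_zero.1 h7.symm with h | h
      · exact eq_zero_of_pow_eq_zero h
      · exact absurd h (hv0 x)
    rw [h5, h8, zero_smul]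
  refine Matrix.ext_iff_mulVec.2 fun w => ?_
  rw [Matrix.zero_mulVec]
  obtain ⟨c, rfl⟩ := (Submodule.mem_span_range_iff_exists_fun K).1 (hspan (Submodule.mem_top (x := w)))
  rw [Matrix.mulVec_sum]
  exact Finset.sum_eq_zero fun y _ => by rw [Matrix.mulVec_smul, hNv, smul_zero]

variable {F : Type*} [Field F] [Fintype F] {m q : ℕ}

theorem center_pow (hF : Fintype.card F = q ^ 2) (hm : 2 ≤ m) {z : Cfsg.SU m F q}
    (hz : z ∈ Subgroup.center (Cfsg.SU m F q)) : z ^ (q + 1) = 1 := by
  obtain ⟨l, hl⟩ := eq_smul_of_mem_center hF hm hz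
  have hn : l * l ^ q = 1 := by
    have h := herm_ap z (Pi.single (⟨0, by omega⟩ : Fin m) 1) (Pi.single (⟨0, by omega⟩ : Fin m) 1)
    rw [hl, herm_self_smul, herm_single_single hF, if_pos rfl, mul_one] at h
    exact h
  have hpow : ∀ (j : ℕ) x, ap (z ^ j) x = l ^ j • x := by
    intro j
    induction j with
    | zero => simp
    | succ j ih => intro x; rw [pow_succ, ap_mul, hl, ap_smul, ih, smul_smul, ← pow_succ']
  refine ap_ext fun x => ?_
  rw [hpow, ap_one, pow_succ', hn, one_smul]

/-- Commuting lifts. -/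
theorem exists_lifts (p : ℕ) [Fact p.Prime] (hpq : p ∣ q) (hF : Fintype.card F = q ^ 2) (hm : 2 ≤ m)
    (a b : Cfsg.PSU m F q) (ha : orderOf a = p) (hab : Commute a b) :
    ∃ A B : Cfsg.SU m F q, H55.toPSU A = a ∧ H55.toPSU B = b ∧ A ^ p = 1 ∧ A ≠ 1 ∧ Commute A B := by
  obtain ⟨A0, rfl⟩ := QuotientGroup.mk'_surjective _ a
  obtain ⟨B, rfl⟩ := QuotientGroup.mk'_surjective _ b
  have hap := pow_orderOf_eq_one (H55.toPSU A0)
  rw [ha] at hap
  have hA : (A0 ^ (q + 1)) ^ p = 1 := by
    rw [← pow_mul, mul_comm, pow_mul]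
    refine center_pow hF hm ?_
    rw [← map_pow, QuotientGroup.mk'_apply, QuotientGroup.eq_one_iff] at hap
    exact hap
  have himg : H55.toPSU (A0 ^ (q + 1)) = H55.toPSU A0 := by
    have hq : H55.toPSU A0 ^ q = 1 := orderOf_dvd_iff_pow_eq_one.1 (ha.symm ▸ hpq)
    show QuotientGroup.mk' _ (A0 ^ (q + 1)) = _
    rw [map_pow, pow_succ]
    show H55.toPSU A0 ^ q * H55.toPSU A0 = _
    rw [hq, one_mul]
  refine ⟨A0 ^ (q + 1), B, himg, rfl, hA, ?_, ?_⟩
  · intro h
    rw [h, H55.toPSU, map_one] at himg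
    have hha : orderOf (H55.toPSU A0) = p := ha
    rw [H55.toPSU] at hha
    have himg' : QuotientGroup.mk' (Subgroup.center (Cfsg.SU m F q)) A0 = 1 := himg.symm
    rw [himg', orderOf_one] at ha
    exact (Fact.out : p.Prime).ne_one ha.symm
  · generalize hAdef : A0 ^ (q + 1) = A at hA himg
    set z := B * A * B⁻¹ * A⁻¹ with hz
    have hzc : z ∈ Subgroup.center (Cfsg.SU m F q) := by
      rw [← QuotientGroup.eq_one_iff, ← QuotientGroup.mk'_apply, hz]
      simp only [map_mul, map_inv]
      rw [show (QuotientGroup.mk' _) A = (QuotientGroup.mk' _) A0 from himg, ← hab.eq]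
      group
    have hzA : Commute z A := ((Subgroup.mem_center_iff.1 hzc) A).symm
    have h1 : B * A * B⁻¹ = z * A := by rw [hz]; group
    have h2 := congrArg (· ^ p) h1
    simp only [conj_pow, hA, mul_one, mul_inv_cancel, hzA.mul_pow] at h2
    have h3 : z = 1 := orderOf_eq_one_iff.1 (Nat.eq_one_of_dvd_one (by
      have hco : Nat.Coprime p (q + 1) := (Fact.out : p.Prime).coprime_iff_not_dvd.2 fun h =>
        (Fact.out : p.Prime).not_dvd_one ((Nat.dvd_add_right hpq).1 h)
      rw [← hco.gcd_eq_one]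
      exact Nat.dvd_gcd (orderOf_dvd_of_pow_eq_one h2.symm)
        (orderOf_dvd_of_pow_eq_one (center_pow hF hm hzc))))
    rw [h3, one_mul, mul_inv_eq_iff_eq_mul] at h1
    exact h1.symm

/-- Some orbit of eigenvalues accounts for each prime divisor. -/
theorem exists_factor (p : ℕ) [Fact p.Prime] [CharP F p] (hpq : p ∣ q) (hm : 4 ≤ m)
    (hF : Fintype.card F = q ^ 2) (a b : Cfsg.PSU m F q) (ha : orderOf a = p) (hab : Commute a b)
    {r : ℕ} (hr : r.Prime) (hrb : r ∣ orderOf b) (hrp : r ≠ p) :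
    ∃ i, i + 1 ≤ m - 2 ∧ r ∣ guFactor q i := by
  classical
  obtain ⟨A, B, -, rfl, hA, hA1, hAB⟩ := exists_lifts p hpq hF (by omega) a b ha hab
  have : NeZero m := ⟨by omega⟩
  set K := AlgebraicClosure F
  set φ := algebraMap F K
  have : CharP K p := charP_of_injective_algebraMap φ.injective p
  obtain ⟨ψ, hψ⟩ := H55.exists_frobPow hF K 1
  simp only [pow_one] at hψ
  set M := φ.mapMatrix (mat B) with hM
  have hdet : M.det = 1 := by
    rw [hM, ← RingHom.map_det, show (mat B).det = 1 from B.1.2, map_one]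
  have hinv : (ψ.mapMatrix M)ᵀ * M = 1 := by
    have h := congrArg φ.mapMatrix (H55.hstar_mat hF B)
    rw [map_mul, map_one] at h
    rw [← h]
    congr 1
    ext i j
    simp [hM, hψ, hstar, Matrix.map_apply]
  set R := M.charpoly.roots.toFinset
  have hmem : ∀ x, x ∈ R ↔ (Matrix.scalar (Fin m) x - M).det = 0 := fun x => by
    rw [Multiset.mem_toFinset, mem_roots M.charpoly_monic.ne_zero, IsRoot, Matrix.eval_charpoly]
  have hne : ∀ x ∈ R, x ≠ 0 := by
    intro x hx h0
    rw [hmem, h0, map_zero, zero_sub, Matrix.det_neg, hdet, mul_one] at hx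
    exact pow_ne_zero _ (neg_ne_zero.2 one_ne_zero) hx
  have hT : ∀ x ∈ R, (x ^ q)⁻¹ ∈ R := by
    intro x hx
    have hx0 := hne x hx
    rw [hmem] at hx ⊢
    have h1 := congrArg ψ hx
    rw [map_zero, RingHom.map_det, map_sub, Matrix.scalar_apply, RingHom.mapMatrix_apply,
      Matrix.diagonal_map (map_zero ψ)] at h1
    simp only [hψ] at h1
    rw [← Matrix.det_transpose, Matrix.transpose_sub, Matrix.diagonal_transpose] at h1
    have h2 := congrArg (· * M.det) h1
    simp only [zero_mul] at h2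
    rw [← Matrix.det_mul, sub_mul, hinv] at h2
    have hxq : x ^ q ≠ 0 := pow_ne_zero _ hx0
    have e : Matrix.diagonal (fun _ : Fin m => x ^ q) * M - 1 =
        (-(x ^ q)) • (Matrix.scalar (Fin m) (x ^ q)⁻¹ - M) := by
      ext i j
      rcases eq_or_ne i j with rfl | hij
      · simp only [Matrix.sub_apply, Matrix.diagonal_mul, Matrix.one_apply_eq, Matrix.smul_apply,
          Matrix.scalar_apply, Matrix.diagonal_apply_eq, smul_eq_mul]
        rw [neg_mul, mul_sub, mul_inv_cancel₀ hxq]
        ring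
      · simp only [Matrix.sub_apply, Matrix.diagonal_mul, Matrix.one_apply_ne hij,
          Matrix.smul_apply, Matrix.scalar_apply, Matrix.diagonal_apply_ne _ hij, smul_eq_mul]
        ring
    rw [e, Matrix.det_smul, mul_eq_zero] at h2
    exact h2.resolve_left (pow_ne_zero _ (neg_ne_zero.2 hxq))
  let f : {x // x ∈ R} → {x // x ∈ R} := fun x => ⟨(x.1 ^ q)⁻¹, hT x.1 x.2⟩
  have hinj : Function.Injective f := fun x y h => by
    have h' : x.1 ^ q = y.1 ^ q := inv_injective (congrArg Subtype.val h)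
    exact Subtype.ext (ψ.injective (by rw [hψ, hψ, h']))
  have hper := fun x => hinj.mem_periodicPts x
  have hiter : ∀ (j : ℕ) (x : {x // x ∈ R}),
      (f^[j] x).1 = if Even j then x.1 ^ q ^ j else (x.1 ^ q ^ j)⁻¹ := by
    intro j
    induction j with
    | zero => intro x; simp
    | succ j ih =>
      intro x
      rw [Function.iterate_succ_apply']
      show (((f^[j] x).1) ^ q)⁻¹ = _
      rw [ih]
      by_cases hj : Even j
      · rw [if_pos hj, if_neg (Nat.not_even_iff_odd.2 hj.add_one), ← pow_mul, pow_succ]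
      · rw [if_neg hj, if_pos (Nat.not_even_iff_odd.1 hj).add_one, inv_pow, inv_inv, ← pow_mul,
          pow_succ]
  have hq1 : ∀ j, 1 ≤ q ^ j := fun j => Nat.one_le_pow _ _ (q_pos hF)
  have hord : ∀ x : {x // x ∈ R}, orderOf x.1 ∣ guFactor q (Function.minimalPeriod f x - 1) := by
    intro x
    have he : 0 < Function.minimalPeriod f x := Function.minimalPeriod_pos_of_mem_periodicPts (hper x)
    have h := congrArg Subtype.val (Function.isPeriodicPt_minimalPeriod f x).eq
    rw [hiter] at h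
    obtain ⟨j, hj⟩ : ∃ j, Function.minimalPeriod f x = j + 1 := ⟨_, (Nat.sub_add_cancel he).symm⟩
    rw [hj] at h ⊢
    rw [Nat.add_sub_cancel, guFactor]
    refine orderOf_dvd_of_pow_eq_one ?_
    by_cases hje : Even j
    · rw [if_pos hje]
      rw [if_neg (Nat.not_even_iff_odd.2 hje.add_one)] at h
      rw [pow_succ (x.1)]
      nth_rewrite 2 [← h]
      exact mul_inv_cancel₀ (pow_ne_zero _ (hne _ x.2))
    · rw [if_neg hje]
      rw [if_pos (Nat.not_even_iff_odd.1 hje).add_one] at h
      refine mul_left_cancel₀ (hne _ x.2) ?_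
      rw [← pow_succ', Nat.sub_add_cancel (hq1 _), mul_one, h]
  -- an eigenvalue whose order is divisible by `r`
  obtain ⟨ζ, hζ⟩ : ∃ ζ : {x // x ∈ R}, r ∣ orderOf ζ.1 := by
    by_contra hcon
    push Not at hcon
    set L := ∏ x : {x // x ∈ R}, orderOf x.1
    have hrL : ¬ r ∣ L := fun h => by
      obtain ⟨x, -, hx⟩ := (hr.prime.dvd_finsetProd_iff _).1 h
      exact hcon x hx
    have hmp : m ≤ p ^ m := (Nat.lt_pow_self (Fact.out : p.Prime).one_lt).le
    have hdvd : (mat B).charpoly.map φ ∣ (X : K[X]) ^ (L * p ^ m) - C 1 := by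
      rw [pow_mul, C_1, show ((X : K[X]) ^ L) ^ p ^ m - 1 = ((X : K[X]) ^ L - 1) ^ p ^ m by
        rw [sub_pow_char_pow, one_pow],
        ← (mat B).charpoly_map φ]
      change M.charpoly ∣ _
      have hs := IsAlgClosed.splits M.charpoly
      rw [hs.eq_prod_roots_of_monic M.charpoly_monic]
      refine dvd_trans ?_ (pow_dvd_pow _ hmp)
      have hc : M.charpoly.roots.card = m := by
        rw [← hs.natDegree_eq_card_roots, Matrix.charpoly_natDegree_eq_dim, Fintype.card_fin]
      have hkey : ((M.charpoly.roots.map fun a => X - C a).prod) ∣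
          (M.charpoly.roots.map fun _ => (X : K[X]) ^ L - 1).prod := by
        refine Multiset.prod_dvd_prod_of_dvd _ _ fun x hx => ?_
        rw [dvd_iff_isRoot, IsRoot, eval_sub, eval_pow, eval_X, eval_one, sub_eq_zero,
          ← orderOf_dvd_iff_pow_eq_one]
        exact Finset.dvd_prod_of_mem (fun x : {x // x ∈ R} => orderOf x.1)
          (Finset.mem_univ ⟨x, Multiset.mem_toFinset.2 hx⟩)
      rwa [Multiset.map_const', Multiset.prod_replicate, hc] at hkey
    have := hrb.trans (orderOf_dvd_of_pow_eq_one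
      ((H55.toPSU_pow_eq_one_iff hF (by omega) B _).2 (scalar_of_dvd φ (mat B) hdvd)))
    rcases hr.dvd_mul.1 this with h | h
    · exact hrL h
    · exact hrp ((Nat.prime_dvd_prime_iff_eq hr Fact.out).1 (hr.dvd_of_dvd_pow h))
  -- the nilpotent part of `A`
  have hnd : ¬ M.charpoly.roots.Nodup := by
    intro hnd
    have hAc : Commute M (φ.mapMatrix (mat A)) :=
      (show Commute (mat B) (mat A) from
        (congrArg mat hAB.symm.eq : mat (B * A) = mat (A * B))).map φ.mapMatrix
    have hAp : (φ.mapMatrix (mat A) - 1) ^ p = 0 := by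
      rw [sub_pow_char_of_commute _ (Commute.one_right _), one_pow, ← map_pow, ← H55.mat_pow, hA]
      simp [mat]
    have h0 := eq_zero_of_commute_nodup M _ hnd (hAc.sub_right (Commute.one_right M)) ⟨p, hAp⟩
    rw [sub_eq_zero, ← map_one φ.mapMatrix] at h0
    refine hA1 (Subtype.ext (Subtype.ext ?_))
    exact (Matrix.map_injective φ.injective) h0
  set e := Function.minimalPeriod f ζ with he
  have hepos : 0 < e := Function.minimalPeriod_pos_of_mem_periodicPts (hper ζ)
  refine ⟨e - 1, ?_, hζ.trans (hord ζ)⟩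
  by_contra hcon
  -- the orbit
  let S := (Finset.range e).image fun j => (f^[j] ζ).1
  have hScard : S.card = e := by
    rw [Finset.card_image_of_injOn, Finset.card_range]
    intro i hi j hj hij
    rw [Finset.coe_range] at hi hj
    exact Function.iterate_injOn_Iio_minimalPeriod hi hj (Subtype.ext hij)
  have hsub : S.val ≤ M.charpoly.roots := by
    refine (Multiset.le_iff_subset S.nodup).2 fun x hx => ?_
    obtain ⟨j, -, rfl⟩ := Finset.mem_image.1 (Finset.mem_def.2 hx)
    exact Multiset.mem_toFinset.1 (f^[j] ζ).2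
  obtain ⟨u, hu⟩ := Multiset.le_iff_exists_add.1 hsub
  have hc : M.charpoly.roots.card = m := by
    rw [← (IsAlgClosed.splits M.charpoly).natDegree_eq_card_roots,
      Matrix.charpoly_natDegree_eq_dim, Fintype.card_fin]
  rw [hu, Multiset.card_add, Finset.card_val, hScard] at hc
  have hcases : u.card = 0 ∨ u.card = 1 := by omega
  rcases hcases with h | h
  · rw [Multiset.card_eq_zero.1 h, add_zero] at hu
    exact hnd (hu ▸ S.nodup)
  obtain ⟨η, rfl⟩ := Multiset.card_eq_one.1 h
  by_cases hη : η ∈ S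
  swap
  · refine hnd ?_
    rw [hu, Multiset.nodup_add]
    exact ⟨S.nodup, Multiset.nodup_singleton η, Multiset.disjoint_singleton.2 hη⟩
  obtain ⟨i, hi, rfl⟩ := Finset.mem_image.1 hη
  set P := ∏ x ∈ S, x with hP
  have hprod : P * (f^[i] ζ).1 = 1 := by
    rw [← hdet, Matrix.det_eq_prod_roots_charpoly, hu, Multiset.prod_add, Multiset.prod_singleton]
    rw [hP, Finset.prod_eq_multiset_prod, Multiset.map_id']
  have hTS : S.image (fun x => (x ^ q)⁻¹) = S := by
    refine Finset.eq_of_subset_of_card_le ?_ (le_of_eq (Eq.symm ?_))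
    · intro x hx
      obtain ⟨y, hy, rfl⟩ := Finset.mem_image.1 hx
      obtain ⟨j, -, rfl⟩ := Finset.mem_image.1 hy
      refine Finset.mem_image.2 ⟨(j + 1) % e, Finset.mem_range.2 (Nat.mod_lt _ hepos), ?_⟩
      show (f^[(j + 1) % e] ζ).1 = (f (f^[j] ζ)).1
      rw [← Function.iterate_succ_apply' f j ζ, he, Function.iterate_mod_minimalPeriod_eq]
    · refine Finset.card_image_of_injective _ fun x y h => ?_
      exact ψ.injective (by rw [hψ, hψ]; exact inv_injective h)
  have hPfix : (P ^ q)⁻¹ = P := by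
    conv_rhs => rw [hP, ← hTS]
    rw [Finset.prod_image (fun x _ y _ h => ψ.injective (by rw [hψ, hψ]; exact inv_injective h)),
      Finset.prod_inv_distrib, Finset.prod_pow]
  have hηeq : (f^[i] ζ).1 = P⁻¹ := eq_inv_of_mul_eq_one_right hprod
  have hfix : f (f^[i] ζ) = f^[i] ζ := Subtype.ext (by
    show ((f^[i] ζ).1 ^ q)⁻¹ = (f^[i] ζ).1
    rw [hηeq, inv_pow, hPfix])
  have h1 : Function.minimalPeriod f (f^[i] ζ) = 1 := Function.minimalPeriod_eq_one_iff_isFixedPt.2 hfix
  rw [Function.minimalPeriod_apply_iterate (hper ζ)] at h1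
  omega

theorem factor_dvd_card (hF : Fintype.card F = q ^ 2) {k i : ℕ} (hk : 2 ≤ k) (hi : i + 1 ≤ k)
    {r : ℕ} (h : r ∣ guFactor q i) : r ∣ Nat.card (Cfsg.SU k F q) := by
  have hGU := card_GU_eq_mul_card_SU (n := k) hF (by omega)
  rw [card_GU hF k] at hGU
  obtain ⟨l, rfl⟩ : ∃ l, k = l + 1 := ⟨k - 1, by omega⟩
  rw [Finset.prod_range_succ', show guFactor q 0 = q + 1 by simp [guFactor], ← mul_assoc,
    mul_comm (q + 1)] at hGU
  rw [← Nat.eq_of_mul_eq_mul_right (Nat.succ_pos q) hGU]
  refine dvd_mul_of_dvd_right ?_ _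
  rcases i with _ | i
  · have h0 : guFactor q 0 ∣ guFactor q 1 := by
      simp only [guFactor]
      norm_num
      exact ⟨q - 1, by simpa using Nat.sq_sub_sq q 1⟩
    exact (h.trans h0).trans (Finset.dvd_prod_of_mem (fun j => guFactor q (j + 1))
      (Finset.mem_range.2 (by omega : 0 < l)))
  · exact h.trans (Finset.dvd_prod_of_mem (fun j => guFactor q (j + 1))
      (Finset.mem_range.2 (by omega : i < l)))

theorem p_dvd_card {k p : ℕ} (hpq : p ∣ q) (hF : Fintype.card F = q ^ 2) (hk : 2 ≤ k) :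
    p ∣ Nat.card (Cfsg.SU k F q) := by
  have hGU := card_GU_eq_mul_card_SU (n := k) hF (by omega)
  rw [card_GU hF k] at hGU
  obtain ⟨l, rfl⟩ : ∃ l, k = l + 1 := ⟨k - 1, by omega⟩
  rw [Finset.prod_range_succ', show guFactor q 0 = q + 1 by simp [guFactor], ← mul_assoc,
    mul_comm (q + 1)] at hGU
  rw [← Nat.eq_of_mul_eq_mul_right (Nat.succ_pos q) hGU]
  refine dvd_mul_of_dvd_left (hpq.trans (dvd_pow_self q ?_)) _
  obtain ⟨j, rfl⟩ : ∃ j, l = j + 1 := ⟨l - 1, by omega⟩
  rw [Nat.add_sub_cancel]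
  exact (Nat.div_pos (by nlinarith) (by norm_num)).ne'

end Cfsg.Agent.H53
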