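import Cfsg.Agent.H55.UnitaryOrders

/-!
The element orders of PSU(3, q), q odd: bounds from the eigenvalues in an algebraic closure, and
elements attaining them.
-/

set_option autoImplicit false
set_option linter.unusedSectionVars false

namespace Cfsg.Agent.H53

open Cfsg.Agent.Unitary Polynomial
open scoped Matrix

variable {F : Type*} [Field F] [Fintype F] {q : ℕ}

/-- Four orders which bound every element order. -/
def psu3Orders (p q : ℕ) : Set ℕ :=
  {q + 1, p * (q + 1) / Nat.gcd 3 (q + 1), (q ^ 2 - 1) / Nat.gcd 3 (q + 1),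
    (q ^ 2 - q + 1) / Nat.gcd 3 (q + 1)}

/-- A polynomial identity forcing a power of a matrix to be scalar. -/
theorem scalar_of_dvd {K : Type*} [Field K] (φ : F →+* K) {n : ℕ} [NeZero n]
    (M : Matrix (Fin n) (Fin n) F) {H : ℕ} {κ : K}
    (h : M.charpoly.map φ ∣ (X : K[X]) ^ H - C κ) :
    ∃ c : F, M ^ H = algebraMap F (Matrix (Fin n) (Fin n) F) c := by
  have hc : (φ.mapMatrix M).charpoly = M.charpoly.map φ := M.charpoly_map φ
  obtain ⟨r, hr⟩ := h
  have h0 : aeval (φ.mapMatrix M) ((X : K[X]) ^ H - C κ) = 0 := by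
    rw [hr, map_mul, ← hc, Matrix.aeval_self_charpoly, zero_mul]
  rw [map_sub, map_pow, aeval_X, aeval_C, sub_eq_zero, ← map_pow] at h0
  have hκ : κ = φ ((M ^ H) 0 0) := by
    have := congrFun (congrFun h0 0) 0
    simpa [Matrix.algebraMap_eq_diagonal, Matrix.map_apply] using this.symm
  refine ⟨(M ^ H) 0 0, ?_⟩
  ext i j
  apply φ.injective
  have := congrFun (congrFun h0 i) j
  rw [hκ] at this
  simp only [RingHom.mapMatrix_apply, Matrix.map_apply, Matrix.algebraMap_eq_diagonal] at this ⊢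
  rw [this]
  rcases eq_or_ne i j with rfl | hij
  · simp
  · simp [hij]

theorem orderOf_dvd_of_charpoly {K : Type*} [Field K] (φ : F →+* K) (hF : Fintype.card F = q ^ 2)
    (A : Cfsg.SU 3 F q) {H : ℕ} {κ : K} (h : (mat A).charpoly.map φ ∣ (X : K[X]) ^ H - C κ) :
    orderOf (H55.toPSU A) ∣ H :=
  orderOf_dvd_of_pow_eq_one
    ((H55.toPSU_pow_eq_one_iff hF (by norm_num) A H).2 (scalar_of_dvd φ (mat A) h))

section

variable {K : Type*} [Field K]

theorem dvd_of_three (p : ℕ) [Fact p.Prime] [CharP K p] (hp : p ≠ 2) {a b c κ : K} {h : ℕ}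
    (ha : a ^ h = κ) (hb : b ^ h = κ) (hc : c ^ h = κ) :
    (X - C a) * (X - C b) * (X - C c) ∣ (X : K[X]) ^ (h * p) - C (κ ^ p) := by
  have key : ∀ x : K, x ^ h = κ → X - C x ∣ (X : K[X]) ^ h - C κ := fun x hx => by
    rw [dvd_iff_isRoot, IsRoot, eval_sub, eval_pow, eval_X, eval_C, hx, sub_self]
  rw [pow_mul, C_pow, ← sub_pow_char]
  have h3 : 3 ≤ p := by have := (Fact.out : p.Prime).two_le; omega
  refine Dvd.dvd.trans ?_ (pow_dvd_pow _ h3)
  rw [pow_three', ]
  exact mul_dvd_mul (mul_dvd_mul (key a ha) (key b hb)) (key c hc)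

theorem dvd_of_distinct {a b c κ : K} (hab : a ≠ b) (hac : a ≠ c) (hbc : b ≠ c) {h : ℕ}
    (ha : a ^ h = κ) (hb : b ^ h = κ) (hc : c ^ h = κ) :
    (X - C a) * (X - C b) * (X - C c) ∣ (X : K[X]) ^ h - C κ := by
  have key : ∀ x : K, x ^ h = κ → X - C x ∣ (X : K[X]) ^ h - C κ := fun x hx => by
    rw [dvd_iff_isRoot, IsRoot, eval_sub, eval_pow, eval_X, eval_C, hx, sub_self]
  have cop : ∀ x y : K, x ≠ y → IsCoprime (X - C x) (X - C y) := fun x y hxy =>
    isCoprime_X_sub_C_of_isUnit_sub (sub_ne_zero.2 hxy).isUnit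
  exact ((cop a c hac).mul_left (cop b c hbc)).mul_dvd
    ((cop a b hab).mul_dvd (key a ha) (key b hb)) (key c hc)

theorem pow_eq_one_of_dvd {a : K} {m k : ℕ} (h : a ^ m = 1) (hk : m ∣ k) : a ^ k = 1 := by
  obtain ⟨t, rfl⟩ := hk
  rw [pow_mul, h, one_pow]

end

theorem gcd_sub_two {q : ℕ} (hq : 3 ≤ q) : Nat.gcd (q + 1) (q - 2) = Nat.gcd 3 (q + 1) := by
  obtain ⟨t, rfl⟩ : ∃ t, q = t + 2 := ⟨q - 2, by omega⟩
  rw [Nat.add_sub_cancel, show t + 2 + 1 = t + 3 by omega, Nat.gcd_comm (t + 3) t, Nat.gcd_self_add_right,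
    Nat.gcd_comm 3 (t + 3), Nat.gcd_add_self_left]

theorem three_mul_div (q : ℕ) : ∃ t, 3 * ((q + 1) / Nat.gcd 3 (q + 1)) = (q + 1) * t := by
  obtain ⟨t, ht⟩ := Nat.gcd_dvd_left 3 (q + 1)
  obtain ⟨h, hh⟩ := Nat.gcd_dvd_right 3 (q + 1)
  refine ⟨t, ?_⟩
  have hpos : 0 < Nat.gcd 3 (q + 1) := Nat.gcd_pos_of_pos_left _ (by norm_num)
  have e : (q + 1) / Nat.gcd 3 (q + 1) = h := by
    conv_lhs => arg 1; rw [hh]
    exact Nat.mul_div_cancel_left _ hpos
  rw [e]
  conv_lhs => rw [ht]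
  conv_rhs => rw [hh]
  ring

section

variable {K : Type*} [Field K]

/-- A doubled root and the third one have the same `(q+1)/d`-th power. -/
theorem repeated_pow (hinj : ∀ x y : K, x ^ q = y ^ q → x = y) {a c : K} (ha : a ≠ 0)
    (hac : a * a * c = 1) (hTa : (a ^ q)⁻¹ = a ∨ (a ^ q)⁻¹ = c)
    (hTc : (c ^ q)⁻¹ = a ∨ (c ^ q)⁻¹ = c) :
    a ^ ((q + 1) / Nat.gcd 3 (q + 1)) = c ^ ((q + 1) / Nat.gcd 3 (q + 1)) := by
  rcases eq_or_ne a c with rfl | hne2
  · rfl
  have hc : c = (a * a)⁻¹ := eq_inv_of_mul_eq_one_right hac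
  have hfa : (a ^ q)⁻¹ = a := by
    rcases hTa with e | e
    · exact e
    exfalso
    rcases hTc with e' | e'
    · have h2 : a ^ q = a * a := inv_injective (e.trans hc)
      have h4 : a = (a * a) * (a * a) := by
        rw [hc, inv_pow, inv_inv, mul_pow, h2] at e'
        exact e'.symm
      have h3 : a * a * a = 1 := mul_left_cancel₀ ha (by linear_combination -h4)
      exact hne2 (by rw [hc]; exact eq_inv_of_mul_eq_one_right h3)
    · exact hne2 (hinj _ _ (inv_injective (e.trans e'.symm)))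
  have h1 : a ^ (q + 1) = 1 := by
    rw [pow_succ, mul_eq_one_iff_eq_inv₀ ha]
    exact inv_eq_iff_eq_inv.1 hfa
  obtain ⟨t, ht⟩ := three_mul_div q
  generalize (q + 1) / Nat.gcd 3 (q + 1) = h at ht ⊢
  rw [hc, inv_pow]
  refine eq_inv_of_mul_eq_one_left ?_
  rw [mul_pow, ← mul_assoc, ← pow_add, ← pow_add, show h + h + h = 3 * h by ring, ht, pow_mul, h1,
    one_pow]

/-- Two roots exchanged, the third fixed. -/
theorem exchanged_pow (hq : 3 ≤ q) {a b c : K} (ha : a ≠ 0) (hprod : a * b * c = 1)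
    (hab : (a ^ q)⁻¹ = b) (hba : (b ^ q)⁻¹ = a) :
    b ^ ((q ^ 2 - 1) / Nat.gcd 3 (q + 1)) = a ^ ((q ^ 2 - 1) / Nat.gcd 3 (q + 1)) ∧
      c ^ ((q ^ 2 - 1) / Nat.gcd 3 (q + 1)) = a ^ ((q ^ 2 - 1) / Nat.gcd 3 (q + 1)) := by
  have hd' : Nat.gcd 3 (q + 1) ∣ q + 1 := Nat.gcd_dvd_right _ _
  have hq1 : 1 ≤ q ^ 2 := Nat.one_le_pow _ _ (by omega)
  have hdq : Nat.gcd 3 (q + 1) ∣ q ^ 2 - 1 := hd'.trans ⟨q - 1, by simpa using Nat.sq_sub_sq q 1⟩
  have hh := Nat.div_mul_cancel hdq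
  have hord : a ^ (q ^ 2 - 1) = 1 := by
    have h1 : a ^ (q ^ 2) = a := by
      rw [sq, pow_mul]
      rw [← hab, inv_pow, inv_inv] at hba
      exact hba
    refine mul_left_cancel₀ ha ?_
    rw [← pow_succ', Nat.sub_add_cancel hq1, h1, mul_one]
  generalize (q ^ 2 - 1) / Nat.gcd 3 (q + 1) = h at hh ⊢
  have h1 : a ^ (h * (q + 1)) = 1 := by
    refine pow_eq_one_of_dvd hord ?_
    rw [← hh]; exact mul_dvd_mul_left _ hd'
  have h2 : a ^ (h * (q - 2)) = 1 := by
    refine pow_eq_one_of_dvd hord ?_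
    rw [← hh]
    refine mul_dvd_mul_left _ ?_
    rw [← gcd_sub_two hq]
    exact Nat.gcd_dvd_right _ _
  have eb : b ^ h = a ^ h := by
    rw [← hab, inv_pow, ← pow_mul]
    refine inv_eq_of_mul_eq_one_right ?_
    rw [← pow_add, show q * h + h = h * (q + 1) by ring]
    exact h1
  refine ⟨eb, ?_⟩
  have e3 : a ^ h * a ^ h * a ^ h = 1 := by
    have e : h * (q + 1) = h * (q - 2) + (h + h + h) := by
      obtain ⟨t, rfl⟩ : ∃ t, q = t + 2 := ⟨q - 2, by omega⟩
      rw [Nat.add_sub_cancel]; ring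
    rw [e, pow_add, h2, one_mul] at h1
    rw [← pow_add, ← pow_add]
    exact h1
  have e4 : a ^ h * b ^ h * c ^ h = 1 := by rw [← mul_pow, ← mul_pow, hprod, one_pow]
  rw [eb] at e4
  exact mul_left_cancel₀ (mul_ne_zero (pow_ne_zero h ha) (pow_ne_zero h ha)) (e4.trans e3.symm)

/-- The three roots permuted cyclically. -/
theorem cyclic_pow (hq : 3 ≤ q) {a b c : K} (ha : a ≠ 0) (hprod : a * b * c = 1)
    (hab : (a ^ q)⁻¹ = b) (hbc : (b ^ q)⁻¹ = c) :
    b ^ ((q ^ 2 - q + 1) / Nat.gcd 3 (q + 1)) = a ^ ((q ^ 2 - q + 1) / Nat.gcd 3 (q + 1)) ∧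
      c ^ ((q ^ 2 - q + 1) / Nat.gcd 3 (q + 1)) = a ^ ((q ^ 2 - q + 1) / Nat.gcd 3 (q + 1)) := by
  have hd' : Nat.gcd 3 (q + 1) ∣ q + 1 := Nat.gcd_dvd_right _ _
  have hqq : q ≤ q ^ 2 := Nat.le_self_pow (by norm_num) q
  have haq : a ^ q ≠ 0 := pow_ne_zero _ ha
  have hNord : a ^ (q ^ 2 - q + 1) = 1 := by
    have hc : c = a ^ (q ^ 2) := by
      rw [← hbc, ← hab, inv_pow, inv_inv, ← pow_mul, sq]
    refine mul_left_cancel₀ haq ?_
    rw [← pow_add, mul_one, show q + (q ^ 2 - q + 1) = q ^ 2 + 1 by omega, pow_succ]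
    rw [← hab, hc] at hprod
    have := congrArg (· * a ^ q) hprod
    simp only [one_mul] at this
    rw [← this]
    rw [show a * (a ^ q)⁻¹ * a ^ q ^ 2 * a ^ q = a * a ^ q ^ 2 * ((a ^ q)⁻¹ * a ^ q) by ring,
      inv_mul_cancel₀ haq, mul_one, mul_comm]
  have hdN : Nat.gcd 3 (q + 1) ∣ q ^ 2 - q + 1 := by
    have h2 : q ^ 2 - q + 1 + 3 * q = (q + 1) * (q + 1) := by zify [hqq]; ring
    have h3 : Nat.gcd 3 (q + 1) ∣ q ^ 2 - q + 1 + 3 * q := h2 ▸ hd'.mul_right _
    exact (Nat.dvd_add_left ((Nat.gcd_dvd_left 3 (q + 1)).mul_right q)).1 h3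
  have hh := Nat.div_mul_cancel hdN
  generalize (q ^ 2 - q + 1) / Nat.gcd 3 (q + 1) = h at hh ⊢
  have h1 : a ^ (h * (q + 1)) = 1 := by
    refine pow_eq_one_of_dvd hNord ?_
    rw [← hh]; exact mul_dvd_mul_left _ hd'
  have eb : b ^ h = a ^ h := by
    rw [← hab, inv_pow, ← pow_mul]
    refine inv_eq_of_mul_eq_one_right ?_
    rw [← pow_add, show q * h + h = h * (q + 1) by ring]
    exact h1
  refine ⟨eb, ?_⟩
  calc c ^ h = ((b ^ h) ^ q)⁻¹ := by rw [← hbc, inv_pow, ← pow_mul, ← pow_mul, mul_comm]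
    _ = ((a ^ h) ^ q)⁻¹ := by rw [eb]
    _ = b ^ h := by rw [← hab, inv_pow, ← pow_mul, ← pow_mul, mul_comm]
    _ = a ^ h := eb

end

/-- The element orders are bounded by the four numbers. -/
theorem psu3_upper (p : ℕ) [Fact p.Prime] [CharP F p] (hp : p ≠ 2) (hq : 3 ≤ q)
    (hF : Fintype.card F = q ^ 2) (x : Cfsg.PSU 3 F q) :
    ∃ H ∈ psu3Orders p q, orderOf x ∣ H := by
  obtain ⟨A, rfl⟩ := QuotientGroup.mk'_surjective _ x
  set K := AlgebraicClosure F
  set φ := algebraMap F K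
  have : CharP K p := charP_of_injective_algebraMap φ.injective p
  obtain ⟨ψ, hψ⟩ := H55.exists_frobPow hF K 1
  simp only [pow_one] at hψ
  set M := φ.mapMatrix (mat A) with hM
  have hdet : M.det = 1 := by
    rw [hM, ← RingHom.map_det, show (mat A).det = 1 from A.1.2, map_one]
  have hinv : (ψ.mapMatrix M)ᵀ * M = 1 := by
    have h := congrArg φ.mapMatrix (H55.hstar_mat hF A)
    rw [map_mul, map_one] at h
    rw [← h]
    congr 1
    ext i j
    simp [hM, hψ, hstar, Matrix.map_apply]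
  -- the roots
  obtain ⟨a, b, c, hroots⟩ : ∃ a b c, M.charpoly = (X - C a) * (X - C b) * (X - C c) := by
    have hs := IsAlgClosed.splits M.charpoly
    have h3 : M.charpoly.roots.card = 3 := by
      rw [← hs.natDegree_eq_card_roots, Matrix.charpoly_natDegree_eq_dim, Fintype.card_fin]
    obtain ⟨a, b, c, habc⟩ := Multiset.card_eq_three.1 h3
    refine ⟨a, b, c, ?_⟩
    rw [hs.eq_prod_roots_of_monic (Matrix.charpoly_monic M), habc]
    simp [mul_assoc]
  have hφ : (mat A).charpoly.map φ = (X - C a) * (X - C b) * (X - C c) := by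
    rw [← (mat A).charpoly_map φ]
    exact hroots
  have heval : ∀ x : K, M.charpoly.eval x = 0 ↔ x = a ∨ x = b ∨ x = c := fun x => by
    rw [hroots, eval_mul, eval_mul, eval_sub, eval_sub, eval_sub, eval_X, eval_C, eval_C, eval_C,
      mul_eq_zero, mul_eq_zero, sub_eq_zero, sub_eq_zero, sub_eq_zero, or_assoc]
  have habc : a * b * c = 1 := by
    have h := Matrix.eval_charpoly M 0
    rw [hroots, map_zero, zero_sub, Matrix.det_neg, hdet, Fintype.card_fin, eval_mul, eval_mul,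
      eval_sub, eval_sub, eval_sub, eval_X, eval_C, eval_C, eval_C] at h
    linear_combination -h
  have hne : ∀ x, M.charpoly.eval x = 0 → x ≠ 0 := by
    rintro x hx rfl
    rcases (heval 0).1 hx with rfl | rfl | rfl <;> simp at habc
  have hinj : ∀ x y : K, x ^ q = y ^ q → x = y := fun x y h => by
    have : ψ x = ψ y := by rw [hψ, hψ]; exact h
    exact ψ.injective this
  have hTmem : ∀ x, (x = a ∨ x = b ∨ x = c) →
      ((x ^ q)⁻¹ = a ∨ (x ^ q)⁻¹ = b ∨ (x ^ q)⁻¹ = c) := by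
    intro x hx
    rw [← heval] at hx ⊢
    have hx0 := hne x hx
    rw [Matrix.eval_charpoly] at hx ⊢
    have h1 := congrArg ψ hx
    rw [map_zero, RingHom.map_det, map_sub, Matrix.scalar_apply, RingHom.mapMatrix_apply,
      Matrix.diagonal_map (map_zero ψ)] at h1
    simp only [Function.comp_def, hψ] at h1
    rw [← Matrix.det_transpose, Matrix.transpose_sub, Matrix.diagonal_transpose] at h1
    have h2 := congrArg (· * M.det) h1
    simp only [zero_mul] at h2
    rw [← Matrix.det_mul, sub_mul, hinv] at h2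
    have hxq : x ^ q ≠ 0 := pow_ne_zero _ hx0
    have e : Matrix.diagonal (fun _ : Fin 3 => x ^ q) * M - 1 =
        (-(x ^ q)) • (Matrix.scalar (Fin 3) (x ^ q)⁻¹ - M) := by
      ext i j
      rcases eq_or_ne i j with rfl | hij
      · simp only [Matrix.sub_apply, Matrix.diagonal_mul, Matrix.one_apply_eq, Matrix.smul_apply,
          Matrix.scalar_apply, Matrix.diagonal_apply_eq, smul_eq_mul]
        rw [neg_mul, mul_sub, mul_inv_cancel₀ hxq]
        ring
      · simp only [Matrix.sub_apply, Matrix.diagonal_mul, Matrix.one_apply_ne hij,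
          Matrix.smul_apply, Matrix.scalar_apply, Matrix.diagonal_apply_ne _ hij, smul_eq_mul]
        ring
    rw [e, Matrix.det_smul, mul_eq_zero] at h2
    exact h2.resolve_left (pow_ne_zero _ (neg_ne_zero.2 hxq))
  -- the bound
  have repeatedCase : ∀ a c : K, a ≠ 0 → a * a * c = 1 →
      (X - C a) * (X - C a) * (X - C c) = (mat A).charpoly.map φ →
      ((a ^ q)⁻¹ = a ∨ (a ^ q)⁻¹ = c) → ((c ^ q)⁻¹ = a ∨ (c ^ q)⁻¹ = c) →
      ∃ H ∈ psu3Orders p q, orderOf (H55.toPSU A) ∣ H := by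
    intro a c ha hac hpoly hTa hTc
    refine ⟨p * (q + 1) / Nat.gcd 3 (q + 1), by simp [psu3Orders], ?_⟩
    have hdvd := dvd_of_three p hp (a := a) (b := a) rfl rfl (repeated_pow hinj ha hac hTa hTc).symm
    rw [hpoly] at hdvd
    rw [Nat.mul_div_assoc p (Nat.gcd_dvd_right _ _), mul_comm]
    exact orderOf_dvd_of_charpoly φ hF A hdvd
  have movedCase : ∀ a b c : K, a ≠ 0 → a * b * c = 1 → a ≠ b → a ≠ c → b ≠ c →
      (X - C a) * (X - C b) * (X - C c) = (mat A).charpoly.map φ → (a ^ q)⁻¹ = b →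
      ((b ^ q)⁻¹ = a ∨ (b ^ q)⁻¹ = b ∨ (b ^ q)⁻¹ = c) →
      ∃ H ∈ psu3Orders p q, orderOf (H55.toPSU A) ∣ H := by
    intro a b c ha hprod hab hac hbc hpoly hTa hTb
    rcases hTb with e | e | e
    · obtain ⟨eb, ec⟩ := exchanged_pow hq ha hprod hTa e
      refine ⟨(q ^ 2 - 1) / Nat.gcd 3 (q + 1), by simp [psu3Orders], ?_⟩
      have hdvd := dvd_of_distinct hab hac hbc rfl eb ec
      rw [hpoly] at hdvd
      exact orderOf_dvd_of_charpoly φ hF A hdvd
    · exact absurd (hinj _ _ (inv_injective (hTa.trans e.symm))) hab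
    · obtain ⟨eb, ec⟩ := cyclic_pow hq ha hprod hTa e
      refine ⟨(q ^ 2 - q + 1) / Nat.gcd 3 (q + 1), by simp [psu3Orders], ?_⟩
      have hdvd := dvd_of_distinct hab hac hbc rfl eb ec
      rw [hpoly] at hdvd
      exact orderOf_dvd_of_charpoly φ hF A hdvd
  have hfix : ∀ x : K, x ≠ 0 → (x ^ q)⁻¹ = x → x ^ (q + 1) = 1 := fun x hx0 hx => by
    rw [pow_succ, mul_eq_one_iff_eq_inv₀ hx0]
    exact inv_eq_iff_eq_inv.1 hx
  have hTa := hTmem a (Or.inl rfl)
  have hTb := hTmem b (Or.inr (Or.inl rfl))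
  have hTc := hTmem c (Or.inr (Or.inr rfl))
  have ha0 : a ≠ 0 := hne a ((heval a).2 (Or.inl rfl))
  have hb0 : b ≠ 0 := hne b ((heval b).2 (Or.inr (Or.inl rfl)))
  have hc0 : c ≠ 0 := hne c ((heval c).2 (Or.inr (Or.inr rfl)))
  rcases eq_or_ne a b with rfl | hab
  · exact repeatedCase a c ha0 habc hφ.symm (hTa.elim Or.inl id) (hTc.elim Or.inl id)
  rcases eq_or_ne a c with rfl | hac
  · exact repeatedCase a b ha0 (by linear_combination habc) (by rw [hφ]; ring)
      (hTa.elim Or.inl Or.symm) (hTb.elim Or.inl Or.symm)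
  rcases eq_or_ne b c with rfl | hbc
  · exact repeatedCase b a hb0 (by linear_combination habc) (by rw [hφ]; ring)
      (hTb.elim Or.inr fun h => Or.inl (h.elim id id))
      (hTa.elim Or.inr fun h => Or.inl (h.elim id id))
  rcases hTa with ea | ea | ea
  · rcases hTb with eb | eb | eb
    · exact movedCase b a c hb0 (by linear_combination habc) hab.symm hbc hac (by rw [hφ]; ring) eb
        (Or.inr (Or.inl ea))
    · rcases hTc with ec | ec | ec
      · exact movedCase c a b hc0 (by linear_combination habc) hac.symm hbc.symm hab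
          (by rw [hφ]; ring) ec (Or.inr (Or.inl ea))
      · exact movedCase c b a hc0 (by linear_combination habc) hbc.symm hac.symm hab.symm
          (by rw [hφ]; ring) ec (Or.inr (Or.inl eb))
      · refine ⟨q + 1, by simp [psu3Orders], ?_⟩
        have hdvd := dvd_of_distinct hab hac hbc (hfix a ha0 ea) (hfix b hb0 eb) (hfix c hc0 ec)
        rw [← hφ] at hdvd
        exact orderOf_dvd_of_charpoly φ hF A hdvd
    · exact movedCase b c a hb0 (by linear_combination habc) hbc hab.symm hac.symm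
        (by rw [hφ]; ring) eb
        (hTc.elim (fun h => Or.inr (Or.inr h)) fun h => h.elim Or.inl fun h => Or.inr (Or.inl h))
  · exact movedCase a b c ha0 habc hab hac hbc hφ.symm ea hTb
  · exact movedCase a c b ha0 (by linear_combination habc) hac hab hbc.symm (by rw [hφ]; ring) ea
      (hTc.elim Or.inl fun h => Or.inr h.symm)

/-! ### Existence -/

/-- The one dimensional Hermitian algebra. -/
noncomputable def lineAlg (hF : Fintype.card F = q ^ 2) : H55.HermAlg F F q where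
  σ := (frob hF).toRingHom
  φ := LinearMap.id
  semi a := rfl
  inv a := pow_q_q hF a
  conj a := rfl
  nondeg a h := by simpa using h 1

/-- A hyperbolic pair. -/
noncomputable def hypAlg (hF : Fintype.card F = q ^ 2) : H55.HermAlg F (F × F) q where
  σ := ((frob hF).toRingHom.comp (RingHom.snd F F)).prod ((frob hF).toRingHom.comp (RingHom.fst F F))
  φ := LinearMap.fst F F F + LinearMap.snd F F F
  semi a := rfl
  inv a := Prod.ext (pow_q_q hF a.1) (pow_q_q hF a.2)
  conj a := by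
    show a.2 ^ q + a.1 ^ q = (a.1 + a.2) ^ q
    rw [add_pow_q hF, add_comm]
  nondeg a h := Prod.ext (by simpa using h (1, 0)) (by simpa using h (0, 1))

theorem exists_psu3_of_alg (hF : Fintype.card F = q ^ 2) {R : Type*} [CommRing R] [Algebra F R]
    [FiniteDimensional F R] (P : H55.HermAlg F R q) (hfin : Module.finrank F R = 3) (u : R)
    (hu : P.σ u * u = 1) (hdet : Algebra.norm F u = 1) {m : ℕ}
    (key : ∀ (h : ℕ) (c : F), u ^ h = algebraMap F R c → m ∣ h) :
    ∃ y : Cfsg.PSU 3 F q, m ∣ orderOf y := by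
  obtain ⟨A, Ψ, hΨ, hA, -⟩ := H55.exists_suOf hF P hfin u hu hdet
  refine ⟨H55.toPSU A, ?_⟩
  obtain ⟨c, hc⟩ := (H55.toPSU_pow_eq_one_iff hF (by norm_num) A _).1 (pow_orderOf_eq_one (H55.toPSU A))
  rw [hA, ← map_pow, ← AlgHom.commutes Ψ c] at hc
  exact key _ c (hΨ hc)

theorem norm_self_field (a : F) : Algebra.norm F a = a := by
  have h := Algebra.norm_algebraMap (S := F) a
  simpa using h

/-- Elements of all four orders exist. -/
theorem psu3_lower (p : ℕ) [Fact p.Prime] [CharP F p] (hq : 3 ≤ q) (hpq : p ∣ q)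
    (hF : Fintype.card F = q ^ 2) {H : ℕ} (hH : H ∈ psu3Orders p q) :
    ∃ y : Cfsg.PSU 3 F q, H ∣ orderOf y := by
  obtain ⟨g, hg⟩ := IsCyclic.exists_ofOrder_eq_natCard (α := Fˣ)
  rw [Nat.card_units, Nat.card_eq_fintype_card, hF] at hg
  have hgF : orderOf (g : F) = q ^ 2 - 1 := by rw [orderOf_units, hg]
  set d := Nat.gcd 3 (q + 1) with hdd
  have hd' : d ∣ q + 1 := Nat.gcd_dvd_right _ _
  have hdpos : 0 < d := Nat.gcd_pos_of_pos_left _ (by norm_num)
  have hsq : q ^ 2 - 1 = (q + 1) * (q - 1) := by simpa using Nat.sq_sub_sq q 1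
  set b : F := (g : F) ^ (q - 1) with hbdef
  have hbo : orderOf b = q + 1 := by
    rw [hbdef, orderOf_pow_of_dvd (by omega) (by rw [hgF, hsq]; exact dvd_mul_left _ _), hgF, hsq,
      Nat.mul_div_cancel _ (by omega)]
  have hbq : b ^ q * b = 1 := by rw [← pow_succ, ← hbo, pow_orderOf_eq_one]
  have hb0 : b ≠ 0 := pow_ne_zero _ g.ne_zero
  simp only [psu3Orders, Set.mem_insert_iff, Set.mem_singleton_iff] at hH
  rcases hH with rfl | rfl | rfl | rfl
  · refine exists_psu3_of_alg hF ((lineAlg hF).prod hF ((lineAlg hF).prod hF (lineAlg hF)))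
      (by simp [Module.finrank_prod]) (b, b⁻¹, 1) ?_ ?_ ?_
    · refine Prod.ext hbq (Prod.ext ?_ ?_)
      · show (b⁻¹) ^ q * b⁻¹ = 1
        rw [inv_pow, ← mul_inv, hbq, inv_one]
      · show (1 : F) ^ q * 1 = 1
        simp
    · rw [H55.norm_prod, H55.norm_prod, norm_self_field, norm_self_field, norm_self_field, mul_one,
        mul_inv_cancel₀ hb0]
    · intro h c hc
      have h1 : b ^ h = c := congrArg Prod.fst hc
      have h2 : (1 : F) ^ h = c := congrArg (fun z => z.2.2) hc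
      rw [← hbo]
      exact orderOf_dvd_of_pow_eq_one (by rw [h1, ← h2, one_pow])
  · obtain ⟨PU, u, hu1, hu2, hu3⟩ := H55.exists_unipotent_herm p hF (k := 2) (by norm_num)
    let pb := AdjoinRoot.powerBasis' (monic_X_pow 2 : ((X : F[X]) ^ 2).Monic)
    have : FiniteDimensional F (AdjoinRoot ((X : F[X]) ^ 2)) := pb.finite
    have hS : Module.finrank F (AdjoinRoot ((X : F[X]) ^ 2)) = 2 := by rw [pb.finrank]; simp [pb]
    refine exists_psu3_of_alg hF ((lineAlg hF).prod hF PU)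
      (by rw [Module.finrank_prod, hS, Module.finrank_self])
      ((b * b)⁻¹, algebraMap F _ b * u) ?_ ?_ ?_
    · refine Prod.ext ?_ ?_
      · show ((b * b)⁻¹) ^ q * (b * b)⁻¹ = 1
        rw [inv_pow, ← mul_inv, mul_pow, mul_mul_mul_comm, hbq, mul_one, inv_one]
      · show PU.σ (algebraMap F _ b * u) * (algebraMap F _ b * u) = 1
        rw [map_mul, PU.semi, mul_mul_mul_comm, hu1, ← map_mul, hbq, map_one, one_mul]
    · rw [H55.norm_prod, norm_self_field, map_mul, hu2, Algebra.norm_algebraMap, hS, mul_one, sq,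
        inv_mul_cancel₀ (mul_ne_zero hb0 hb0)]
    · intro h c hc
      have h1 : ((b * b)⁻¹) ^ h = c := congrArg Prod.fst hc
      have h2 : (algebraMap F _ b * u) ^ h = algebraMap F _ c := congrArg Prod.snd hc
      have h2' : u ^ h = algebraMap F _ (c / b ^ h) := by
        rw [mul_pow, ← map_pow] at h2
        rw [div_eq_inv_mul, map_mul, ← h2, ← mul_assoc, ← map_mul, inv_mul_cancel₀ (pow_ne_zero _ hb0),
          map_one, one_mul]
      obtain ⟨hc1, hp⟩ := hu3 h _ h2'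
      have hcb : c = b ^ h := div_eq_one_iff_eq (pow_ne_zero _ hb0) |>.1 hc1
      have h3 : b ^ (3 * h) = 1 := by
        have h4 : ((b * b) ^ h)⁻¹ = b ^ h := by rw [← inv_pow, h1, hcb]
        rw [inv_eq_iff_eq_inv, ← mul_eq_one_iff_eq_inv₀ (pow_ne_zero _ hb0)] at h4
        rw [show 3 * h = h + h + h by ring, pow_add, pow_add, ← mul_pow, h4]
      have hdiv : (q + 1) / d ∣ h := by
        have h5 : q + 1 ∣ Nat.gcd (3 * h) ((q + 1) * h) :=
          Nat.dvd_gcd (hbo ▸ orderOf_dvd_of_pow_eq_one h3) (dvd_mul_right _ _)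
        rw [Nat.gcd_mul_right, ← hdd] at h5
        exact (Nat.div_dvd_iff_dvd_mul hd' hdpos).2 h5
      have hclog : Nat.clog p 2 ≠ 0 :=
        (Nat.clog_pos (Fact.out : p.Prime).one_lt (by norm_num)).ne'
      rw [Nat.mul_div_assoc p hd']
      refine Nat.Coprime.mul_dvd_of_dvd_of_dvd ?_ ((dvd_pow_self p hclog).trans hp) hdiv
      refine Nat.Coprime.coprime_dvd_right (Nat.div_dvd_of_dvd hd') ?_
      refine (Fact.out : p.Prime).coprime_iff_not_dvd.2 fun hh => ?_
      exact (Fact.out : p.Prime).not_dvd_one ((Nat.dvd_add_right hpq).1 hh)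
  · refine exists_psu3_of_alg hF ((lineAlg hF).prod hF (hypAlg hF))
      (by simp [Module.finrank_prod]) (b, (g : F), ((g : F) ^ q)⁻¹) ?_ ?_ ?_
    · refine Prod.ext hbq (Prod.ext ?_ ?_)
      · show (((g : F) ^ q)⁻¹) ^ q * (g : F) = 1
        rw [inv_pow, pow_q_q hF, inv_mul_cancel₀ g.ne_zero]
      · show (g : F) ^ q * ((g : F) ^ q)⁻¹ = 1
        rw [mul_inv_cancel₀ (pow_ne_zero _ g.ne_zero)]
    · rw [H55.norm_prod, H55.norm_prod, norm_self_field, norm_self_field, norm_self_field, hbdef,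
        ← mul_assoc, ← pow_succ, Nat.sub_add_cancel (by omega : 1 ≤ q),
        mul_inv_cancel₀ (pow_ne_zero _ g.ne_zero)]
    · intro h c hc
      have hb : b ^ h = c := congrArg Prod.fst hc
      have ha : (g : F) ^ h = c := congrArg (fun z => z.2.1) hc
      have ha' : (((g : F) ^ q)⁻¹) ^ h = c := congrArg (fun z => z.2.2) hc
      have h1 : (g : F) ^ (h * (q + 1)) = 1 := by
        rw [inv_pow, ← ha, ← pow_mul] at ha'
        rw [show h * (q + 1) = q * h + h by ring, pow_add]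
        rw [← ha']
        exact mul_inv_cancel₀ (pow_ne_zero _ g.ne_zero)
      have h2 : (g : F) ^ (h * (q - 2)) = 1 := by
        rw [hbdef, ← pow_mul, ← ha, show (q - 1) * h = h * (q - 2) + h by
          rw [mul_comm, show q - 1 = q - 2 + 1 by omega, mul_add, mul_one], pow_add] at hb
        exact (mul_eq_right₀ (pow_ne_zero _ g.ne_zero)).1 hb
      have h3 : q ^ 2 - 1 ∣ h * d := by
        rw [hdd, ← gcd_sub_two hq, ← Nat.gcd_mul_left, ← hgF]
        exact Nat.dvd_gcd (orderOf_dvd_of_pow_eq_one h1) (orderOf_dvd_of_pow_eq_one h2)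
      exact (Nat.div_dvd_iff_dvd_mul (hd'.trans ⟨q - 1, hsq⟩) hdpos).2 (by rwa [mul_comm])
  · obtain ⟨Y, hY⟩ := H55.exists_coxeter_SU (n := 3) p hF (by norm_num)
    refine ⟨Y, ?_⟩
    have e : H55.uH q 3 = q ^ 2 - q + 1 := by
      simp [H55.uH]
      rw [Nat.mul_sub, mul_one, sq]
    rwa [e] at hY

end Cfsg.Agent.H53
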