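import Cfsg.Agent.H53.SLPrincipal
import Cfsg.Agent.H53.GLTableApp
import Cfsg.Agent.Linear.Generation

/-!
Constituents of the principal series of SL₂, and the cuspidal characters.
-/

set_option autoImplicit false

namespace Cfsg.Agent.H53

open Matrix Finset
open scoped ComplexConjugate

variable {F : Type*} [Field F]

local notation "G2" => Matrix.GeneralLinearGroup (Fin 2) F
local notation "M2" => Matrix (Fin 2) (Fin 2) F
local notation "S2" => Matrix.SpecialLinearGroup (Fin 2) F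
local notation "BS" =>
  Subgroup.comap (Matrix.SpecialLinearGroup.toGL (n := Fin 2) (R := F)) (Cfsg.upperTriangularGL 2 F)

theorem upS_sq_mul (a : Fˣ) (c : F) :
    upS a 0 * upS 1 c * (upS a 0)⁻¹ = upS 1 ((a : F) ^ 2 * c) := by
  rw [mul_inv_eq_iff_eq_mul]
  apply Linear.SL_ext_two <;>
    simp [Matrix.SpecialLinearGroup.coe_mul, Linear.mul_two_apply, coe_upS] <;> field_simp

theorem isConj_upS_sq (a : Fˣ) (c : F) : IsConj (upS 1 c) (upS 1 ((a : F) ^ 2 * c)) :=
  isConj_iff.mpr ⟨upS a 0, upS_sq_mul a c⟩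

theorem conjS_upS (ε : Fˣ) (c : F) : conjS ε (upS 1 c) = upS 1 ((ε : F) * c) := by
  apply Linear.SL_ext_two <;> simp [coe_conjS, conjMat, coe_upS]

theorem toGL_upS (c : F) : Matrix.SpecialLinearGroup.toGL (upS 1 c) = upGL 1 1 c := by
  apply Linear.GL_ext_two <;> simp [coe_upS, coe_upGL]

theorem isConj_upS_diag {a : Fˣ} (ha : (a : F) ≠ ((a⁻¹ : Fˣ) : F)) (c : F) :
    IsConj (upS a c) (upS a 0) := by
  have hne : (a : F) - ((a⁻¹ : Fˣ) : F) ≠ 0 := sub_ne_zero.mpr ha
  obtain ⟨x, hx⟩ : ∃ x, x * ((a : F) - ((a⁻¹ : Fˣ) : F)) = c := ⟨_, div_mul_cancel₀ c hne⟩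
  refine isConj_iff.mpr ⟨upS 1 x, ?_⟩
  rw [mul_inv_eq_iff_eq_mul]
  simp only [Units.val_inv_eq_inv_val] at hx
  apply Linear.SL_ext_two <;>
    simp [Matrix.SpecialLinearGroup.coe_mul, Linear.mul_two_apply, coe_upS]
  linear_combination -hx

set_option linter.unusedSectionVars false

variable [Fintype F] [DecidableEq F] [DecidableEq (MulChar F ℂ)]

/-- `χ` has no constituent in common with the principal series. -/
def IsCuspS (χ : S2 → ℂ) : Prop := ∀ α : MulChar F ℂ, Cfsg.classInner (sprin α) χ = 0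

/-- Principal series multiplicities are the Fourier transform of the sums over cosets of U. -/
theorem sum_classInner_sprin {χ : S2 → ℂ} (hχ : Cfsg.IsClassFunction S2 χ) (a : Fˣ)
    [Fintype (MulChar F ℂ)] :
    ∑ α : MulChar F ℂ, α ((a⁻¹ : Fˣ) : F) * Cfsg.classInner (sprin α) χ =
      (Fintype.card F : ℂ)⁻¹ * conj (∑ c : F, χ (upS a c)) := by
  classical
  have := Fintype.ofFinite BS
  have hcl : ∀ α : MulChar F ℂ, Cfsg.classInner (sprin α) χ =
      ((Fintype.card F : ℂ) * ((Fintype.card F : ℂ) - 1))⁻¹ *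
        ∑ x : Fˣ, ∑ c : F, α (x : F) * conj (χ (upS x c)) := by
    intro α
    rw [sprin, CharInduce.classInner_indFun_left _ _ _ hχ, Cfsg.classInner, card_borelSL,
      Nat.cast_mul, Nat.cast_sub Fintype.card_pos, Nat.cast_one,
      ← Equiv.sum_comp (borelSEquiv (F := F)), Fintype.sum_prod_type]
    rfl
  have hdual : ∀ x : Fˣ, ∑ α : MulChar F ℂ, α ((a⁻¹ * x : Fˣ) : F) =
      if x = a then (Fintype.card F : ℂ) - 1 else 0 := by
    intro x
    split_ifs with e
    · subst e
      rw [inv_mul_cancel, Units.val_one]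
      simp only [map_one, Finset.sum_const, Finset.card_univ, nsmul_eq_mul, mul_one]
      rw [← Nat.card_eq_fintype_card, card_mulChar, Nat.cast_sub Fintype.card_pos, Nat.cast_one]
    · exact sum_mulChar_apply (fun h => e (inv_mul_eq_one.mp (Units.ext h)).symm)
  have step : ∀ α : MulChar F ℂ, α ((a⁻¹ : Fˣ) : F) * Cfsg.classInner (sprin α) χ =
      ((Fintype.card F : ℂ) * ((Fintype.card F : ℂ) - 1))⁻¹ *
        ∑ x : Fˣ, α ((a⁻¹ * x : Fˣ) : F) * conj (∑ c : F, χ (upS x c)) := by
    intro α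
    rw [hcl, ← mul_assoc, mul_comm (α _), mul_assoc, Finset.mul_sum]
    congr 1
    refine Finset.sum_congr rfl fun x _ => ?_
    rw [map_sum, Finset.mul_sum, Finset.mul_sum]
    exact Finset.sum_congr rfl fun c _ => by rw [Units.val_mul, map_mul, mul_assoc]
  rw [Finset.sum_congr rfl (fun α _ => step α), ← Finset.mul_sum, Finset.sum_comm,
    Finset.sum_eq_single a
      (fun x _ hx => by rw [← Finset.sum_mul, hdual, if_neg hx, zero_mul]) (by simp),
    ← Finset.sum_mul, hdual, if_pos rfl]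
  have h1 : (Fintype.card F : ℂ) - 1 ≠ 0 := by
    rw [sub_ne_zero, Nat.cast_ne_one]
    exact Fintype.one_lt_card.ne'
  field_simp

theorem IsCuspS.sum_upS {χ : S2 → ℂ} (hc : IsCuspS χ) (hχ : Cfsg.IsClassFunction S2 χ) (a : Fˣ) :
    ∑ c : F, χ (upS a c) = 0 := by
  have := Fintype.ofFinite (MulChar F ℂ)
  have h := sum_classInner_sprin hχ a
  simp only [hc _, mul_zero, Finset.sum_const_zero] at h
  rcases mul_eq_zero.mp h.symm with h0 | h0
  · simp at h0
  · exact (map_eq_zero _).mp h0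

theorem IsCuspS.diag {χ : S2 → ℂ} (hc : IsCuspS χ) (hχ : Cfsg.IsClassFunction S2 χ) {g : S2}
    (h01 : (g : M2) 0 1 = 0) (h10 : (g : M2) 1 0 = 0) (hne : (g : M2) 0 0 ^ 2 ≠ 1) : χ g = 0 := by
  obtain ⟨h0, h1⟩ := entries_SL h10
  set a := Units.mk0 _ h0 with ha
  have hga : g = upS a 0 := by
    apply Linear.SL_ext_two <;> simp [ha, coe_upS, h01, h10, h1]
  have hne' : (a : F) ≠ ((a⁻¹ : Fˣ) : F) := by
    intro e
    apply hne
    have := a.mul_inv
    rw [← e] at this
    rwa [sq, ← Units.val_mk0 h0]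
  have h := hc.sum_upS hχ a
  have hconst : ∀ c, χ (upS a c) = χ g := by
    intro c
    obtain ⟨P, hP⟩ := isConj_iff.mp (isConj_upS_diag hne' c)
    rw [hga, ← hP, hχ]
  rw [Finset.sum_congr rfl (fun c _ => hconst c), Finset.sum_const, Finset.card_univ, nsmul_eq_mul,
    mul_eq_zero] at h
  exact h.resolve_left (Nat.cast_ne_zero.mpr Fintype.card_ne_zero)

theorem isIrr_conjS {χ : S2 → ℂ} (h : Cfsg.IsIrrCharacter S2 χ) (ε : Fˣ) :
    Cfsg.IsIrrCharacter S2 (fun g => χ (conjS ε g)) :=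
  CharInduce.IsIrr.comp h _ (conjS_surjective ε)

omit [DecidableEq (MulChar F ℂ)] in
theorem conjS_bijective (ε : Fˣ) : Function.Bijective (conjS (F := F) ε) :=
  Finite.injective_iff_bijective.mp (Finite.injective_iff_surjective.mpr (conjS_surjective ε))

theorem classInner_conjS (φ ψ : S2 → ℂ) (ε : Fˣ) :
    Cfsg.classInner (fun g => φ (conjS ε g)) (fun g => ψ (conjS ε g)) = Cfsg.classInner φ ψ := by
  simp only [Cfsg.classInner]
  congr 1
  exact Fintype.sum_bijective _ (conjS_bijective ε) _ _ (fun g => rfl)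

theorem IsCuspS.conj {χ : S2 → ℂ} (hc : IsCuspS χ) (ε : Fˣ) :
    IsCuspS (fun g => χ (conjS ε g)) := by
  intro α
  rw [show sprin α = fun g => sprin α (conjS ε g) from funext fun g => (sprin_conjS α ε g).symm,
    classInner_conjS]
  exact hc α

/-- The Steinberg character of SL₂. -/
noncomputable def stS : S2 → ℂ := fun g => sprin 1 g - 1

theorem sprin_one_eq : sprin (1 : MulChar F ℂ) = (fun _ : S2 => (1 : ℂ)) + stS := by
  funext g
  simp [stS]

theorem isIrrCharacter_stS : Cfsg.IsIrrCharacter S2 (stS (F := F)) := by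
  obtain ⟨r, hr, e⟩ := CharInduce.IsChar.exists_eq_add (isCharacter_sprin (1 : MulChar F ℂ))
    CharBasic.isIrrCharacter_one (by rw [classInner_sprin_one]; simp)
  have hr' : stS = r := by
    funext g
    rw [stS, congrFun e g]
    simp
  rw [hr']
  refine CharInduce.isIrr_of_norm_one hr ?_
  have h := classInner_sprin (1 : MulChar F ℂ) 1
  have h1 := classInner_sprin_one (1 : MulChar F ℂ)
  rw [e] at h h1
  simp only [CharBasic.classInner_add_left, CharBasic.classInner_add_right, if_pos, inv_one,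
    CharBasic.classInner_irr_self CharBasic.isIrrCharacter_one] at h h1
  have h2 : Cfsg.classInner r (fun _ => (1 : ℂ)) = 0 := by linear_combination h1
  have h3 : Cfsg.classInner (fun _ => (1 : ℂ)) r = 0 := by
    rw [← CharBasic.classInner_conj_symm, h2, map_zero]
  rw [h2, h3] at h
  linear_combination h

theorem stS_one : stS (1 : S2) = (Fintype.card F : ℂ) := by
  rw [stS, sprin_one, add_sub_cancel_right]

theorem one_not_cusp : ¬ IsCuspS (fun _ : S2 => (1 : ℂ)) := fun h => by
  simpa [classInner_sprin_one] using h 1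

theorem stS_ne_one : stS (F := F) ≠ fun _ => (1 : ℂ) := fun e => by
  have := congrFun e 1
  rw [stS_one, Nat.cast_eq_one] at this
  exact Fintype.one_lt_card.ne' this

theorem stS_not_cusp : ¬ IsCuspS (stS (F := F)) := fun h => by
  have h1 := h 1
  rw [sprin_one_eq, CharBasic.classInner_add_left,
    CharBasic.classInner_irr_self isIrrCharacter_stS,
    CharBasic.classInner_irr_of_ne CharBasic.isIrrCharacter_one isIrrCharacter_stS
      stS_ne_one.symm] at h1
  simp at h1

theorem eq_of_classInner_sprin_one_ne {χ : S2 → ℂ} (hχ : Cfsg.IsIrrCharacter S2 χ)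
    (h : Cfsg.classInner (sprin (1 : MulChar F ℂ)) χ ≠ 0) : χ = (fun _ => 1) ∨ χ = stS := by
  by_contra hne
  push Not at hne
  rw [sprin_one_eq, CharBasic.classInner_add_left,
    CharBasic.classInner_irr_of_ne CharBasic.isIrrCharacter_one hχ hne.1.symm,
    CharBasic.classInner_irr_of_ne isIrrCharacter_stS hχ hne.2.symm, add_zero] at h
  exact h rfl

theorem eq_of_classInner_sprin_ne {χ : S2 → ℂ} (hχ : Cfsg.IsIrrCharacter S2 χ) {α : MulChar F ℂ}
    (hα : α ^ 2 ≠ 1) (h : Cfsg.classInner (sprin α) χ ≠ 0) : χ = sprin α := by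
  by_contra hne
  exact h (CharBasic.classInner_irr_of_ne ((isIrrCharacter_sprin_iff α).mpr hα) hχ (Ne.symm hne))

/-- Every irreducible character of SL₂ lies under one of GL₂. -/
theorem exists_over {χ : S2 → ℂ} (hχ : Cfsg.IsIrrCharacter S2 χ) :
    ∃ Θ : Cfsg.IrrCharacter G2, Cfsg.classInner
      (fun g : S2 => (Θ : G2 → ℂ) (Matrix.SpecialLinearGroup.toGL g)) χ ≠ 0 := by
  classical
  by_contra hc
  push Not at hc
  have e : (fun g : S2 => if g = 1 then (Nat.card G2 : ℂ) else 0) =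
      ∑ Θ : Cfsg.IrrCharacter G2, (Θ : G2 → ℂ) 1 •
        (fun g : S2 => (Θ : G2 → ℂ) (Matrix.SpecialLinearGroup.toGL g)) := by
    funext g
    rw [Finset.sum_apply]
    simp only [Pi.smul_apply, smul_eq_mul, CharBasic.sum_degree_mul_apply]
    by_cases hg : g = 1
    · simp [hg]
    · rw [if_neg hg, if_neg fun hh => hg (Linear.toGL_injective (hh.trans (map_one _).symm))]
  have h0 : Cfsg.classInner (fun g : S2 => if g = 1 then (Nat.card G2 : ℂ) else 0) χ = 0 := by
    rw [e, CharBasic.classInner_sum_left]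
    refine Finset.sum_eq_zero fun Θ _ => ?_
    rw [CharBasic.classInner_smul_left, hc, mul_zero]
  simp only [Cfsg.classInner, ite_mul, zero_mul, Finset.sum_ite_eq', Finset.mem_univ, if_true,
    mul_eq_zero, inv_eq_zero, Nat.cast_eq_zero, Nat.card_ne_zero.mpr ⟨inferInstance, inferInstance⟩,
    false_or, map_eq_zero] at h0
  exact CharBasic.IsIrr.one_ne_zero hχ h0

/-- A cuspidal character of SL₂ lies in the restriction of a character of degree q − 1 which takes
the value −1 at the transvections. -/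
theorem IsCuspS.exists_over {χ : S2 → ℂ} (hc : IsCuspS χ) (hχ : Cfsg.IsIrrCharacter S2 χ) :
    ∃ R : S2 → ℂ, Cfsg.IsCharacter S2 R ∧ R 1 = (Fintype.card F : ℂ) - 1 ∧
      (∀ c : F, c ≠ 0 → R (upS 1 c) = -1) ∧ (∀ ε g, R (conjS ε g) = R g) ∧
      Cfsg.classInner R χ ≠ 0 := by
  obtain ⟨Θ, hΘ⟩ := H53.exists_over hχ
  have h1χ : χ ≠ fun _ => (1 : ℂ) := fun e => one_not_cusp (e ▸ hc)
  have hcusp : Θ ∉ Set.range (ncChar (F := F)) := by
    rintro ⟨x, rfl⟩
    apply hΘ
    rcases x with α | α | ⟨z, hz⟩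
    · rw [show (fun g : S2 => (ncChar (Sum.inl α) : G2 → ℂ) (Matrix.SpecialLinearGroup.toGL g)) =
        fun _ => (1 : ℂ) from funext fun g => by simp [ncChar, linFun]]
      exact CharBasic.classInner_irr_of_ne CharBasic.isIrrCharacter_one hχ h1χ.symm
    · rw [show (fun g : S2 => (ncChar (Sum.inr (Sum.inl α)) : G2 → ℂ)
          (Matrix.SpecialLinearGroup.toGL g)) = sprin (1 : MulChar F ℂ) - fun _ => (1 : ℂ) from
        funext fun g => by simp [ncChar, stFun, linFun, prin_toGL]]
      rw [CharBasic.classInner_sub_left, hc 1,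
        CharBasic.classInner_irr_of_ne CharBasic.isIrrCharacter_one hχ h1χ.symm, sub_zero]
    · induction z using Sym2.inductionOn with
      | _ α β =>
        rw [show (fun g : S2 => (ncChar (Sum.inr (Sum.inr ⟨s(α, β), hz⟩)) : G2 → ℂ)
            (Matrix.SpecialLinearGroup.toGL g)) = sprin (α * β⁻¹) from
          funext fun g => by simp [ncChar, prinPair_mk, prin_toGL]]
        exact hc _
  obtain ⟨hd, hu⟩ := cusp_data.2 Θ hcusp
  refine ⟨_, CharInduce.IsChar.comp (CharBasic.IsIrr.isCharacter Θ.2) _, ?_, fun c hc0 => ?_,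
    fun ε g => ?_, hΘ⟩
  · simp only [map_one, hd]
  · simp only [toGL_upS]
    rw [(CharBasic.isConj_iff_forall_irr _ _).mp (isConj_upGL_one hc0) Θ, hu]
  · simp only [toGL_conjS]
    exact CharBasic.IsIrr.isClassFunction Θ.2 _ _

omit [DecidableEq F] [DecidableEq (MulChar F ℂ)] in
/-- A complex number which is an algebraic integer with rational `e + m x = 0` is an integer. -/
theorem exists_int_of_linear {x : ℂ} (hx : IsIntegral ℤ x) {m e : ℤ} (hm : m ≠ 0)
    (h : (e : ℂ) + (m : ℂ) * x = 0) : ∃ z : ℤ, x = z ∧ e + m * z = 0 := by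
  have hmC : (m : ℂ) ≠ 0 := Int.cast_ne_zero.mpr hm
  have hx' : x = (((-(e : ℚ)) / (m : ℚ) : ℚ) : ℂ) := by
    push_cast
    field_simp
    linear_combination h
  obtain ⟨z, hz⟩ := H81.int_of_isIntegral_ratCast (hx' ▸ hx)
  refine ⟨z, by rw [hx', ← hz]; push_cast; rfl, ?_⟩
  have h2 : x = (z : ℂ) := by rw [hx', ← hz]; push_cast; rfl
  rw [h2] at h
  exact_mod_cast h

end Cfsg.Agent.H53
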