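import Cfsg.Agent.H53.SLBasic
import Cfsg.Agent.Linear.TwoClasses

/-!
The two constituents of the principal series of SL₂ attached to the character of order two.
-/

set_option autoImplicit false
set_option linter.unusedSectionVars false

namespace Cfsg.Agent.H53

open Matrix Finset
open scoped ComplexConjugate

variable {F : Type*} [Field F] [Fintype F]

local notation "M2" => Matrix (Fin 2) (Fin 2) F
local notation "S2" => Matrix.SpecialLinearGroup (Fin 2) F

theorem ringChar_ne_two (h2 : (2 : F) ≠ 0) : ringChar F ≠ 2 := fun h => by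
  have : CharP F 2 := h ▸ ringChar.charP F
  exact h2 CharTwo.two_eq_zero

theorem exists_not_isSquare (h2 : (2 : F) ≠ 0) : ∃ δ : F, ¬ IsSquare δ :=
  FiniteField.exists_nonsquare (ringChar_ne_two h2)

theorem ne_zero_of_not_isSquare {δ : F} (hδ : ¬ IsSquare δ) : δ ≠ 0 := fun e =>
  hδ (e ▸ ⟨0, by simp⟩)

theorem mulChar_sq_cases (e : MulChar F ℂ ≃* Fˣ) {α : MulChar F ℂ} (h : α ^ 2 = 1) :
    α = 1 ∨ α = e.symm (-1) := by
  have h' : (e α) ^ 2 = 1 := by rw [← map_pow, h, map_one]
  have h'' : ((e α : Fˣ) : F) ^ 2 = 1 := by rw [← Units.val_pow_eq_pow_val, h', Units.val_one]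
  rcases sq_eq_one_iff.mp h'' with h1 | h1
  · exact Or.inl (e.injective (by rw [map_one]; exact Units.ext h1))
  · refine Or.inr (e.injective ?_)
    rw [MulEquiv.apply_symm_apply]
    exact Units.ext (by simpa using h1)

theorem mulChar_eq_one_of_sq (h2 : (2 : F) = 0) {α : MulChar F ℂ} (h : α ^ 2 = 1) : α = 1 := by
  obtain ⟨e⟩ := MulChar.mulEquiv_units F ℂ
  rcases mulChar_sq_cases e h with h1 | h1
  · exact h1
  · rw [h1, show (-1 : Fˣ) = 1 from Units.ext (by simp; linear_combination -h2), map_one]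

theorem mulChar_sq_unique {α β : MulChar F ℂ} (h : α ^ 2 = 1) (h' : β ^ 2 = 1) (ha : α ≠ 1)
    (hb : β ≠ 1) : α = β := by
  obtain ⟨e⟩ := MulChar.mulEquiv_units F ℂ
  rw [(mulChar_sq_cases e h).resolve_left ha, (mulChar_sq_cases e h').resolve_left hb]

theorem exists_mulChar_sq (h2 : (2 : F) ≠ 0) : ∃ ε : MulChar F ℂ, ε ^ 2 = 1 ∧ ε ≠ 1 := by
  obtain ⟨e⟩ := MulChar.mulEquiv_units F ℂ
  refine ⟨e.symm (-1), by rw [← map_pow, neg_one_sq, map_one], fun h => ?_⟩
  rw [MulEquiv.map_eq_one_iff] at h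
  have := congrArg Units.val h
  simp only [Units.val_neg, Units.val_one] at this
  exact h2 (by linear_combination -this)

/-! ### Values of class functions on the unitriangular group -/

theorem upS_mul (c x : F) : upS 1 c * upS 1 x = upS 1 (c + x) := by
  apply Linear.SL_ext_two <;>
    simp [Matrix.SpecialLinearGroup.coe_mul, Linear.mul_two_apply, coe_upS, add_comm]

theorem apply_upS_sq {χ : S2 → ℂ} (hχ : Cfsg.IsClassFunction S2 χ) (a : Fˣ) (c : F) :
    χ (upS 1 ((a : F) ^ 2 * c)) = χ (upS 1 c) := by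
  rw [← upS_sq_mul, hχ]

theorem apply_upS_of_isSquare {χ : S2 → ℂ} (hχ : Cfsg.IsClassFunction S2 χ) {c : F} (hc : c ≠ 0)
    (h : IsSquare c) : χ (upS 1 c) = χ (upS 1 1) := by
  obtain ⟨r, rfl⟩ := h
  have hr : r ≠ 0 := left_ne_zero_of_mul hc
  rw [← apply_upS_sq hχ (Units.mk0 r hr) 1, Units.val_mk0, mul_one, sq]

theorem apply_upS_of_not_isSquare {χ : S2 → ℂ} (hχ : Cfsg.IsClassFunction S2 χ) {c δ : F}
    (hc : ¬ IsSquare c) (hδ : ¬ IsSquare δ) : χ (upS 1 c) = χ (upS 1 δ) := by
  have hd := ne_zero_of_not_isSquare hδ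
  have hc0 := ne_zero_of_not_isSquare hc
  obtain ⟨r, hr⟩ := Linear.isSquare_mul_of_not_isSquare hc0 hd hc hδ
  have hr0 : r ≠ 0 := fun e => mul_ne_zero hc0 hd (by rw [hr, e, mul_zero])
  have e : c = ((Units.mk0 (r / δ) (div_ne_zero hr0 hd) : Fˣ) : F) ^ 2 * δ := by
    rw [Units.val_mk0]
    field_simp
    linear_combination hr
  conv_lhs => rw [e]
  rw [apply_upS_sq hχ]

theorem two_sum_upS {χ : S2 → ℂ} (hχ : Cfsg.IsClassFunction S2 χ) {δ : F} (hδ : ¬ IsSquare δ) :
    2 * ∑ c : F, χ (upS 1 c) =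
      2 * χ 1 + ((Fintype.card F : ℂ) - 1) * (χ (upS 1 1) + χ (upS 1 δ)) := by
  classical
  have hd := ne_zero_of_not_isSquare hδ
  have hpair : ∀ c : F, c ≠ 0 →
      χ (upS 1 c) + χ (upS 1 (δ * c)) = χ (upS 1 1) + χ (upS 1 δ) := by
    intro c hc
    by_cases hs : IsSquare c
    · have hns : ¬ IsSquare (δ * c) := by
        rintro ⟨r, hr⟩
        obtain ⟨s, rfl⟩ := hs
        have hs0 : s ≠ 0 := left_ne_zero_of_mul hc
        exact hδ ⟨r / s, by field_simp; linear_combination hr⟩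
      rw [apply_upS_of_isSquare hχ hc hs, apply_upS_of_not_isSquare hχ hns hδ]
    · rw [apply_upS_of_not_isSquare hχ hs hδ, apply_upS_of_isSquare hχ (mul_ne_zero hd hc)
        (Linear.isSquare_mul_of_not_isSquare hd hc hδ hs), add_comm]
  have h2 : ∑ c : F, χ (upS 1 c) = ∑ c : F, χ (upS 1 (δ * c)) :=
    (Equiv.sum_comp (Equiv.mulLeft₀ δ hd) (fun c => χ (upS 1 c))).symm
  rw [two_mul]
  conv_lhs => arg 2; rw [h2]
  rw [← Finset.sum_add_distrib, ← Finset.add_sum_erase _ _ (Finset.mem_univ (0 : F)),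
    Finset.sum_congr rfl (fun c hc => hpair c (Finset.ne_of_mem_erase hc)), Finset.sum_const,
    Finset.card_erase_of_mem (Finset.mem_univ _), Finset.card_univ, nsmul_eq_mul, mul_zero, upS_one,
    Nat.cast_sub Fintype.card_pos, Nat.cast_one]
  ring

variable [DecidableEq F] [DecidableEq (MulChar F ℂ)]

theorem classInner_sprin_stS {α : MulChar F ℂ} (hα : α ≠ 1) :
    Cfsg.classInner (sprin α) (stS (F := F)) = 0 := by
  rw [show stS (F := F) = sprin (1 : MulChar F ℂ) - fun _ => (1 : ℂ) from rfl,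
    CharBasic.classInner_sub_right, classInner_sprin, classInner_sprin_one, inv_one, if_neg hα]
  simp

/-- A constituent of the principal series character of a quadratic character. -/
def IsHalf (ε : MulChar F ℂ) (h : S2 → ℂ) : Prop :=
  Cfsg.IsIrrCharacter S2 h ∧ Cfsg.classInner (sprin ε) h ≠ 0

theorem exists_isHalf (ε : MulChar F ℂ) : ∃ h : S2 → ℂ, IsHalf ε h := by
  obtain ⟨ψ, hψ⟩ := CharInduce.exists_constituent (isCharacter_sprin ε) (fun h => by
    have := congrFun h 1
    rw [sprin_one, Pi.zero_apply] at this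
    exact Nat.cast_add_one_ne_zero _ this)
  exact ⟨ψ, ψ.2, hψ⟩

variable {ε : MulChar F ℂ} {h : Matrix.SpecialLinearGroup (Fin 2) F → ℂ} {δ : F}

theorem IsHalf.exists_other (H : IsHalf ε h) (hε : ε ^ 2 = 1) :
    ∃ r : S2 → ℂ, Cfsg.IsIrrCharacter S2 r ∧ h ≠ r ∧ sprin ε = h + r := by
  obtain ⟨r, hr, e⟩ := CharInduce.IsChar.exists_eq_add (isCharacter_sprin ε) H.1 H.2
  obtain ⟨n, hn⟩ := CharBasic.classInner_isChar_nat (CharBasic.IsIrr.isCharacter H.1) hr
  obtain ⟨n', hn'⟩ := CharBasic.classInner_isChar_nat hr (CharBasic.IsIrr.isCharacter H.1)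
  obtain ⟨k, hk⟩ := CharBasic.classInner_isChar_nat hr hr
  have hinv : ε = ε⁻¹ := by rwa [sq, mul_eq_one_iff_eq_inv] at hε
  have h2 := classInner_sprin ε ε
  rw [if_pos rfl, if_pos hinv, e, CharBasic.classInner_add_left, CharBasic.classInner_add_right,
    CharBasic.classInner_add_right, CharBasic.classInner_irr_self H.1, hn, hn', hk] at h2
  have hsum : 1 + n + n' + k = 2 := by
    have h3 : ((1 + n + n' + k : ℕ) : ℂ) = ((2 : ℕ) : ℂ) := by
      push_cast
      linear_combination h2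
    exact_mod_cast h3
  have hk1 : k = 1 := by
    by_contra hk1
    have hk0 : k = 0 := by omega
    rw [hk0, Nat.cast_zero, CharBasic.classInner_self_eq_zero] at hk
    rw [hk] at hn hn'
    have e1 : (n : ℂ) = 0 := by rw [← hn]; simp [Cfsg.classInner]
    have e2 : (n' : ℂ) = 0 := by rw [← hn']; simp [Cfsg.classInner]
    rw [Nat.cast_eq_zero] at e1 e2
    omega
  have hri : Cfsg.IsIrrCharacter S2 r := CharInduce.isIrr_of_norm_one hr (by rw [hk, hk1, Nat.cast_one])
  refine ⟨r, hri, fun ee => ?_, e⟩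
  rw [← ee, CharBasic.classInner_irr_self H.1] at hn
  have : n = 1 := by exact_mod_cast hn.symm
  omega

theorem IsHalf.classInner_self (H : IsHalf ε h) (hε : ε ^ 2 = 1) :
    Cfsg.classInner (sprin ε) h = 1 := by
  obtain ⟨r, hr, hne, e⟩ := H.exists_other hε
  rw [e, CharBasic.classInner_add_left, CharBasic.classInner_irr_self H.1,
    CharBasic.classInner_irr_of_ne hr H.1 hne.symm, add_zero]

theorem IsHalf.classInner (H : IsHalf ε h) (hε : ε ^ 2 = 1) (hε1 : ε ≠ 1) (α : MulChar F ℂ) :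
    Cfsg.classInner (sprin α) h = if α = ε then 1 else 0 := by
  split_ifs with e
  · rw [e, H.classInner_self hε]
  · by_contra hne
    by_cases hα : α ^ 2 = 1
    · have hα1 : α = 1 := by
        by_contra h1
        exact e (mulChar_sq_unique hα hε h1 hε1)
      subst hα1
      rcases eq_of_classInner_sprin_one_ne H.1 hne with rfl | rfl
      · exact H.2 (by rw [classInner_sprin_one, if_neg hε1])
      · exact H.2 (classInner_sprin_stS hε1)
    · have hh := eq_of_classInner_sprin_ne H.1 hα hne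
      apply H.2
      have hinv : ε ≠ α⁻¹ := fun ee => hα (by rw [← inv_inv α, ← ee, inv_pow, hε, inv_one])
      rw [hh, classInner_sprin, if_neg (Ne.symm e), if_neg hinv, add_zero]

theorem IsHalf.sum_upS (H : IsHalf ε h) (hε : ε ^ 2 = 1) (hε1 : ε ≠ 1) :
    ∑ c : F, h (upS 1 c) = (Fintype.card F : ℂ) := by
  have := Fintype.ofFinite (MulChar F ℂ)
  have hs := sum_classInner_sprin (CharBasic.IsIrr.isClassFunction H.1) (1 : Fˣ)
  simp only [inv_one, Units.val_one, map_one, one_mul, H.classInner hε hε1, Finset.sum_ite_eq',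
    Finset.mem_univ, if_true] at hs
  have h0 : (Fintype.card F : ℂ) ≠ 0 := Nat.cast_ne_zero.mpr Fintype.card_ne_zero
  have hc : conj (∑ c : F, h (upS 1 c)) = (Fintype.card F : ℂ) := by
    field_simp at hs
    exact hs.symm
  have := congrArg conj hc
  rwa [Complex.conj_conj, Complex.conj_natCast] at this

theorem IsHalf.conj (H : IsHalf ε h) (d : Fˣ) : IsHalf ε (fun g => h (conjS d g)) := by
  refine ⟨isIrr_conjS H.1 d, ?_⟩
  rw [show sprin ε = fun g => sprin ε (conjS d g) from funext fun g => (sprin_conjS ε d g).symm,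
    classInner_conjS]
  exact H.2

theorem IsHalf.not_linear (H : IsHalf ε h) (hε : ε ^ 2 = 1) (hε1 : ε ≠ 1) : h 1 ≠ 1 := by
  intro h1
  obtain ⟨l, hl⟩ := CharInduce.IsChar.exists_hom_of_degree_one (CharBasic.IsIrr.isCharacter H.1) h1
  have hmul : ∀ a b, h (a * b) = h a * h b := fun a b => by
    rw [hl, hl, hl, map_mul, Units.val_mul]
  have hS := H.sum_upS hε hε1
  have hu : ∀ c : F, h (upS 1 c) = 1 := by
    intro c
    have e : h (upS 1 c) * ∑ x : F, h (upS 1 x) = ∑ x : F, h (upS 1 x) := by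
      rw [Finset.mul_sum]
      simp only [← hmul, upS_mul]
      exact Equiv.sum_comp (Equiv.addLeft c) (fun x => h (upS 1 x))
    rw [hS] at e
    exact (mul_eq_right₀ (Nat.cast_ne_zero.mpr Fintype.card_ne_zero)).mp e
  have hall : ∀ g : S2, h g = 1 := by
    intro g
    refine Linear.transvection_induction (P := fun g => h g = 1) h1 (fun i j hij c => ?_)
      (fun a b ha hb => (hmul a b).trans (by rw [ha, hb, mul_one])) g
    fin_cases i <;> fin_cases j
    · exact absurd rfl hij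
    · rw [← hu c]
      congr 1
      apply Linear.SL_ext_two <;>
        simp [Matrix.SpecialLinearGroup.transvection, Matrix.transvection, Matrix.single, coe_upS]
    · have e : Matrix.SpecialLinearGroup.transvection hij c =
          lineRepS (some 0) * upS 1 (-c) * (lineRepS (some (0 : F)))⁻¹ := by
        rw [eq_mul_inv_iff_mul_eq]
        apply Linear.SL_ext_two <;>
          simp only [Linear.SL_mul_entries, coe_lineRepS_some, coe_upS] <;>
          simp [Matrix.SpecialLinearGroup.transvection, Matrix.transvection, Matrix.single]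
      rw [e, CharBasic.IsIrr.isClassFunction H.1, hu]
    · exact absurd rfl hij
  have hfun : h = fun _ => (1 : ℂ) := funext hall
  exact H.2 (by rw [hfun, classInner_sprin_one, if_neg hε1])

theorem IsHalf.conj_ne (H : IsHalf ε h) (hε : ε ^ 2 = 1) (hε1 : ε ≠ 1) (hδ : ¬ IsSquare δ) :
    (fun g => h (conjS (Units.mk0 δ (ne_zero_of_not_isSquare hδ)) g)) ≠ h := by
  intro e
  obtain ⟨r, hr, hne, er⟩ := H.exists_other hε
  have Hr : IsHalf ε r := ⟨hr, by
    rw [er, CharBasic.classInner_add_left, CharBasic.classInner_irr_self hr,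
      CharBasic.classInner_irr_of_ne H.1 hr hne, zero_add]
    exact one_ne_zero⟩
  have hz : h (upS 1 δ) = h (upS 1 1) := by
    have := congrFun e (upS 1 1)
    simpa [conjS_upS] using this
  obtain ⟨d, hd0, hd⟩ := CharBasic.IsIrr.exists_degree H.1
  obtain ⟨d', hd0', hd'⟩ := CharBasic.IsIrr.exists_degree hr
  have hdd : d + d' = Fintype.card F + 1 := by
    have h1 : ((d + d' : ℕ) : ℂ) = ((Fintype.card F + 1 : ℕ) : ℂ) := by
      push_cast
      rw [← hd, ← hd', ← sprin_one ε, er]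
      rfl
    exact_mod_cast h1
  have hd1 : d ≠ 1 := fun h1 => H.not_linear hε hε1 (by rw [hd, h1, Nat.cast_one])
  have hd1' : d' ≠ 1 := fun h1 => Hr.not_linear hε hε1 (by rw [hd', h1, Nat.cast_one])
  have hsum := two_sum_upS (CharBasic.IsIrr.isClassFunction H.1) hδ
  rw [H.sum_upS hε hε1, hz, hd] at hsum
  have hq2 : 2 ≤ Fintype.card F := Fintype.one_lt_card
  obtain ⟨z, -, hz2⟩ := exists_int_of_linear
    (CharBasic.IsChar.isIntegral (CharBasic.IsIrr.isCharacter H.1) (upS 1 1))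
    (e := (d : ℤ) - (Fintype.card F : ℤ)) (m := (Fintype.card F : ℤ) - 1) (by omega)
    (by push_cast; linear_combination (-1 / 2 : ℂ) * hsum)
  rcases le_or_gt z (-1) with hneg | hpos
  · have : ((Fintype.card F : ℤ) - 1) * z ≤ -((Fintype.card F : ℤ) - 1) := by nlinarith
    omega
  · rcases eq_or_lt_of_le (show 0 ≤ z by omega) with rfl | hz1
    · omega
    · rcases eq_or_lt_of_le (show 1 ≤ z by omega) with rfl | hz2'
      · omega
      · have : 2 * ((Fintype.card F : ℤ) - 1) ≤ ((Fintype.card F : ℤ) - 1) * z := by nlinarith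
        omega

/-- The principal series of the quadratic character is the sum of a constituent and its conjugate. -/
theorem IsHalf.eq_add (H : IsHalf ε h) (hε : ε ^ 2 = 1) (hε1 : ε ≠ 1) (hδ : ¬ IsSquare δ) :
    sprin ε = h + fun g => h (conjS (Units.mk0 δ (ne_zero_of_not_isSquare hδ)) g) := by
  obtain ⟨r, hr, -, er⟩ := H.exists_other hε
  have hc := H.conj (Units.mk0 δ (ne_zero_of_not_isSquare hδ))
  have hne := H.conj_ne hε hε1 hδ
  have e : r = fun g => h (conjS (Units.mk0 δ (ne_zero_of_not_isSquare hδ)) g) := by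
    by_contra hne'
    refine hc.2 ?_
    rw [er, CharBasic.classInner_add_left, CharBasic.classInner_irr_of_ne H.1 hc.1 hne.symm,
      CharBasic.classInner_irr_of_ne hr hc.1 hne', add_zero]
  rw [← e]
  exact er

theorem IsHalf.cases (H : IsHalf ε h) (hε : ε ^ 2 = 1) (hε1 : ε ≠ 1) (hδ : ¬ IsSquare δ)
    {g : S2 → ℂ} (Hg : IsHalf ε g) :
    g = h ∨ g = fun x => h (conjS (Units.mk0 δ (ne_zero_of_not_isSquare hδ)) x) := by
  by_contra hne
  push Not at hne
  refine Hg.2 ?_
  rw [H.eq_add hε hε1 hδ, CharBasic.classInner_add_left,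
    CharBasic.classInner_irr_of_ne H.1 Hg.1 hne.1.symm,
    CharBasic.classInner_irr_of_ne (H.conj _).1 Hg.1 hne.2.symm, add_zero]

theorem IsHalf.two_degree (H : IsHalf ε h) (hε : ε ^ 2 = 1) (hε1 : ε ≠ 1) (hδ : ¬ IsSquare δ) :
    2 * h 1 = (Fintype.card F : ℂ) + 1 := by
  have := congrFun (H.eq_add hε hε1 hδ) 1
  rw [sprin_one, Pi.add_apply, map_one] at this
  linear_combination -this

theorem IsHalf.zsum (H : IsHalf ε h) (hε : ε ^ 2 = 1) (hε1 : ε ≠ 1) (hδ : ¬ IsSquare δ) :
    h (upS 1 1) + h (upS 1 δ) = 1 := by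
  have hs := two_sum_upS (CharBasic.IsIrr.isClassFunction H.1) hδ
  rw [H.sum_upS hε hε1] at hs
  have h1 : (Fintype.card F : ℂ) - 1 ≠ 0 := by
    rw [sub_ne_zero, Nat.cast_ne_one]
    exact Fintype.one_lt_card.ne'
  refine mul_left_cancel₀ h1 ?_
  linear_combination -hs - H.two_degree hε hε1 hδ

theorem IsHalf.not_cusp (H : IsHalf ε h) : ¬ IsCuspS h := fun hc => H.2 (hc ε)

end Cfsg.Agent.H53
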