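import Cfsg.Agent.H53.SLLowerRep

/-!
The smallest degree of a non-linear irreducible complex character of SL(n, q), n ≥ 3.
-/

set_option autoImplicit false
set_option linter.unusedSectionVars false

namespace Cfsg.Agent.H53

open Matrix Finset

variable {F : Type*} [Field F] [Fintype F] [DecidableEq F]

local notation "qq" => Fintype.card F
local notation "SLn" n => Matrix.SpecialLinearGroup (Fin n) F

/-- The four exceptional parameters. -/
def IsExc (n q : ℕ) : Prop :=
  (n, q) = (3, 2) ∨ (n, q) = (3, 4) ∨ (n, q) = (4, 2) ∨ (n, q) = (4, 3)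

/-- `(q^n - q)/(q - 1)`. -/
def lowDeg (n q : ℕ) : ℕ := (q ^ n - q) / (q - 1)

theorem lowDeg_succ {q : ℕ} (hq : 2 ≤ q) (n : ℕ) :
    lowDeg (n + 1) q = q * ∑ i ∈ range n, q ^ i := by
  rw [lowDeg]
  refine Nat.div_eq_of_eq_mul_left (by omega) ?_
  rw [mul_assoc, geom_sum_mul_of_one_le (by omega : 1 ≤ q), Nat.mul_sub, mul_one, ← pow_succ']

theorem good_of_not_exc {l : ℕ} (h : ¬ IsExc (l + 3) qq) : Good l F := by
  classical
  have hq : 2 ≤ qq := Fintype.one_lt_card
  obtain ⟨g, hg⟩ := IsCyclic.exists_ofOrder_eq_natCard (α := Fˣ)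
  rw [Nat.card_eq_fintype_card, Fintype.card_units] at hg
  have hval : ∀ j : ℕ, 0 < j → ¬ qq - 1 ∣ j → ∃ c : F, c ≠ 0 ∧ c ^ j ≠ 1 := fun j _ hj =>
    ⟨g, g.ne_zero, fun e => hj (hg ▸ orderOf_dvd_of_pow_eq_one (Units.ext (by simpa using e)))⟩
  refine ⟨fun hl => ?_, fun hl => ?_⟩
  · refine hval 3 (by norm_num) fun hd => h ?_
    subst hl
    have h3 := Nat.le_of_dvd (by norm_num) hd
    rcases (Nat.dvd_prime Nat.prime_three).1 hd with e | e
    · exact Or.inl (by simp; omega)
    · exact Or.inr (Or.inl (by simp; omega))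
  · refine hval 2 (by norm_num) fun hd => h ?_
    subst hl
    rcases (Nat.dvd_prime Nat.prime_two).1 hd with e | e
    · exact Or.inr (Or.inr (Or.inl (by simp; omega)))
    · exact Or.inr (Or.inr (Or.inr (by simp; omega)))

section

variable {V : Type*} [AddCommGroup V] [Module ℂ V] [FiniteDimensional ℂ V]

theorem finrank_le_one_of_trivial {G : Type*} [Group G] (ρ : Representation ℂ G V) [ρ.IsIrreducible]
    (h : ∀ g, ρ g = 1) : Module.finrank ℂ V ≤ 1 := by
  by_contra hd
  have : Nontrivial V := Module.nontrivial_of_finrank_pos (R := ℂ) (by omega)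
  obtain ⟨x, hx⟩ := exists_ne (0 : V)
  let S : Subrepresentation ρ :=
    ⟨Submodule.span ℂ {x}, fun g v hv => by rw [h g]; exact hv⟩
  rcases IsSimpleOrder.eq_bot_or_eq_top S with e | e
  · have h1 : Submodule.span ℂ {x} = ⊥ := congrArg Subrepresentation.toSubmodule e
    rw [Submodule.span_singleton_eq_bot] at h1
    exact hx h1
  · have h1 : Submodule.span ℂ {x} = (⊤ : Submodule ℂ V) := congrArg Subrepresentation.toSubmodule e
    have h2 := finrank_span_singleton (K := ℂ) hx
    rw [h1, finrank_top] at h2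
    omega

variable {l : ℕ}

theorem character_sh_root (ρ : Representation ℂ (SLn (l + 3)) V) {v : Fin (l + 2) → F} (hv : v ≠ 0) :
    ρ.character (sh v) = ρ.character (root (l := l + 1) 1) :=
  character_sh (m := l + 2) (by omega) ρ _ (by simp) (by simp) hv

theorem character_emb_root_const (ρ : Representation ℂ (SLn (l + 3)) V) {c : F} (hc : c ≠ 0) :
    ρ.character (emb (root (l := l) c)) = ρ.character (root (l := l + 1) 1) := by
  rw [root, emb_tvec]
  obtain ⟨v, hv⟩ := exists_ne (0 : Fin (l + 2) → F)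
  rw [← character_sh_root ρ hv]
  exact (character_sh (m := l + 2) (by omega) ρ _
    (fun e => by simpa using congrFun e (Fin.succ 0))
    (fun e => hc (by
      have := congrFun e (Fin.succ 1)
      rw [Fin.cons_succ, Pi.single_eq_same] at this
      exact this)) hv).symm

/-- The jump of the trace at a transvection. -/
theorem exists_jump (ψ : AddChar F ℂ) (hψ : ψ.IsPrimitive) (ρ : Representation ℂ (SLn (l + 3)) V) :
    ∃ j : ℕ, (Module.finrank ℂ V : ℂ) - ρ.character (root (l := l + 1) 1) = (qq : ℂ) ^ (l + 2) * j ∧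
      (qq ^ (l + 2) - 1) * j ≤ Module.finrank ℂ V := by
  obtain ⟨a, k, -, -, hd, hθ⟩ := exists_mult (m := l + 2) ψ ρ hψ (by omega)
    (θ := ρ.character (root (l := l + 1) 1)) (fun v hv => character_sh_root ρ hv)
  refine ⟨k, ?_, by omega⟩
  have hd' : (Module.finrank ℂ V : ℂ) = (a : ℂ) + ((qq : ℂ) ^ (l + 2) - 1) * k := by
    rw [hd, Nat.cast_add, Nat.cast_mul, Nat.cast_sub (Nat.one_le_pow _ _ Fintype.card_pos),
      Nat.cast_pow, Nat.cast_one]
  rw [hd', hθ]
  ring

theorem trivial_of_jump_zero (ρ : Representation ℂ (SLn (l + 3)) V)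
    (h : ρ.character (root (l := l + 1) 1) = (Module.finrank ℂ V : ℂ)) (g : SLn (l + 3)) :
    ρ g = 1 :=
  eq_one_of_transvection (by omega) ρ _ (by simp) (by simp)
    ((CharBasic.character_eq_finrank_iff ρ _).1 h) g

/-- A representation with one jump and no fixed vector is irreducible. -/
theorem irreducible_of_jump_one (ψ : AddChar F ℂ) (hψ : ψ.IsPrimitive)
    (ρ : Representation ℂ (SLn (l + 3)) V) (hnf : ∀ x : V, (∀ g, ρ g x = x) → x = 0)
    (h1 : (Module.finrank ℂ V : ℂ) - ρ.character (root (l := l + 1) 1) = (qq : ℂ) ^ (l + 2)) :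
    ρ.IsIrreducible ∧ qq ^ (l + 2) - 1 ≤ Module.finrank ℂ V := by
  have hq0 : ((qq : ℂ) ^ (l + 2)) ≠ 0 := pow_ne_zero _ (Nat.cast_ne_zero.2 Fintype.card_ne_zero)
  obtain ⟨j, hj, hle⟩ := exists_jump ψ hψ ρ
  have hj1 : j = 1 := by
    have : (j : ℂ) = 1 := mul_left_cancel₀ hq0 (by rw [← hj, h1, mul_one])
    exact_mod_cast this
  subst hj1
  rw [mul_one] at hle
  refine ⟨?_, hle⟩
  rcases CharBasic.rep_trichotomy ρ with h | h | ⟨S, T, hc, hS, hT⟩
  · exfalso
    rw [Module.finrank_zero_of_subsingleton] at hle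
    have : 1 < qq ^ (l + 2) := Nat.one_lt_pow (by omega) Fintype.one_lt_card
    omega
  · exact h
  exfalso
  have hadd := CharBasic.finrank_add_of_isCompl ρ hc
  have hchar := congrFun (CharBasic.character_add_of_isCompl ρ hc) (root (l := l + 1) 1)
  rw [Pi.add_apply] at hchar
  obtain ⟨jS, hjS, -⟩ := exists_jump ψ hψ S.toRepresentation
  obtain ⟨jT, hjT, -⟩ := exists_jump ψ hψ T.toRepresentation
  have hsum : jS + jT = 1 := by
    have : ((jS + jT : ℕ) : ℂ) = 1 := by
      refine mul_left_cancel₀ hq0 ?_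
      rw [Nat.cast_add, mul_add, ← hjS, ← hjT, mul_one, ← h1, hchar, ← hadd, Nat.cast_add]
      ring
    exact_mod_cast this
  have key : ∀ U : Subrepresentation ρ,
      (Module.finrank ℂ U.toSubmodule : ℂ) - U.toRepresentation.character (root (l := l + 1) 1) = 0 →
      Module.finrank ℂ U.toSubmodule = 0 := by
    intro U hU
    rw [Submodule.finrank_eq_zero, eq_bot_iff]
    intro x hx
    rw [Submodule.mem_bot]
    refine hnf x fun g => ?_
    have := trivial_of_jump_zero U.toRepresentation (sub_eq_zero.1 hU).symm g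
    exact congrArg Subtype.val (LinearMap.congr_fun this ⟨x, hx⟩)
  rcases Nat.eq_zero_or_pos jS with e | e
  · have := key S (by rw [hjS, e, Nat.cast_zero, mul_zero])
    omega
  · have := key T (by rw [hjT, show jT = 0 by omega, Nat.cast_zero, mul_zero])
    omega

/-- A small irreducible representation: structure of the fixed space of the radical. -/
theorem small_core (ψ : AddChar F ℂ) (hψ : ψ.IsPrimitive) (ρ : Representation ℂ (SLn (l + 3)) V)
    [ρ.IsIrreducible] (hd : 2 ≤ Module.finrank ℂ V) (hlow : Module.finrank ℂ V < lowDeg (l + 3) qq) :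
    ∃ a : ℕ, Module.finrank ℂ (LinearMap.range (wproj (m := l + 2) ψ ρ 0)) = a ∧
      Module.finrank ℂ V = qq ^ (l + 2) - 1 + a ∧
      a + 1 ≤ ∑ i ∈ range (l + 2), qq ^ i ∧
      ρ.character (root (l := l + 1) 1) = (a : ℂ) - 1 ∧
      (∀ y : Fin (l + 2) → F, y ≠ 0 → LinearMap.trace ℂ V (wproj ψ ρ y) = 1) ∧
      (∀ x, (∀ g, fixRep (m := l + 2) ψ ρ g x = x) → x = 0) := by
  have hq : 2 ≤ qq := Fintype.one_lt_card
  obtain ⟨a, k, ha, hk, hdim, hθ⟩ := exists_mult (m := l + 2) ψ ρ hψ (by omega)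
    (θ := ρ.character (root (l := l + 1) 1)) (fun v hv => character_sh_root ρ hv)
  have hB : lowDeg (l + 3) qq = qq * ∑ i ∈ range (l + 2), qq ^ i := lowDeg_succ hq (l + 2)
  have hgeom := geom_sum_mul_of_one_le (by omega : 1 ≤ qq) (l + 2)
  have hsucc : qq * ∑ i ∈ range (l + 2), qq ^ i + 1 = ∑ i ∈ range (l + 3), qq ^ i := by
    rw [geom_sum_succ (n := l + 2)]
  have hsum3 : ∑ i ∈ range (l + 3), qq ^ i = ∑ i ∈ range (l + 2), qq ^ i + qq ^ (l + 2) :=
    Finset.sum_range_succ _ _
  have hp : 1 ≤ qq ^ (l + 2) := Nat.one_le_pow _ _ (by omega)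
  have hk1 : k = 1 := by
    have hk0 : k ≠ 0 := by
      rintro rfl
      have h := finrank_le_one_of_trivial ρ (trivial_of_jump_zero ρ (by
        rw [hθ, hdim, mul_zero, add_zero, Nat.cast_zero, sub_zero]))
      omega
    by_contra hne
    have h2 : (qq ^ (l + 2) - 1) * 2 ≤ (qq ^ (l + 2) - 1) * k := Nat.mul_le_mul_left _ (by omega)
    have h3 : qq * ∑ i ∈ range (l + 2), qq ^ i ≤ (qq ^ (l + 2) - 1) * 2 := by
      rw [← hgeom, mul_comm qq, mul_assoc]
      exact Nat.mul_le_mul_left _ (by omega)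
    omega
  subst hk1
  rw [mul_one] at hdim
  refine ⟨a, ha, by omega, by omega, by rw [hθ, Nat.cast_one], fun y hy => by rw [hk y hy, Nat.cast_one],
    fun x hx => ?_⟩
  by_contra hx0
  have hfixed := large_of_fixed (m := l + 2) (by omega) ρ hd (x := x.1) (fun e => hx0 (Subtype.ext e))
    (fun v => ?_) (fun A => congrArg Subtype.val (hx A))
  · rw [lowDeg] at hlow
    exact absurd hlow (not_lt.2 hfixed)
  · obtain ⟨w, hw⟩ := x.2
    rw [← hw]
    exact LinearMap.congr_fun (sh_mul_wproj_zero ψ ρ v) w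

/-- Dichotomy for the fixed space. -/
theorem small_dichotomy (ψ : AddChar F ℂ) (hψ : ψ.IsPrimitive) (hsq : l = 0 → ∀ x : F, ∃ s : F, s ^ 2 = x)
    (ρ : Representation ℂ (SLn (l + 3)) V) [ρ.IsIrreducible] (hd : 2 ≤ Module.finrank ℂ V)
    (hlow : Module.finrank ℂ V < lowDeg (l + 3) qq) :
    ∃ a : ℕ, Module.finrank ℂ V = qq ^ (l + 2) - 1 + a ∧ (a = 0 ∨ qq ^ (l + 1) - 1 ≤ a) := by
  classical
  obtain ⟨a, ha, hdim, -, hθ, hk, hnf⟩ := small_core ψ hψ ρ hd hlow
  refine ⟨a, hdim, ?_⟩
  set σ := fixRep (m := l + 2) ψ ρ with hσ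
  have hbound : ∀ c : F, c ≠ 0 → ‖(a : ℂ) - 1 - σ.character (root (l := l) c)‖ ≤ (qq : ℝ) ^ (l + 1) - 1 :=
    fun c hc => fixRep_root_bound ψ ρ hψ (fun c hc => by rw [character_emb_root_const ρ hc, hθ]) hk hc
  have hθ' : ∀ v : Fin (l + 1) → F, v ≠ 0 → σ.character (sh v) = σ.character (root (l := l) 1) := by
    intro v hv
    cases l with
    | succ j => exact character_sh_root σ hv
    | zero =>
      obtain ⟨s, hs⟩ := hsq rfl (v 0)
      have hv0 : v 0 ≠ 0 := fun e => hv (funext fun i => by fin_cases i; exact e)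
      have hs0 : s ≠ 0 := by rintro rfl; simp at hs; exact hv0 hs.symm
      let A : Matrix (Fin 1) (Fin 1) F := Matrix.diagonal fun _ => s⁻¹
      have hA : s * A.det = 1 := by simp [A, hs0]
      have e := blk_mul_sh hA (v := fun _ => 1) (w := v) (by
        funext i
        fin_cases i
        simp [A, Matrix.vecMul_diagonal, ← hs]
        field_simp)
      have e1 : sh (fun _ => (1 : F)) = root (l := 0) 1 := act_ext fun x => by
        rw [act_sh, act_root, one_mul]
        simp [dotProduct, Fin.tail]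
      rw [← e1, ← mul_inv_eq_iff_eq_mul.2 e, Representation.char_conj]
  obtain ⟨a', k', -, -, hdim', hθ''⟩ := exists_mult (m := l + 1) ψ σ hψ (by omega) hθ'
  rw [ha] at hdim'
  have hN : 1 ≤ qq ^ (l + 1) := Nat.one_le_pow _ _ Fintype.card_pos
  rcases Nat.eq_zero_or_pos k' with hk0 | hk0
  · left
    subst hk0
    rw [mul_zero, add_zero] at hdim'
    have hone : σ (root (l := l) 1) = 1 := (CharBasic.character_eq_finrank_iff σ _).1 (by
      rw [hθ'', ha, hdim', Nat.cast_zero, sub_zero])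
    have htriv : ∀ g, σ g = 1 := by
      cases l with
      | succ j => exact eq_one_of_transvection (by omega) σ _ (by simp) (by simp) hone
      | zero =>
        have hroot : ∀ c, σ (root (l := 0) c) = 1 := by
          intro c
          rcases eq_or_ne c 0 with rfl | hc
          · rw [show (root (l := 0) (0 : F)) = 1 from act_ext fun x => by
              rw [act_root, act_one, zero_mul, zero_smul, add_zero], map_one]
          refine (CharBasic.character_eq_finrank_iff σ _).1 ?_
          have e : root (l := 0) c = sh (fun _ : Fin 1 => c) := act_ext fun x => by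
            rw [act_sh, act_root]
            simp [dotProduct, Fin.tail]
          rw [e, hθ' _ (fun e => hc (congrFun e 0)), hθ'', ha, hdim', Nat.cast_zero, sub_zero]
        intro g
        induction g using Linear.transvection_induction with
        | one => exact map_one σ
        | hmul A B hA hB => rw [map_mul, hA, hB, one_mul]
        | htr i j hij c =>
          let w : SLn 2 := ⟨!![0, 1; -1, 0], by simp [Matrix.det_fin_two]⟩
          have hw : w * root (l := 0) (-c) * w⁻¹ = Matrix.SpecialLinearGroup.transvection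
              (show (1 : Fin 2) ≠ 0 by decide) c := by
            refine mul_inv_eq_iff_eq_mul.2 (act_ext fun x => ?_)
            rw [transvection_eq_tvec, act_mul, act_mul, act_root, act_tvec, single_dotProduct]
            ext i
            fin_cases i <;> simp [act, w, mulVec, dotProduct, Fin.sum_univ_two] <;> ring
          fin_cases i <;> fin_cases j
          · exact absurd rfl hij
          · rw [show (Matrix.SpecialLinearGroup.transvection hij c : SLn 2) = root (l := 0) c from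
              transvection_eq_tvec _ _]
            exact hroot c
          · rw [show (Matrix.SpecialLinearGroup.transvection hij c : SLn 2) = w * root (l := 0) (-c) * w⁻¹
              from hw.symm, map_mul, map_mul, hroot, mul_one, ← map_mul, mul_inv_cancel, map_one]
          · exact absurd rfl hij
    rw [← ha, Submodule.finrank_eq_zero, eq_bot_iff]
    intro x hx
    rw [Submodule.mem_bot]
    exact congrArg Subtype.val (hnf ⟨x, hx⟩ fun g => by rw [htriv g]; rfl)
  · right
    have hk1 : k' = 1 := by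
      by_contra hne
      have h := hbound 1 one_ne_zero
      have hd' : (a : ℂ) = (a' : ℂ) + ((qq : ℂ) ^ (l + 1) - 1) * k' := by
        rw [hdim', Nat.cast_add, Nat.cast_mul, Nat.cast_sub hN, Nat.cast_pow, Nat.cast_one]
      rw [hθ'', hd', show (a' : ℂ) + ((qq : ℂ) ^ (l + 1) - 1) * k' - 1 - ((a' : ℂ) - k') =
          ((((qq : ℝ) ^ (l + 1) * k' - 1 : ℝ)) : ℂ) by push_cast; ring, Complex.norm_real,
        Real.norm_eq_abs] at h
      have h2 : (2 : ℝ) ≤ k' := by exact_mod_cast (show 2 ≤ k' by omega)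
      have h1 : (1 : ℝ) ≤ (qq : ℝ) ^ (l + 1) := by exact_mod_cast hN
      have := (le_abs_self _).trans h
      nlinarith
    subst hk1
    omega

theorem class_card (n : ℕ) (hn : 3 ≤ n) {u φ : Fin n → F} (h : φ ⬝ᵥ u = 0) (hu : u ≠ 0) (hφ : φ ≠ 0) :
    Nat.card {x : SLn n // IsConj (tvec u φ h) x} * (qq - 1) =
      (qq ^ n - 1) * (qq ^ (n - 1) - 1) := by
  classical
  let P := Σ a : {a : Fin n → F // a ≠ 0}, {b : Fin n → F // b ≠ 0 ∧ b ⬝ᵥ a.1 = 0}
  have hP : Nat.card P = (qq ^ n - 1) * (qq ^ (n - 1) - 1) := by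
    rw [Nat.card_sigma]
    rw [Finset.sum_congr rfl (g := fun _ => qq ^ (n - 1) - 1) fun a _ => ?_]
    · rw [Finset.sum_const, Finset.card_univ, smul_eq_mul, Fintype.card_subtype_compl,
        Fintype.card_subtype_eq, Fintype.card_fun, Fintype.card_fin]
    · let L : (Fin n → F) →ₗ[F] F :=
        { toFun := fun b => b ⬝ᵥ a.1, map_add' := fun b c => add_dotProduct b c a.1,
          map_smul' := fun c b => smul_dotProduct c b a.1 }
      have hL : LinearMap.range L = ⊤ := by
        obtain ⟨j, hj⟩ := Function.ne_iff.1 a.2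
        refine LinearMap.range_eq_top.2 fun c => ⟨Pi.single j (c * (a.1 j)⁻¹), ?_⟩
        show Pi.single j _ ⬝ᵥ a.1 = c
        rw [single_dotProduct, mul_assoc, inv_mul_cancel₀ hj, mul_one]
      have hker : Module.finrank F (LinearMap.ker L) = n - 1 := by
        have := L.finrank_range_add_finrank_ker
        rw [hL, finrank_top, Module.finrank_self, Module.finrank_fin_fun] at this
        omega
      have e : Nat.card (LinearMap.ker L) = qq ^ (n - 1) := by
        rw [Module.natCard_eq_pow_finrank (K := F), hker, Nat.card_eq_fintype_card]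
      have e2 : Nat.card {b : Fin n → F // b ≠ 0 ∧ b ⬝ᵥ a.1 = 0} =
          ((LinearMap.ker L : Set (Fin n → F)) \ {0}).ncard := by
        rw [← Nat.card_coe_set_eq]
        exact Nat.card_congr (Equiv.subtypeEquivRight fun b => by simp [L, and_comm])
      rw [e2, Set.ncard_sdiff_singleton_of_mem (show (0 : Fin n → F) ∈ (LinearMap.ker L : Set _) from
        (LinearMap.ker L).zero_mem), ← Nat.card_coe_set_eq, ← e]
      rfl
  rw [← hP, ← Fintype.card_units, ← Nat.card_eq_fintype_card (α := Fˣ), ← Nat.card_prod]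
  have hrep : ∀ x : {x : SLn n // IsConj (tvec u φ h) x}, ∃ (a b : Fin n → F) (hab : b ⬝ᵥ a = 0),
      a ≠ 0 ∧ b ≠ 0 ∧ tvec a b hab = x.1 := by
    rintro ⟨x, hx⟩
    obtain ⟨g, rfl⟩ := isConj_iff.1 hx
    set b := φ ᵥ* ((g⁻¹ : SLn n) : Matrix (Fin n) (Fin n) F) with hb
    have hbg : b ᵥ* (g : Matrix (Fin n) (Fin n) F) = φ := by
      rw [hb, vecMul_vecMul, ← Matrix.SpecialLinearGroup.coe_mul, inv_mul_cancel,
        Matrix.SpecialLinearGroup.coe_one, vecMul_one]
    have hbu : b ⬝ᵥ act g u = 0 := by rw [act, dotProduct_mulVec, hbg, h]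
    refine ⟨act g u, b, hbu, act_ne_zero g hu, fun e => hφ (by rw [← hbg, e, zero_vecMul]), ?_⟩
    exact (mul_inv_eq_iff_eq_mul.2 (mul_tvec g h hbu hbg)).symm
  choose a b hab ha hb hx using hrep
  refine Nat.card_congr (Equiv.ofBijective (fun z => (⟨⟨(z.2 : F) • a z.1, smul_ne_zero z.2.ne_zero (ha _)⟩,
    ⟨((z.2 : F)⁻¹) • b z.1, smul_ne_zero (inv_ne_zero z.2.ne_zero) (hb _), by
      rw [smul_dotProduct, dotProduct_smul, hab, smul_zero, smul_zero]⟩⟩ : P)) ⟨?_, ?_⟩)
  · rintro ⟨x, c⟩ ⟨x', c'⟩ e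
    have e1 : (c : F) • a x = (c' : F) • a x' := congrArg (fun p : P => p.1.1) e
    have e2 : (c : F)⁻¹ • b x = (c' : F)⁻¹ • b x' := congrArg (fun p : P => p.2.1) e
    have hxx : x = x' := by
      refine Subtype.ext ?_
      rw [← hx x, ← hx x']
      refine act_ext fun y => ?_
      rw [act_tvec, act_tvec]
      congr 1
      have key : ∀ (x : {x : SLn n // IsConj (tvec u φ h) x}) (c : Fˣ),
          (b x ⬝ᵥ y) • a x = (((c : F)⁻¹ • b x) ⬝ᵥ y) • ((c : F) • a x) := fun x c => by
        rw [smul_dotProduct, smul_smul, smul_eq_mul, mul_right_comm, inv_mul_cancel₀ c.ne_zero, one_mul]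
      rw [key x c, key x' c', e1, e2]
    subst hxx
    exact Prod.ext rfl (Units.ext (smul_left_injective F (ha x) e1))
  · rintro ⟨⟨a0, ha0⟩, b0, hb0, hab0⟩
    obtain ⟨x, hxe⟩ : ∃ x : {x : SLn n // IsConj (tvec u φ h) x}, x.1 = tvec a0 b0 hab0 :=
      ⟨⟨_, isConj_tvec hn h hab0 hu hφ ha0 hb0⟩, rfl⟩
    have heq : ∀ y, (b x ⬝ᵥ y) • a x = (b0 ⬝ᵥ y) • a0 := fun y => by
      have := congrArg (fun g => act g y) ((hx x).trans hxe)
      rw [act_tvec, act_tvec] at this
      exact add_left_cancel this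
    obtain ⟨j, hj⟩ := Function.ne_iff.1 (hb x)
    have hw := heq (Pi.single j (b x j)⁻¹)
    rw [dotProduct_single, mul_inv_cancel₀ hj, one_smul] at hw
    set c := b0 ⬝ᵥ Pi.single j (b x j)⁻¹
    have hc : c ≠ 0 := fun e => ha x (by rw [hw, e, zero_smul])
    refine ⟨(x, (Units.mk0 c hc)⁻¹), ?_⟩
    have h1 : c⁻¹ • a x = a0 := by rw [hw, smul_smul, inv_mul_cancel₀ hc, one_smul]
    have h2 : c • b x = b0 := by
      funext i
      have := heq (Pi.single i 1)
      rw [hw, dotProduct_single, dotProduct_single, mul_one, mul_one, smul_smul] at this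
      have h3 := smul_left_injective F ha0 this
      rw [Pi.smul_apply, smul_eq_mul, mul_comm, h3]
    refine Sigma.subtype_ext (Subtype.ext ?_) ?_
    · simpa using h1
    · simpa using h2

/-- Divisibility from the central character at a transvection. -/
theorem small_dvd (ψ : AddChar F ℂ) (hψ : ψ.IsPrimitive) (ρ : Representation ℂ (SLn (l + 3)) V)
    [ρ.IsIrreducible] (hd : 2 ≤ Module.finrank ℂ V) (hlow : Module.finrank ℂ V < lowDeg (l + 3) qq) :
    ∃ C : ℕ, C * (qq - 1) = (qq ^ (l + 3) - 1) * (qq ^ (l + 2) - 1) ∧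
      Module.finrank ℂ V ∣ C * qq ^ (l + 2) := by
  obtain ⟨a, -, hdim, -, hθ, -, -⟩ := small_core ψ hψ ρ hd hlow
  set t : SLn (l + 3) := root (l := l + 1) 1
  refine ⟨Nat.card {x // IsConj t x}, class_card (l + 3) (by omega) _ (by simp) (by simp), ?_⟩
  rw [CharBasic.card_conjugates_eq_index]
  set C := (Subgroup.centralizer ({t} : Set (SLn (l + 3)))).index
  set d := Module.finrank ℂ V
  have hd0 : (d : ℂ) ≠ 0 := Nat.cast_ne_zero.2 (by omega)
  have hθd : ρ.character t = (d : ℂ) - (qq : ℂ) ^ (l + 2) := by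
    rw [hθ, hdim, Nat.cast_add, Nat.cast_sub (Nat.one_le_pow _ _ Fintype.card_pos), Nat.cast_pow,
      Nat.cast_one]
    ring
  have hint : IsIntegral ℤ (((C * qq ^ (l + 2) : ℕ) : ℂ) / d) := by
    have h1 := (isIntegral_algebraMap (R := ℤ) (A := ℂ) (x := (C : ℤ))).sub
      (CharBasic.isIntegral_centralChar ρ t)
    have e : ((C * qq ^ (l + 2) : ℕ) : ℂ) / d =
        (algebraMap ℤ ℂ (C : ℤ)) - (C : ℂ) * ρ.character t / d := by
      rw [hθd]
      simp only [algebraMap_int_eq, eq_intCast, Int.cast_natCast, Nat.cast_mul, Nat.cast_pow]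
      field_simp
      ring
    rw [e]
    exact h1
  have hq : IsIntegral ℤ (((C * qq ^ (l + 2) : ℕ) : ℚ) / (d : ℚ)) := by
    refine (isIntegral_algebraMap_iff (A := ℚ) (B := ℂ) (algebraMap ℚ ℂ).injective).1 ?_
    convert hint using 1
    simp
  obtain ⟨k, hk⟩ := IsIntegrallyClosed.isIntegral_iff.1 hq
  rw [← Int.natCast_dvd_natCast]
  refine ⟨k, ?_⟩
  have hk' : (k : ℚ) = ((C * qq ^ (l + 2) : ℕ) : ℚ) / d := by simpa using hk
  rw [eq_div_iff (Nat.cast_ne_zero.2 (by omega))] at hk'
  exact_mod_cast (hk'.symm.trans (mul_comm _ _))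

end

/-- The arithmetic excluding the largest possible value. -/
theorem no_large_divisor {q m C : ℕ} (hq : 2 ≤ q) (hm : 2 ≤ m)
    (hC : C * (q - 1) = (q ^ (m + 1) - 1) * (q ^ m - 1)) {a : ℕ} (ha : a + 1 = ∑ i ∈ range m, q ^ i)
    (hdvd : q ^ m - 1 + a ∣ C * q ^ m) : False := by
  have hgm := geom_sum_mul_of_one_le (by omega : 1 ≤ q) m
  have hgm1 := geom_sum_mul_of_one_le (by omega : 1 ≤ q) (m + 1)
  have hsucc : ∑ i ∈ range (m + 1), q ^ i = q * (∑ i ∈ range m, q ^ i) + 1 := geom_sum_succ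
  have hsum : ∑ i ∈ range (m + 1), q ^ i = ∑ i ∈ range m, q ^ i + q ^ m := Finset.sum_range_succ _ _
  have hS : 1 + q ≤ ∑ i ∈ range m, q ^ i := by
    have : range 2 ⊆ range m := Finset.range_mono hm
    refine le_trans ?_ (Finset.sum_le_sum_of_subset this)
    simp [Finset.sum_range_succ]
  generalize (∑ i ∈ range m, q ^ i) = S at *
  rw [hsucc] at hgm1 hsum
  have hp : 1 ≤ q ^ m := Nat.one_le_pow _ _ (by omega)
  set D := q ^ m - 1 + a with hD
  have hDq : D + 1 = q * S := by omega
  have hC' : C = (q * S + 1) * ((q - 1) * S) := by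
    refine Nat.eq_of_mul_eq_mul_right (by omega : 0 < q - 1) ?_
    rw [hC, ← hgm, ← hgm1]
    ring
  have hcop : ∀ x, x ∣ q * S → Nat.Coprime D x := by
    intro x hx
    refine Nat.Coprime.coprime_dvd_right hx ?_
    rw [← hDq]
    exact (Nat.coprime_self_add_right (n := 1)).2 (Nat.coprime_one_right _)
  rw [hC'] at hdvd
  have h1 := (Nat.Coprime.pow_right m (hcop q (dvd_mul_right _ _))).dvd_of_dvd_mul_right hdvd
  rw [← mul_assoc] at h1
  have h2 := (hcop S (dvd_mul_left _ _)).dvd_of_dvd_mul_right h1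
  rw [show q * S + 1 = D + 2 by omega, add_mul] at h2
  have h3 : D ∣ 2 * (q - 1) := (Nat.dvd_add_right (dvd_mul_right _ _)).1 h2
  have h4 := Nat.le_of_dvd (by omega) h3
  have h5 : q * (1 + q) ≤ q * S := Nat.mul_le_mul_left _ hS
  nlinarith

theorem isSquare_four (h : qq = 4) (x : F) : ∃ s : F, s ^ 2 = x :=
  ⟨x ^ 2, by rw [← pow_mul, show 2 * 2 = qq by omega]; exact FiniteField.pow_card x⟩

theorem exc_four_four {a : ℕ} (ha : a ≤ 4) (h : a = 0 ∨ 3 ≤ a) : ¬ 78 + a ∣ 342720 := by
  interval_cases a <;> norm_num at *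

theorem exc_five_two {a : ℕ} (ha : a ≤ 6) (h : a = 0 ∨ 3 ≤ a) : ¬ 22 + a ∣ 7440 := by
  interval_cases a <;> norm_num at *

theorem exc_five_three {a : ℕ} (ha : a ≤ 12) (h : a = 0 ∨ 8 ≤ a) : ¬ 106 + a ∣ 784080 := by
  interval_cases a <;> norm_num at *

/-- The lower bound. -/
theorem lower_bound (ψ : AddChar F ℂ) (hψ : ψ.IsPrimitive) : ∀ l : ℕ, ¬ IsExc (l + 3) qq →
    ∀ (V : Type) [AddCommGroup V] [Module ℂ V] [FiniteDimensional ℂ V]
      (ρ : Representation ℂ (SLn (l + 3)) V), ρ.IsIrreducible → 2 ≤ Module.finrank ℂ V →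
      lowDeg (l + 3) qq ≤ Module.finrank ℂ V := by
  intro l
  induction l with
  | zero =>
    intro hexc V _ _ _ ρ hρ hd
    by_contra hcon
    push Not at hcon
    have hq : 2 ≤ qq := Fintype.one_lt_card
    obtain ⟨a, ha, hdim, hle, hθ, hk, hnf⟩ := small_core ψ hψ ρ hd hcon
    obtain ⟨C, hC, hdvd⟩ := small_dvd ψ hψ ρ hd hcon
    have hgood := fun (c : F) (hc : c ≠ 0) => fixRep_root_good ψ ρ (good_of_not_exc hexc) hψ
      (fun c hc => by rw [character_emb_root_const ρ hc, hθ]) hk hc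
    set σ := fixRep (m := 2) ψ ρ
    obtain ⟨a', k', -, -, hdim', hθ'⟩ := exists_mult (m := 1) ψ σ hψ one_pos
      (θ := (a : ℂ) - (qq : ℂ)) (fun v hv => by
        have e : sh v = root (l := 0) (v 0) := act_ext fun x => by
          rw [act_sh, act_root]
          simp [dotProduct, Fin.tail]
        have hv0 : v 0 ≠ 0 := fun e => hv (funext fun i => by fin_cases i; exact e)
        rw [e, hgood _ hv0, pow_one])
    rw [ha, pow_one] at hdim'
    have hk1 : k' = 1 := by
      have hd' : (a : ℂ) = (a' : ℂ) + ((qq : ℂ) - 1) * k' := by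
        rw [hdim', Nat.cast_add, Nat.cast_mul, Nat.cast_sub (by omega : 1 ≤ qq), Nat.cast_one]
      have hne : (qq : ℂ) ≠ 0 := Nat.cast_ne_zero.2 (by omega)
      have : (k' : ℂ) = 1 := mul_left_cancel₀ hne (by linear_combination hθ' - hd')
      exact_mod_cast this
    subst hk1
    simp only [Finset.sum_range_succ, Finset.sum_range_zero, pow_zero, pow_one, zero_add] at hle
    have hcases : a + 1 = qq ∨ a = qq := by omega
    rw [hdim] at hdvd
    rcases hcases with e | e
    · -- a = q - 1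
      have hne : qq ≠ 2 ∧ qq ≠ 4 :=
        ⟨fun e => hexc (Or.inl (by rw [e])), fun e => hexc (Or.inr (Or.inl (by rw [e])))⟩
      have h10 : qq ≠ 10 := by
        intro h10
        obtain ⟨p, n, hp, hn, hpn⟩ := (isPrimePow_nat_iff qq).1 (FiniteField.isPrimePow_card F)
        have h2 := (Nat.prime_dvd_prime_iff_eq Nat.prime_two hp).1
          (Nat.prime_two.dvd_of_dvd_pow (by rw [hpn, h10]; norm_num : 2 ∣ p ^ n))
        have h5 := (Nat.prime_dvd_prime_iff_eq (by norm_num : Nat.Prime 5) hp).1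
          ((by norm_num : Nat.Prime 5).dvd_of_dvd_pow (by rw [hpn, h10]; norm_num : 5 ∣ p ^ n))
        omega
      generalize qq = q at *
      obtain ⟨r, rfl⟩ : ∃ r, q = r + 2 := ⟨q - 2, by omega⟩
      obtain rfl : a = r + 1 := by omega
      have e1 : (r + 2) ^ 2 - 1 + (r + 1) = (r + 1) * (r + 4) := by
        have : (r + 2) ^ 2 = (r + 1) * (r + 3) + 1 := by ring
        rw [show 0 + 2 = 2 from rfl] at *
        rw [this, Nat.add_sub_cancel]
        ring
      have e2 : C = (r + 1) * ((r + 2) ^ 2 + (r + 2) + 1) * (r + 3) := by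
        refine Nat.eq_of_mul_eq_mul_right (by omega : 0 < r + 2 - 1) ?_
        rw [hC, show r + 2 - 1 = r + 1 by omega]
        have h3 : (r + 2) ^ (0 + 3) - 1 = (r + 1) * ((r + 2) ^ 2 + (r + 2) + 1) :=
          Nat.sub_eq_of_eq_add (by ring)
        have h2 : (r + 2) ^ (0 + 2) - 1 = (r + 1) * (r + 3) := Nat.sub_eq_of_eq_add (by ring)
        rw [h3, h2]; ring
      rw [zero_add, e1, e2, mul_assoc, mul_assoc] at hdvd
      have h5 : r + 4 ∣ ((r + 2) ^ 2 + (r + 2) + 1) * ((r + 3) * (r + 2) ^ 2) :=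
        Nat.dvd_of_mul_dvd_mul_left (by omega) hdvd
      have h6 : r + 4 ∣ ((r + 2) ^ 2 + (r + 2) + 1) * ((r + 3) * (r + 2) ^ 2) + 12 := by
        have h7 : ((r + 4 : ℕ) : ℤ) ∣ ((((r + 2) ^ 2 + (r + 2) + 1) * ((r + 3) * (r + 2) ^ 2) + 12 : ℕ) : ℤ) :=
          ⟨((r : ℤ) + 2) ^ 4 + 2 * ((r : ℤ) + 2) ^ 2 - 3 * ((r : ℤ) + 2) + 6, by push_cast; ring⟩
        exact Int.natCast_dvd_natCast.1 h7
      have h8 := (Nat.dvd_add_right h5).1 h6
      have h9 := Nat.le_of_dvd (by norm_num) h8
      have h11 : r ≤ 8 := by omega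
      interval_cases r <;> omega
    · exact no_large_divisor hq le_rfl hC (by simp [Finset.sum_range_succ]; omega) hdvd
  | succ j ih =>
    intro hexc V _ _ _ ρ hρ hd
    by_contra hcon
    push Not at hcon
    have hq : 2 ≤ qq := Fintype.one_lt_card
    obtain ⟨a, ha, hdim, hle, hθ, hk, hnf⟩ := small_core ψ hψ ρ hd hcon
    obtain ⟨C, hC, hdvd⟩ := small_dvd ψ hψ ρ hd hcon
    rw [hdim] at hdvd
    have hgood := fun (c : F) (hc : c ≠ 0) => fixRep_root_good ψ ρ (good_of_not_exc hexc) hψ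
      (fun c hc => by rw [character_emb_root_const ρ hc, hθ]) hk hc
    set σ := fixRep (m := j + 1 + 2) ψ ρ
    obtain ⟨hirr, hage⟩ := irreducible_of_jump_one ψ hψ σ hnf (by
      rw [hgood 1 one_ne_zero, ha]; ring)
    rw [ha] at hage
    have h4 : 4 ≤ qq ^ (j + 2) := calc
      4 ≤ qq ^ 2 := by nlinarith
      _ ≤ qq ^ (j + 2) := Nat.pow_le_pow_right (by omega) (by omega)
    by_cases hbig : lowDeg (j + 3) qq ≤ a
    · rw [lowDeg_succ hq (j + 2)] at hbig
      have hsucc : ∑ i ∈ range (j + 3), qq ^ i = qq * ∑ i ∈ range (j + 2), qq ^ i + 1 := geom_sum_succ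
      exact no_large_divisor hq (by omega : 2 ≤ j + 3) hC (by
        change a + 1 ≤ ∑ i ∈ range (j + 3), qq ^ i at hle
        omega) hdvd
    push Not at hbig
    have hexc' : IsExc (j + 3) qq := by
      by_contra hne
      have := ih hne _ σ hirr (by rw [ha]; omega)
      rw [ha] at this
      omega
    rcases hexc' with e | e | e | e <;> simp only [Prod.mk.injEq] at e <;> obtain ⟨e1, e2⟩ := e
    · exact hexc (Or.inr (Or.inr (Or.inl (by rw [e2, show j = 0 by omega]))))
    · obtain rfl : j = 0 := by omega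
      obtain ⟨a', hdim', hcase⟩ := small_dichotomy ψ hψ (fun _ => isSquare_four e2) σ
        (by rw [ha]; omega) (by rw [ha]; exact hbig)
      rw [ha] at hdim'
      rw [e2] at hC hdvd hdim' hcase hbig
      norm_num [lowDeg] at hC hdvd hdim' hcase hbig
      obtain rfl : C = 5355 := by omega
      exact exc_four_four (by omega : a' ≤ 4) (by omega) (by
        rw [show 78 + a' = 63 + a by omega]; exact hdvd.trans (by norm_num))
    · obtain rfl : j = 1 := by omega
      obtain ⟨a', hdim', hcase⟩ := small_dichotomy ψ hψ (fun h => absurd h one_ne_zero) σ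
        (by rw [ha]; omega) (by rw [ha]; exact hbig)
      rw [ha] at hdim'
      rw [e2] at hC hdvd hdim' hcase hbig
      norm_num [lowDeg] at hC hdvd hdim' hcase hbig
      exact exc_five_two (by omega : a' ≤ 6) (by omega) (by
        rw [show 22 + a' = 15 + a by omega]; exact hdvd.trans (by rw [hC]))
    · obtain rfl : j = 1 := by omega
      obtain ⟨a', hdim', hcase⟩ := small_dichotomy ψ hψ (fun h => absurd h one_ne_zero) σ
        (by rw [ha]; omega) (by rw [ha]; exact hbig)
      rw [ha] at hdim'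
      rw [e2] at hC hdvd hdim' hcase hbig
      norm_num [lowDeg] at hC hdvd hdim' hcase hbig
      obtain rfl : C = 9680 := by omega
      exact exc_five_three (by omega : a' ≤ 12) (by omega) (by
        rw [show 106 + a' = 80 + a by omega]; exact hdvd.trans (by norm_num))

/-- A representation of the smallest degree. -/
theorem exists_lowDeg_rep {n : ℕ} (hn : 3 ≤ n) :
    ∃ ρ : Representation ℂ (SLn n) (Fin (lowDeg n qq) → ℂ), ρ.IsIrreducible := by
  classical
  have : NeZero n := ⟨by omega⟩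
  obtain ⟨χ, hirr, -, -, hdeg⟩ := exists_perm_decomposition (F := F) hn
  obtain ⟨k, ρ, hρ, hχ⟩ := hirr 1
  have hk : k = lowDeg n qq := by
    have h1 := congrFun hχ 1
    rw [Representation.char_one, hdeg, if_pos rfl, Module.finrank_fin_fun] at h1
    have h2 := linePerm_one_mul (F := F) (n := n) (by omega) 1
    have hq : 2 ≤ qq := Fintype.one_lt_card
    have hp : qq ≤ qq ^ n := Nat.le_self_pow (by omega) _
    have h3 : (qq - 1) * k = qq ^ n - qq := by
      refine Nat.cast_injective (R := ℂ) ?_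
      rw [Nat.cast_mul, Nat.cast_sub (by omega : 1 ≤ qq), Nat.cast_sub hp, Nat.cast_pow, Nat.cast_one, h1,
        mul_sub, h2]
      ring
    rw [lowDeg, ← h3, Nat.mul_div_cancel_left _ (by omega)]
  subst hk
  exact ⟨ρ, hρ⟩

end Cfsg.Agent.H53
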