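import Cfsg.Agent.H53.SLRootProj
import Cfsg.Agent.CharBasic.Decompose
import Cfsg.Agent.CharBasic.Integral
import Cfsg.Agent.Linear.Generation

/-!
Complex representations of SL(n, q): fixed vectors of point stabilisers and root elements.
-/

set_option autoImplicit false
set_option linter.unusedSectionVars false

namespace Cfsg.Agent.H53

open Matrix Finset
open scoped ComplexConjugate
open Matrix.SpecialLinearGroup (transvection)

variable {F : Type*} [Field F] [Fintype F] [DecidableEq F]

local notation "qq" => Fintype.card F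

/-- All non-identity elements of the radical have the same trace (n at least 3). -/
theorem character_sh {m : ℕ} (hm : 2 ≤ m) {V : Type*} [AddCommGroup V] [Module ℂ V]
    (ρ : Representation ℂ (Matrix.SpecialLinearGroup (Fin (m + 1)) F) V)
    {u φ : Fin (m + 1) → F} (h : φ ⬝ᵥ u = 0) (hu : u ≠ 0) (hφ : φ ≠ 0) {v : Fin m → F}
    (hv : v ≠ 0) : ρ.character (sh v) = ρ.character (tvec u φ h) := by
  have hc := isConj_tvec (by omega : 3 ≤ m + 1) h
    (φ' := Fin.cons 0 v) (u' := Pi.single 0 1) (by simp [dotProduct_single]) hu hφ (by simp)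
    (fun e => hv (funext fun i => by simpa using congrFun e i.succ))
  obtain ⟨g, hg⟩ := isConj_iff.1 hc
  rw [sh, ← hg, Representation.char_conj]

/-- If one transvection acts trivially, everything does. -/
theorem eq_one_of_transvection {n : ℕ} (hn : 3 ≤ n) {V : Type*} [AddCommGroup V] [Module ℂ V]
    (ρ : Representation ℂ (Matrix.SpecialLinearGroup (Fin n) F) V) {u φ : Fin n → F}
    (h : φ ⬝ᵥ u = 0) (hu : u ≠ 0) (hφ : φ ≠ 0) (h1 : ρ (tvec u φ h) = 1)
    (g : Matrix.SpecialLinearGroup (Fin n) F) : ρ g = 1 := by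
  induction g using Linear.transvection_induction with
  | one => exact map_one ρ
  | htr i j hij c =>
    rcases eq_or_ne c 0 with rfl | hc
    · rw [show transvection hij (0 : F) = 1 from act_ext fun x => by
        rw [transvection_eq_tvec, act_tvec, act_one, Pi.single_zero, zero_dotProduct, zero_smul,
          add_zero], map_one]
    obtain ⟨g, hg⟩ := isConj_iff.1 (isConj_tvec hn h (u' := Pi.single i 1) (φ' := Pi.single j c)
      (by rw [single_dotProduct, Pi.single_eq_of_ne hij.symm, mul_zero]) hu hφ (by simp)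
      (by simp [hc]))
    rw [transvection_eq_tvec, ← hg, map_mul, map_mul, h1, mul_one, ← map_mul, mul_inv_cancel, map_one]
  | hmul A B hA hB => rw [map_mul, hA, hB, one_mul]

/-- The fixed vectors of a finite group of operators are counted by the trace sum. -/
theorem sum_character_ne_zero {G : Type*} [Group G] [Fintype G] {V : Type*} [AddCommGroup V]
    [Module ℂ V] [FiniteDimensional ℂ V] (ρ : Representation ℂ G V) {x : V} (hx : x ≠ 0)
    (hfix : ∀ g, ρ g x = x) : ∑ g, ρ.character g ≠ 0 := by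
  classical
  have hN : (Fintype.card G : ℂ) ≠ 0 := Nat.cast_ne_zero.2 Fintype.card_ne_zero
  have := invertibleOfNonzero hN
  have h := (Representation.isProj_averageMap ρ).trace
  have e : LinearMap.trace ℂ V ρ.averageMap = ⅟(Fintype.card G : ℂ) * ∑ g, ρ.character g := by
    rw [Representation.averageMap, GroupAlgebra.average, map_smul, map_sum, map_smul, map_sum,
      smul_eq_mul]
    congr 1
    exact Finset.sum_congr rfl fun g _ => by
      rw [MonoidAlgebra.of_apply, Representation.asAlgebraHom_single_one]; rfl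
  rw [e] at h
  intro h0
  rw [h0, mul_zero, eq_comm, Nat.cast_eq_zero, Submodule.finrank_eq_zero] at h
  have hmem : x ∈ ρ.invariants := hfix
  rw [h, Submodule.mem_bot] at hmem
  exact hx hmem

/-- A representation with a vector fixed by the stabiliser of a point has large degree. -/
theorem large_of_fixed {m : ℕ} (hm : 2 ≤ m) {V : Type*} [AddCommGroup V] [Module ℂ V]
    [FiniteDimensional ℂ V] (ρ : Representation ℂ (Matrix.SpecialLinearGroup (Fin (m + 1)) F) V)
    [ρ.IsIrreducible] (hd : 2 ≤ Module.finrank ℂ V) {x : V} (hx : x ≠ 0)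
    (hsh : ∀ v : Fin m → F, ρ (sh v) x = x) (hemb : ∀ A, ρ (emb A) x = x) :
    (qq ^ (m + 1) - qq) / (qq - 1) ≤ Module.finrank ℂ V := by
  classical
  have hq : 2 ≤ qq := Fintype.one_lt_card
  let S : Subgroup (Matrix.SpecialLinearGroup (Fin (m + 1)) F) :=
    { carrier := {g | act g (evec (m + 1) F) = evec (m + 1) F}
      one_mem' := act_one _
      mul_mem' := fun {a b} ha hb => by
        rw [Set.mem_ofPred_eq] at ha hb ⊢
        rw [act_mul, hb, ha]
      inv_mem' := fun {a} ha => ((act_inv a _ _).1 ha).symm }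
  have hmem : ∀ g, g ∈ S ↔ act g (evec (m + 1) F) = evec (m + 1) F := fun g => Iff.rfl
  let σ : Representation ℂ S V := ρ.comp S.subtype
  have hfix : ∀ g : S, σ g x = x := by
    rintro ⟨g, hg⟩
    show ρ g x = x
    set M : Matrix (Fin (m + 1)) (Fin (m + 1)) F := g.1
    have hcol : ∀ i, M i 0 = if i = 0 then 1 else 0 := fun i => by
      have h1 : M.mulVec (evec (m + 1) F) = evec (m + 1) F := (hmem g).1 hg
      have := congrFun h1 i
      simpa [evec, Pi.single_apply] using this
    let A : Matrix (Fin m) (Fin m) F := M.submatrix Fin.succ Fin.succ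
    have hM : ∀ y, M *ᵥ y = Fin.cons (y 0 + (fun j : Fin m => M 0 j.succ) ⬝ᵥ Fin.tail y)
        (A *ᵥ Fin.tail y) := by
      intro y
      ext i
      refine Fin.cases ?_ (fun i => ?_) i
      · simp [mulVec, dotProduct, Fin.sum_univ_succ, hcol, Fin.tail]
      · simp [mulVec, dotProduct, Fin.sum_univ_succ, hcol, Fin.succ_ne_zero, Fin.tail, A]
    have hAdet : A.det = 1 := by
      have h1 : M.det = 1 := g.2
      rw [det_succ_column_zero, Finset.sum_eq_single 0] at h1
      · simpa [hcol, Fin.succAbove_zero, A] using h1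
      · intro b _ hb; simp [hcol, hb]
      · simp
    obtain ⟨A', hA'⟩ : ∃ A' : Matrix.SpecialLinearGroup (Fin m) F, A'.1 = A := ⟨⟨A, hAdet⟩, rfl⟩
    have hdec : g = sh ((fun j : Fin m => M 0 j.succ) ᵥ* A⁻¹) * emb A' := by
      refine act_ext fun y => ?_
      rw [act_mul, act_emb, act_sh, Fin.tail_cons]
      have hact : act A' (Fin.tail y) = A *ᵥ Fin.tail y := by rw [act, hA']
      rw [hact]
      show M *ᵥ y = _
      rw [hM, dotProduct_mulVec, vecMul_vecMul, nonsing_inv_mul _ (by rw [hAdet]; exact isUnit_one),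
        vecMul_one]
      ext i
      refine Fin.cases ?_ (fun i => ?_) i <;> simp [act, Pi.single_eq_of_ne (Fin.succ_ne_zero _)]
    rw [hdec, map_mul, Module.End.mul_apply, hemb, hsh]
  have hS := sum_character_ne_zero σ hx hfix
  -- the inner product with the permutation character
  have hin : Cfsg.classInner ρ.character (fixCount (n := m + 1) (F := F)) ≠ 0 := by
    have e : ∑ g, ρ.character g * conj (fixCount g) =
        ((Finset.univ.filter fun v : Fin (m + 1) → F => v ≠ 0).card : ℂ) *
          ∑ g : S, σ.character g := by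
      simp only [conj_fixCount]
      simp only [fixCount_eq_sum, Finset.mul_sum, mul_ite, mul_one, mul_zero]
      rw [Finset.sum_comm, Finset.sum_congr rfl (g := fun _ => ∑ g : S, σ.character g)
        fun v hv => ?_, Finset.sum_const, nsmul_eq_mul, Finset.mul_sum]
      rw [← Finset.sum_filter]
      obtain ⟨t, ht⟩ := exists_act_evec (n := m + 1) (by omega) (Finset.mem_filter.1 hv).2
      refine Finset.sum_bij' (fun g hg => ⟨t⁻¹ * g * t, ?_⟩) (fun s _ => t * s.1 * t⁻¹)
        (fun _ _ => Finset.mem_univ _) (fun s _ => ?_) (fun g _ => by simp [mul_assoc])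
        (fun s _ => Subtype.ext (by simp [mul_assoc])) (fun g hg => ?_)
      · rw [hmem, act_mul, act_mul, ht, (Finset.mem_filter.1 hg).2, ← ht, ← act_mul, inv_mul_cancel,
          act_one]
      · rw [Finset.mem_filter]
        refine ⟨Finset.mem_univ _, ?_⟩
        rw [← ht, ← act_mul, show t * s.1 * t⁻¹ * t = t * s.1 by group, act_mul, (hmem _).1 s.2]
      · show ρ.character g = ρ.character (t⁻¹ * g * t)
        conv_rhs => rw [show t⁻¹ * g * t = t⁻¹ * g * t⁻¹⁻¹ by rw [inv_inv]]
        rw [Representation.char_conj]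
    rw [Cfsg.classInner, e]
    refine mul_ne_zero (inv_ne_zero (Nat.cast_ne_zero.2 Nat.card_pos.ne')) (mul_ne_zero ?_ hS)
    exact Nat.cast_ne_zero.2 (Finset.card_ne_zero.2 ⟨evec (m + 1) F, by simp [evec_ne_zero]⟩)
  obtain ⟨χ, hirr, -, hsum, hdeg⟩ := exists_perm_decomposition (F := F) (n := m + 1) (by omega)
  have := Fintype.ofFinite (MulChar F ℂ)
  have hfun : fixCount (n := m + 1) (F := F) = (fun _ => (1 : ℂ)) + ∑ α, χ α := by
    funext g
    rw [Pi.add_apply, Finset.sum_apply, hsum g]
  have hirrρ := CharBasic.isIrrCharacter_character ρ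
  rw [hfun, CharBasic.classInner_add_right, CharBasic.classInner_sum_right] at hin
  have h1 : Cfsg.classInner ρ.character (fun _ : Matrix.SpecialLinearGroup (Fin (m + 1)) F => (1 : ℂ))
      = 0 := by
    refine CharBasic.classInner_irr_of_ne hirrρ CharBasic.isIrrCharacter_one fun e => ?_
    have := congrFun e 1
    rw [Representation.char_one] at this
    have h2 : Module.finrank ℂ V = 1 := by exact_mod_cast this
    omega
  rw [h1, zero_add] at hin
  obtain ⟨α, -, hα⟩ := Finset.exists_ne_zero_of_sum_ne_zero hin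
  have he : ρ.character = χ α := by
    by_contra hne
    exact hα (CharBasic.classInner_irr_of_ne hirrρ (hirr α) hne)
  have h2 := congrFun he 1
  rw [Representation.char_one, hdeg] at h2
  have h3 := linePerm_one_mul (F := F) (n := m + 1) (by omega) α
  have h4 : ((qq : ℂ) - 1) * ((Module.finrank ℂ V : ℂ) + if α = 1 then 1 else 0) =
      (qq : ℂ) ^ (m + 1) - 1 := by
    rw [h2, sub_add_cancel, h3]
  have hp1 : 1 ≤ qq ^ (m + 1) := Nat.one_le_pow _ _ (by omega)
  rw [Nat.div_le_iff_le_mul_add_pred (by omega)]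
  split_ifs at h4 with hα1
  · have h5 : (qq - 1) * (Module.finrank ℂ V + 1) = qq ^ (m + 1) - 1 := by
      refine Nat.cast_injective (R := ℂ) ?_
      rw [Nat.cast_mul, Nat.cast_sub (by omega : 1 ≤ qq), Nat.cast_sub hp1, Nat.cast_add, Nat.cast_pow,
        Nat.cast_one, h4]
    rw [mul_add, mul_one] at h5
    omega
  · rw [add_zero] at h4
    have h5 : (qq - 1) * Module.finrank ℂ V = qq ^ (m + 1) - 1 := by
      refine Nat.cast_injective (R := ℂ) ?_
      rw [Nat.cast_mul, Nat.cast_sub (by omega : 1 ≤ qq), Nat.cast_sub hp1, Nat.cast_pow, Nat.cast_one,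
        h4]
    omega

/-! ### Root elements in the Levi factor -/

section Root

variable {l : ℕ}

/-- The root element `I + λ E₀₁`. -/
def root (c : F) : Matrix.SpecialLinearGroup (Fin (l + 2)) F :=
  tvec (Pi.single 0 1) (Pi.single 1 c) (by simp [dotProduct_single])

theorem act_root (c : F) (x : Fin (l + 2) → F) :
    act (root c) x = x + (c * x 1) • Pi.single 0 1 := by
  rw [root, act_tvec, single_dotProduct]

theorem root_mul (a b : F) : (root a : Matrix.SpecialLinearGroup (Fin (l + 2)) F) * root b = root (a + b) := by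
  rw [root, root, tvec_mul_tvec, root]
  congr 1
  rw [← Pi.single_add]

theorem act_root_eq_iff {c : F} (hc : c ≠ 0) (y : Fin (l + 2) → F) :
    act (root c) y = y ↔ y 1 = 0 := by
  rw [act_root, add_eq_left, smul_eq_zero, mul_eq_zero]
  simp [hc]

/-- The parameters outside the four exceptions. -/
def Good (l : ℕ) (F : Type*) [Field F] : Prop :=
  (l = 0 → ∃ c : F, c ≠ 0 ∧ c ^ 3 ≠ 1) ∧ (l = 1 → ∃ a : F, a ≠ 0 ∧ a ^ 2 ≠ 1)

variable (ψ : AddChar F ℂ) {V : Type*} [AddCommGroup V] [Module ℂ V] [FiniteDimensional ℂ V]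
  (ρ : Representation ℂ (Matrix.SpecialLinearGroup (Fin (l + 2 + 1)) F) V)

theorem root_scaling_trivial (hψ : ψ.IsPrimitive) {y : Fin (l + 2) → F}
    (h1 : LinearMap.trace ℂ V (wproj ψ ρ y) = 1) (hy1 : y 1 = 0)
    {g : Matrix.SpecialLinearGroup (Fin (l + 2 + 1)) F}
    (hg : ρ g * wproj ψ ρ y = wproj ψ ρ y * ρ g) {k : F} (hk : k ≠ 1)
    (hconj : ∀ c : F, g * emb (root c) = emb (root (k * c)) * g) (c : F) :
    ρ (emb (root c)) * wproj ψ ρ y = wproj ψ ρ y := by
  have hy : ∀ c : F, act (root c) y = y := fun c => by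
    rw [act_root, hy1, mul_zero, zero_smul, add_zero]
  have hw : ∀ c, ∃ w, ρ (emb (root c)) * wproj ψ ρ y = w • wproj ψ ρ y := fun c =>
    exists_scalar_of_rank_one ψ ρ hψ h1 (by rw [emb_mul_wproj, hy])
  choose w hw using hw
  obtain ⟨a, ha⟩ := exists_scalar_of_rank_one ψ ρ hψ h1 hg
  have ha0 := scalar_ne_zero ψ ρ hψ h1 ha
  have hinv : ∀ c, w (k * c) = w c := by
    intro c
    have h : ρ (g * emb (root c)) * wproj ψ ρ y = ρ (emb (root (k * c)) * g) * wproj ψ ρ y := by
      rw [hconj]
    simp only [map_mul, mul_assoc, hw, ha, mul_smul_comm, smul_smul] at h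
    exact mul_left_cancel₀ ha0 (by linear_combination -(scalar_unique ψ ρ h1 h))
  have hadd : ∀ b c, w (b + c) = w b * w c := by
    intro b c
    refine scalar_unique ψ ρ h1 ?_
    rw [← hw, ← root_mul, map_mul, map_mul, mul_assoc, hw, mul_smul_comm, hw, smul_smul, mul_comm]
  have h2 : ∀ c, w c = 1 := by
    intro c
    obtain ⟨b, rfl⟩ : ∃ b, (k - 1) * b = c :=
      ⟨(k - 1)⁻¹ * c, by rw [← mul_assoc, mul_inv_cancel₀ (sub_ne_zero.2 hk), one_mul]⟩
    have h3 := hadd ((k - 1) * b) b
    rw [show (k - 1) * b + b = k * b by ring, hinv] at h3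
    exact (mul_eq_right₀ (scalar_ne_zero ψ ρ hψ h1 (hw b))).1 h3.symm
  rw [hw, h2, one_smul]

theorem root_comm_trivial (hψ : ψ.IsPrimitive) {y : Fin (l + 2) → F}
    (h1 : LinearMap.trace ℂ V (wproj ψ ρ y) = 1) (hy1 : y 1 = 0) (c : F)
    {α w : Fin (l + 2) → F} (hα0 : α 0 = 0) (hαy : α ⬝ᵥ y = 0) (hαw : α ⬝ᵥ w = 1) (hw1 : w 1 = 0) :
    ρ (emb (root c)) * wproj ψ ρ y = wproj ψ ρ y := by
  let g : Matrix.SpecialLinearGroup (Fin (l + 2)) F :=
    tvec (Pi.single 0 1) (c • α) (by simp [dotProduct_single, hα0])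
  let h : Matrix.SpecialLinearGroup (Fin (l + 2)) F :=
    tvec w (Pi.single 1 1) (by simp [single_dotProduct, hw1])
  have hgy : act g y = y := by
    rw [act_tvec, smul_dotProduct, hαy, smul_zero, zero_smul, add_zero]
  have hhy : act h y = y := by
    rw [act_tvec, single_dotProduct, hy1, mul_zero, zero_smul, add_zero]
  refine commutator_trivial ψ ρ hψ h1 (g := emb g) (h := emb h) (by rw [emb_mul_wproj, hgy])
    (by rw [emb_mul_wproj, hhy]) ?_
  rw [← map_mul, ← map_mul, ← map_mul]
  congr 1
  refine act_ext fun x => ?_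
  have e0 : (Pi.single 0 1 : Fin (l + 2) → F) 1 = 0 := Pi.single_eq_of_ne (by simp) _
  simp only [g, h, act_mul, act_tvec, act_root, single_dotProduct, one_mul, smul_dotProduct,
    smul_eq_mul, dotProduct_add, dotProduct_smul, hαw, Pi.add_apply, Pi.smul_apply, e0, hw1, mul_zero,
    mul_one, add_zero]
  module

/-- Outside the exceptions root elements of the Levi factor act trivially on their fixed weight spaces. -/
theorem root_trivial (hgood : Good l F) (hψ : ψ.IsPrimitive) {y : Fin (l + 2) → F}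
    (h1 : LinearMap.trace ℂ V (wproj ψ ρ y) = 1) (hy1 : y 1 = 0) (c : F) :
    ρ (emb (root c)) * wproj ψ ρ y = wproj ψ ρ y := by
  rcases Nat.lt_or_ge l 1 with hl | hl
  · obtain rfl : l = 0 := by omega
    obtain ⟨a, ha, ha3⟩ := hgood.1 rfl
    let A : Matrix (Fin 2) (Fin 2) F := Matrix.diagonal ![a, (a ^ 2)⁻¹]
    have hA : a * A.det = 1 := by
      simp [A, Matrix.det_diagonal, Fin.prod_univ_two]
      field_simp
    refine root_scaling_trivial ψ ρ hψ h1 hy1 (g := blk a A hA) ?_ ha3 (fun c => ?_) c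
    · rw [blk_mul_wproj]
      congr 2
      ext i
      fin_cases i
      · simp [A, Matrix.mulVec_diagonal]; field_simp
      · simp [A, Matrix.mulVec_diagonal, hy1]
    · refine act_ext fun x => ?_
      rw [act_mul, act_mul, act_blk, act_blk, act_emb, act_emb, act_root, act_root]
      ext i
      refine Fin.cases ?_ (fun i => ?_) i
      · simp
      · simp only [Fin.tail_cons, Fin.cons_zero, Fin.cons_succ]
        fin_cases i
        · simp [A, Matrix.mulVec_diagonal, Fin.tail]; field_simp
        · simp [A, Matrix.mulVec_diagonal, Fin.tail]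
  have h20 : (⟨2, by omega⟩ : Fin (l + 2)) ≠ 0 := by simp [Fin.ext_iff]
  have h21 : (⟨2, by omega⟩ : Fin (l + 2)) ≠ 1 := by simp [Fin.ext_iff, Nat.mod_eq_of_lt (show 1 < l + 2 by omega)]
  set i2 : Fin (l + 2) := ⟨2, by omega⟩
  by_cases hy2 : y i2 = 0
  · exact root_comm_trivial ψ ρ hψ h1 hy1 c (α := Pi.single i2 1) (w := Pi.single i2 1)
      (Pi.single_eq_of_ne h20.symm _) (by rw [single_dotProduct, hy2, mul_zero])
      (by rw [single_dotProduct, Pi.single_eq_same, mul_one]) (Pi.single_eq_of_ne h21.symm _)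
  rcases Nat.lt_or_ge l 2 with hl2 | hl2
  · obtain rfl : l = 1 := by omega
    obtain ⟨a, ha, ha2⟩ := hgood.2 rfl
    let A : Matrix (Fin 3) (Fin 3) F := !![a, 0, (1 - a) * y 0 / y 2; 0, a⁻¹, 0; 0, 0, 1]
    have hA : A.det = 1 := by
      simp [A, Matrix.det_fin_three, mul_inv_cancel₀ ha]
    have hy2' : y 2 ≠ 0 := hy2
    obtain ⟨A', hA'⟩ : ∃ A' : Matrix.SpecialLinearGroup (Fin (1 + 2)) F, A'.1 = A := ⟨⟨A, hA⟩, rfl⟩
    refine root_scaling_trivial ψ ρ hψ h1 hy1 (g := emb A') ?_ ha2 (fun c => ?_) c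
    · rw [emb_mul_wproj]
      congr 2
      ext i
      fin_cases i <;> simp [act, hA', A, mulVec, dotProduct, Fin.sum_univ_three, hy1] <;> field_simp <;> ring
    · rw [← map_mul, ← map_mul]
      congr 1
      refine act_ext fun x => ?_
      rw [act_mul, act_mul, act_root, act_root]
      ext i
      fin_cases i <;> simp [act, hA', A, mulVec, dotProduct, Fin.sum_univ_three] <;> field_simp <;> ring
  · have h30 : (⟨3, by omega⟩ : Fin (l + 2)) ≠ 0 := by simp [Fin.ext_iff]
    have h31 : (⟨3, by omega⟩ : Fin (l + 2)) ≠ 1 := by simp [Fin.ext_iff, Nat.mod_eq_of_lt (show 1 < l + 2 by omega)]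
    set i3 : Fin (l + 2) := ⟨3, by omega⟩
    have h32 : i3 ≠ i2 := by simp [i2, i3, Fin.ext_iff]
    refine root_comm_trivial ψ ρ hψ h1 hy1 c
      (α := Pi.single i3 1 - Pi.single i2 (y i3 / y i2)) (w := Pi.single i3 1) ?_ ?_ ?_
      (Pi.single_eq_of_ne h31.symm _)
    · simp [Pi.single_eq_of_ne h20.symm, Pi.single_eq_of_ne h30.symm]
    · rw [sub_dotProduct, single_dotProduct, single_dotProduct, one_mul, div_mul_cancel₀ _ hy2, sub_self]
    · rw [dotProduct_single, mul_one, Pi.sub_apply, Pi.single_eq_same, Pi.single_eq_of_ne h32, sub_zero]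

theorem card_fixed_root : (Finset.univ.filter fun y : Fin (l + 2) → F => y 1 = 0).card = qq ^ (l + 1) := by
  classical
  rw [show (Finset.univ.filter fun y : Fin (l + 2) → F => y 1 = 0) =
      Fintype.piFinset (fun i => if i = 1 then ({0} : Finset F) else Finset.univ) from ?_,
    Fintype.card_piFinset]
  · rw [Finset.prod_eq_prod_sdiff_singleton_mul (Finset.mem_univ (1 : Fin (l + 2))), if_pos rfl,
      Finset.card_singleton, mul_one, Finset.prod_congr rfl (g := fun _ => qq) (fun i hi => by
        rw [if_neg (by simpa using hi), Finset.card_univ]), Finset.prod_const]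
    congr 1
    simp [Finset.card_sdiff]
  · ext y
    simp only [Finset.mem_filter, Finset.mem_univ, true_and, Fintype.mem_piFinset]
    refine ⟨fun h i => ?_, fun h => by simpa using h 1⟩
    split_ifs with hi
    · subst hi; simpa using h
    · exact Finset.mem_univ _

/-- The trace of a root element of the Levi factor. -/
theorem character_emb_root (hψ : ψ.IsPrimitive) {c : F} (hc : c ≠ 0) :
    ρ.character (emb (root c)) = (fixRep ψ ρ).character (root c) +
      ∑ y ∈ (Finset.univ.filter fun y : Fin (l + 2) → F => y 1 = 0).erase 0,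
        LinearMap.trace ℂ V (ρ (emb (root c)) * wproj ψ ρ y) := by
  classical
  rw [character_emb_eq ψ ρ hψ, fixRep_character ψ ρ hψ,
    Finset.add_sum_erase _ (fun y => LinearMap.trace ℂ V (ρ (emb (root c)) * wproj ψ ρ y))
      (by simp : (0 : Fin (l + 2) → F) ∈ Finset.univ.filter fun y : Fin (l + 2) → F => y 1 = 0)]
  refine (Finset.sum_subset (Finset.subset_univ _) fun y _ hy => ?_).symm
  exact trace_emb_wproj_of_moved ψ ρ hψ fun h => hy (by simpa [act_root_eq_iff hc] using h)

/-- Outside the exceptions the trace on the fixed space is determined. -/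
theorem fixRep_root_good (hgood : Good l F) (hψ : ψ.IsPrimitive) {a : ℕ}
    (hθ : ∀ c : F, c ≠ 0 → ρ.character (emb (root c)) = (a : ℂ) - 1)
    (hk : ∀ y, y ≠ 0 → LinearMap.trace ℂ V (wproj ψ ρ y) = 1) {c : F} (hc : c ≠ 0) :
    (fixRep ψ ρ).character (root c) = (a : ℂ) - (qq : ℂ) ^ (l + 1) := by
  classical
  have h := character_emb_root ψ ρ hψ hc
  rw [hθ c hc, Finset.sum_congr rfl (g := fun _ => (1 : ℂ)) (fun y hy => ?_), Finset.sum_const,
    Finset.card_erase_of_mem (by simp), card_fixed_root, nsmul_eq_mul, mul_one,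
    Nat.cast_sub (Nat.one_le_pow _ _ Fintype.card_pos), Nat.cast_pow, Nat.cast_one] at h
  · linear_combination -h
  · rw [Finset.mem_erase, Finset.mem_filter] at hy
    rw [root_trivial ψ ρ hgood hψ (hk y hy.1) hy.2.2, hk y hy.1]

/-- In general the trace differs from `a - 1` by at most the number of fixed weights. -/
theorem fixRep_root_bound (hψ : ψ.IsPrimitive) {a : ℕ}
    (hθ : ∀ c : F, c ≠ 0 → ρ.character (emb (root c)) = (a : ℂ) - 1)
    (hk : ∀ y, y ≠ 0 → LinearMap.trace ℂ V (wproj ψ ρ y) = 1) {c : F} (hc : c ≠ 0) :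
    ‖(a : ℂ) - 1 - (fixRep ψ ρ).character (root c)‖ ≤ (qq : ℝ) ^ (l + 1) - 1 := by
  classical
  have h := character_emb_root ψ ρ hψ hc
  rw [hθ c hc] at h
  rw [h, add_sub_cancel_left]
  refine (norm_sum_le _ _).trans ?_
  refine (Finset.sum_le_card_nsmul _ _ 1 fun y hy => ?_).trans ?_
  · rw [Finset.mem_erase, Finset.mem_filter] at hy
    have hfix : act (root c) y = y := (act_root_eq_iff hc y).2 hy.2.2
    have hcomm : Commute (ρ (emb (root c))) (wproj ψ ρ y) := by
      show _ * _ = _ * _
      rw [emb_mul_wproj, hfix]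
    obtain ⟨w, hw⟩ := exists_scalar_of_rank_one ψ ρ hψ (hk y hy.1) hcomm.eq
    rw [hw, map_smul, hk y hy.1, smul_eq_mul, mul_one]
    have hpow : ∀ j : ℕ, ρ (emb (root c)) ^ j * wproj ψ ρ y = w ^ j • wproj ψ ρ y := by
      intro j
      induction j with
      | zero => simp
      | succ j ih => rw [pow_succ, mul_assoc, hw, mul_smul_comm, ih, smul_smul, ← pow_succ']
    have h1 := hpow (orderOf (emb (root (l := l) c)))
    rw [← map_pow, pow_orderOf_eq_one, map_one, one_mul] at h1
    have h2 : w ^ orderOf (emb (root (l := l) c)) = 1 :=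
      scalar_unique ψ ρ (hk y hy.1) (by rw [← h1, one_smul])
    exact (Complex.norm_eq_one_of_pow_eq_one h2 (orderOf_pos _).ne').le
  · rw [Finset.card_erase_of_mem (by simp), card_fixed_root, nsmul_eq_mul, mul_one,
      Nat.cast_sub (Nat.one_le_pow _ _ Fintype.card_pos), Nat.cast_pow, Nat.cast_one]

end Root

end Cfsg.Agent.H53
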