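import Cfsg.Agent.H53.IndTools
import Cfsg.Agent.CharInduce.Ops

/-!
The permutation character of SLₙ on the non-zero vectors and its decomposition by scalar characters.
-/

set_option autoImplicit false
set_option linter.unusedSectionVars false

namespace Cfsg.Agent.H53

open Matrix Finset
open scoped ComplexConjugate

/-- Characters whose sum has norm equal to their number are irreducible and pairwise orthogonal. -/
theorem orth_of_norm_eq_card {G : Type*} [Group G] [Fintype G] {ι : Type*} [Fintype ι]
    (χ : ι → G → ℂ) (hχ : ∀ i, Cfsg.IsCharacter G (χ i)) (h0 : ∀ i, χ i ≠ 0)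
    (hn : Cfsg.classInner (∑ i, χ i) (∑ i, χ i) = (Fintype.card ι : ℂ)) :
    (∀ i, Cfsg.IsIrrCharacter G (χ i)) ∧ Function.Injective χ := by
  classical
  choose n hn' using fun i j => CharBasic.classInner_isChar_nat (hχ i) (hχ j)
  have hdiag : ∀ i, 1 ≤ n i i := by
    intro i
    rcases Nat.eq_zero_or_pos (n i i) with h | h
    · exact absurd (CharBasic.classInner_self_eq_zero.mp (by rw [hn', h, Nat.cast_zero])) (h0 i)
    · exact h
  have hsum : ∑ i, ∑ j, n i j = Fintype.card ι := by
    rw [CharBasic.classInner_sum_left] at hn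
    simp only [CharBasic.classInner_sum_right, hn'] at hn
    exact_mod_cast hn
  have hrow : ∀ i, ∑ j, n i j = 1 := by
    have hle : ∀ i ∈ (Finset.univ : Finset ι), 1 ≤ ∑ j, n i j := fun i _ =>
      (hdiag i).trans (Finset.single_le_sum (fun j _ => Nat.zero_le (n i j)) (Finset.mem_univ i))
    have h1 : ∑ _i : ι, 1 = ∑ i, ∑ j, n i j := by
      rw [hsum, Finset.sum_const, Finset.card_univ, smul_eq_mul, mul_one]
    exact fun i => ((Finset.sum_eq_sum_iff_of_le hle).mp h1 i (Finset.mem_univ i)).symm
  have hii : ∀ i, n i i = 1 := fun i =>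
    le_antisymm ((Finset.single_le_sum (fun j _ => Nat.zero_le (n i j)) (Finset.mem_univ i)).trans
      (hrow i).le) (hdiag i)
  refine ⟨fun i => CharInduce.isIrr_of_norm_one (hχ i) (by rw [hn', hii, Nat.cast_one]),
    fun i j e => ?_⟩
  by_contra hne
  have hij : n i j = 1 := by
    have : (n i j : ℂ) = (n i i : ℂ) := by rw [← hn', ← hn', e]
    rw [hii] at this
    exact_mod_cast this
  have h2 := Finset.sum_le_univ_sum_of_nonneg (f := n i) (fun k => Nat.zero_le _) (s := {i, j})
  rw [Finset.sum_pair hne, hii, hij, hrow] at h2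
  omega

variable {F : Type*} [Field F] [Fintype F] [DecidableEq F] {n : ℕ}

local notation "SL" => Matrix.SpecialLinearGroup (Fin n) F

/-- The action of SLₙ on vectors. -/
def act (g : Matrix.SpecialLinearGroup (Fin n) F) (v : Fin n → F) : Fin n → F :=
  (g : Matrix (Fin n) (Fin n) F).mulVec v

theorem act_mul (g h : SL) (v : Fin n → F) : act (g * h) v = act g (act h v) := by
  simp [act, Matrix.mulVec_mulVec]

theorem act_one (v : Fin n → F) : act (1 : SL) v = v := by simp [act]

theorem act_inv (g : SL) (v w : Fin n → F) : act g v = w ↔ v = act g⁻¹ w := by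
  constructor
  · rintro rfl
    rw [← act_mul, inv_mul_cancel, act_one]
  · rintro rfl
    rw [← act_mul, mul_inv_cancel, act_one]

theorem act_smul (g : SL) (c : F) (v : Fin n → F) : act g (c • v) = c • act g v :=
  Matrix.mulVec_smul _ _ _

theorem act_ne_zero (g : SL) {v : Fin n → F} (hv : v ≠ 0) : act g v ≠ 0 := by
  intro e
  rw [act_inv] at e
  exact hv (e.trans (by simp [act]))

theorem exists_li_extend {k : ℕ} (f : Fin k → Fin n → F) (hf : LinearIndependent F f)
    (hk : k ≤ n) : ∃ g : Fin n → Fin n → F, LinearIndependent F g ∧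
      ∀ i : Fin k, g (Fin.castLE hk i) = f i := by
  obtain ⟨d, hd⟩ : ∃ d, d + k = n := ⟨n - k, by omega⟩
  induction d generalizing k with
  | zero =>
    obtain rfl : k = n := by omega
    exact ⟨f, hf, fun i => by simp⟩
  | succ d ih =>
    obtain ⟨x, hx⟩ := exists_linearIndependent_snoc_of_lt_finrank hf
      (by rw [Module.finrank_fin_fun]; omega)
    obtain ⟨g, hg, hgi⟩ := ih (Fin.snoc f x) hx (by omega) (by omega)
    refine ⟨g, hg, fun i => ?_⟩
    have := hgi i.castSucc
    rw [Fin.snoc_castSucc] at this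
    rw [← this]
    rfl

/-- SLₙ is transitive on short linearly independent families. -/
theorem exists_act_eq {k : ℕ} (f : Fin k → Fin n → F) (hf : LinearIndependent F f) (hk : k < n) :
    ∃ g : SL, ∀ i : Fin k, act g (Pi.single (Fin.castLE hk.le i) 1) = f i := by
  obtain ⟨b, hb, hbi⟩ := exists_li_extend f hf hk.le
  set M : Matrix (Fin n) (Fin n) F := (Matrix.of b)ᵀ with hM
  have hu : IsUnit M := Matrix.linearIndependent_cols_iff_isUnit.mp (by simpa [hM] using hb)
  have hdet : M.det ≠ 0 := isUnit_iff_ne_zero.mp ((Matrix.isUnit_iff_isUnit_det M).mp hu)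
  set D : Fin n → F := fun j => if (j : ℕ) = k then M.det⁻¹ else 1 with hD
  refine ⟨⟨M * Matrix.diagonal D, ?_⟩, fun i => ?_⟩
  · rw [Matrix.det_mul, Matrix.det_diagonal, Finset.prod_eq_single ⟨k, hk⟩ (fun j _ hj => by
      rw [hD]; exact if_neg (fun e => hj (Fin.ext e))) (by simp)]
    simp [hD, hdet]
  · have hDi : D (Fin.castLE hk.le i) = 1 := by
      rw [hD]
      exact if_neg (by simp only [Fin.val_castLE]; exact i.2.ne)
    rw [← hbi i]
    ext r
    simp [act, Matrix.mulVec_single, hM, hDi]

variable [NeZero n]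

/-- The first basis vector. -/
def evec (n : ℕ) [NeZero n] (F : Type*) [Field F] : Fin n → F := Pi.single 0 1

theorem evec_ne_zero : evec n F ≠ 0 := fun e => by
  simpa [evec] using congrFun e 0

theorem exists_act_evec (hn : 2 ≤ n) {v : Fin n → F} (hv : v ≠ 0) :
    ∃ g : SL, act g (evec n F) = v := by
  obtain ⟨g, hg⟩ := exists_act_eq (k := 1) ![v]
    (linearIndependent_unique_iff.mpr (by simpa using hv)) (by omega)
  refine ⟨g, ?_⟩
  have := hg 0
  rw [show Fin.castLE (show 1 ≤ n by omega) (0 : Fin 1) = (0 : Fin n) from Fin.ext rfl] at this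
  simpa [evec] using this

/-- Number of group elements carrying `v` to `w`. -/
theorem card_transporter (hn : 2 ≤ n) {v w : Fin n → F} (hv : v ≠ 0) (hw : w ≠ 0) :
    (Finset.univ.filter fun g : SL => act g v = w).card =
      (Finset.univ.filter fun g : SL => act g (evec n F) = evec n F).card := by
  obtain ⟨x, hx⟩ := exists_act_evec hn hv
  obtain ⟨y, hy⟩ := exists_act_evec hn hw
  refine Finset.card_bij (fun g _ => y⁻¹ * g * x) (fun g hg => ?_) (fun a _ b _ e => by simpa using e)
    (fun b hb => ⟨y * b * x⁻¹, ?_, by group⟩)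
  · simp only [Finset.mem_filter, Finset.mem_univ, true_and] at hg ⊢
    rw [act_mul, act_mul, hx, hg, ← hy, ← act_mul, inv_mul_cancel, act_one]
  · simp only [Finset.mem_filter, Finset.mem_univ, true_and] at hb ⊢
    rw [act_mul, act_mul, ← hx, ← act_mul x⁻¹, inv_mul_cancel, act_one, hb, hy]

/-- Summing over the group through the orbit map. -/
theorem sum_act_evec (hn : 2 ≤ n) (Φ : (Fin n → F) → ℂ) :
    ∑ g : SL, Φ (act g (evec n F)) =
      ((Finset.univ.filter fun g : SL => act g (evec n F) = evec n F).card : ℂ) *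
        ∑ v ∈ Finset.univ.filter (fun v : Fin n → F => v ≠ 0), Φ v := by
  rw [← Finset.sum_fiberwise_of_maps_to (g := fun g : SL => act g (evec n F))
    (t := Finset.univ.filter fun v : Fin n → F => v ≠ 0)
    (fun g _ => by simp [act_ne_zero g evec_ne_zero]), Finset.mul_sum]
  refine Finset.sum_congr rfl fun v hv => ?_
  rw [Finset.sum_congr rfl (g := fun _ => Φ v) (fun g hg => by rw [(Finset.mem_filter.mp hg).2]),
    Finset.sum_const, nsmul_eq_mul, card_transporter hn evec_ne_zero (Finset.mem_filter.mp hv).2]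

/-- The stabiliser of the line through the first basis vector. -/
def lineStab (n : ℕ) [NeZero n] (F : Type*) [Field F] :
    Subgroup (Matrix.SpecialLinearGroup (Fin n) F) where
  carrier := {g | ∃ c : Fˣ, act g (evec n F) = (c : F) • evec n F}
  mul_mem' := by
    rintro a b ⟨c, hc⟩ ⟨d, hd⟩
    refine ⟨c * d, ?_⟩
    simp only [act] at hc hd ⊢
    rw [Matrix.SpecialLinearGroup.coe_mul, ← Matrix.mulVec_mulVec, hd, Matrix.mulVec_smul, hc,
      smul_smul, mul_comm, Units.val_mul]
  one_mem' := ⟨1, by simp [act]⟩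
  inv_mem' := by
    rintro a ⟨c, hc⟩
    refine ⟨c⁻¹, ?_⟩
    simp only [act] at hc ⊢
    have : ((a⁻¹ * a : Matrix.SpecialLinearGroup (Fin n) F) : Matrix (Fin n) (Fin n) F).mulVec
        (evec n F) = evec n F := by simp
    rw [Matrix.SpecialLinearGroup.coe_mul, ← Matrix.mulVec_mulVec, hc, Matrix.mulVec_smul] at this
    calc ((a⁻¹ : Matrix.SpecialLinearGroup (Fin n) F) : Matrix (Fin n) (Fin n) F).mulVec (evec n F)
        = ((c⁻¹ : Fˣ) : F) • ((c : F) •
          ((a⁻¹ : Matrix.SpecialLinearGroup (Fin n) F) : Matrix (Fin n) (Fin n) F).mulVec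
            (evec n F)) := by rw [smul_smul, Units.inv_mul, one_smul]
      _ = _ := by rw [this]

theorem mem_lineStab {g : SL} :
    g ∈ lineStab n F ↔ ∃ c : Fˣ, act g (evec n F) = (c : F) • evec n F := Iff.rfl

theorem act_evec_apply (g : SL) : act g (evec n F) 0 = (g : Matrix (Fin n) (Fin n) F) 0 0 := by
  simp [act, evec, Matrix.mulVec_single]

theorem coeff_eq {g : SL} {c : Fˣ} (h : act g (evec n F) = (c : F) • evec n F) :
    (g : Matrix (Fin n) (Fin n) F) 0 0 = c := by
  rw [← act_evec_apply, h]
  simp [evec]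

/-- The linear character `g ↦ α(g₁₁)` of the line stabiliser. -/
noncomputable def lineHom (α : MulChar F ℂ) : lineStab n F →* ℂ where
  toFun g := α (((g : Matrix.SpecialLinearGroup (Fin n) F) : Matrix (Fin n) (Fin n) F) 0 0)
  map_one' := by simp
  map_mul' := by
    rintro ⟨a, c, hc⟩ ⟨b, d, hd⟩
    show α (((a * b : Matrix.SpecialLinearGroup (Fin n) F) : Matrix (Fin n) (Fin n) F) 0 0) = _
    rw [show ((a * b : Matrix.SpecialLinearGroup (Fin n) F) : Matrix (Fin n) (Fin n) F) 0 0 =
      ((c * d : Fˣ) : F) from coeff_eq (by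
        rw [act_mul, hd, act_smul, hc, smul_smul, mul_comm, Units.val_mul]),
      Units.val_mul, map_mul, coeff_eq hc, coeff_eq hd]

/-- The constituent of the permutation character on vectors belonging to a scalar character. -/
noncomputable def linePerm (α : MulChar F ℂ) : Matrix.SpecialLinearGroup (Fin n) F → ℂ :=
  Cfsg.indFun (lineStab n F) (fun h => lineHom α h)

theorem isCharacter_linePerm (α : MulChar F ℂ) : Cfsg.IsCharacter SL (linePerm (n := n) α) :=
  CharInduce.IsChar.ind _ (CharInduce.isCharacter_hom (lineHom α).toHomUnits)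

theorem card_lineStab (hn : 2 ≤ n) : (Nat.card (lineStab n F) : ℂ) =
    ((Finset.univ.filter fun g : SL => act g (evec n F) = evec n F).card : ℂ) *
      ((Fintype.card F : ℂ) - 1) := by
  classical
  have h := sum_act_evec (F := F) hn (fun v => if ∃ c : Fˣ, v = (c : F) • evec n F then 1 else 0)
  rw [Finset.sum_boole, Finset.sum_boole, Finset.filter_filter] at h
  rw [Nat.card_eq_fintype_card, Fintype.card_subtype]
  simp only [mem_lineStab]
  rw [h]
  congr 1
  rw [show (Finset.univ.filter fun v : Fin n → F => v ≠ 0 ∧ ∃ c : Fˣ, v = (c : F) • evec n F) =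
      (Finset.univ : Finset Fˣ).image (fun c : Fˣ => (c : F) • evec n F) from ?_,
    Finset.card_image_of_injective _ (fun a b e => Units.ext (by
      simpa [evec] using congrFun e 0)), Finset.card_univ, Fintype.card_units,
    Nat.cast_sub Fintype.card_pos, Nat.cast_one]
  ext v
  simp only [Finset.mem_filter, Finset.mem_univ, true_and, Finset.mem_image]
  constructor
  · rintro ⟨-, c, rfl⟩
    exact ⟨c, rfl⟩
  · rintro ⟨c, rfl⟩
    exact ⟨smul_ne_zero c.ne_zero evec_ne_zero, c, rfl⟩

theorem linePerm_apply (hn : 2 ≤ n) (α : MulChar F ℂ) (g : SL) :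
    ((Fintype.card F : ℂ) - 1) * linePerm α g =
      ∑ v ∈ Finset.univ.filter (fun v : Fin n → F => v ≠ 0),
        ∑ c : Fˣ, if act g v = (c : F) • v then α (c : F) else 0 := by
  classical
  have key : ∀ x : SL, Cfsg.extendByZero (lineStab n F) (fun h => lineHom α h) (x⁻¹ * g * x) =
      ∑ c : Fˣ, if act g (act x (evec n F)) = (c : F) • act x (evec n F) then α (c : F) else 0 := by
    intro x
    have hiff : ∀ c : Fˣ, act g (act x (evec n F)) = (c : F) • act x (evec n F) ↔
        act (x⁻¹ * g * x) (evec n F) = (c : F) • evec n F := by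
      intro c
      rw [act_mul, act_mul, act_inv x⁻¹, inv_inv, act_smul]
    simp only [hiff]
    by_cases hx : x⁻¹ * g * x ∈ lineStab n F
    · obtain ⟨c, hc⟩ := hx
      rw [CharInduce.extendByZero_of_mem _ (show x⁻¹ * g * x ∈ lineStab n F from ⟨c, hc⟩), Finset.sum_eq_single c (fun d _ hd => ?_) (by simp),
        if_pos hc]
      · show α _ = _
        rw [coeff_eq hc]
      · exact if_neg (fun e => hd (Units.ext (by rw [← coeff_eq e, coeff_eq hc])))
    · rw [CharInduce.extendByZero_of_not_mem _ hx]
      exact (Finset.sum_eq_zero fun c _ => if_neg (fun e => hx ⟨c, e⟩)).symm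
  have h := CharInduce.card_mul_indFun (lineStab n F) (fun h => lineHom α h) g
  rw [Finset.sum_congr rfl (fun x _ => key x),
    sum_act_evec hn (fun v => ∑ c : Fˣ, if act g v = (c : F) • v then α (c : F) else 0),
    card_lineStab hn, mul_assoc] at h
  exact mul_left_cancel₀ (Nat.cast_ne_zero.mpr (Finset.card_ne_zero.mpr ⟨1, by simp [act_one]⟩)) h

theorem sum_linePerm (hn : 2 ≤ n) [Fintype (MulChar F ℂ)] (g : SL) :
    ∑ α : MulChar F ℂ, linePerm α g =
      ((Finset.univ.filter fun v : Fin n → F => v ≠ 0 ∧ act g v = v).card : ℂ) := by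
  classical
  have h1 : (Fintype.card F : ℂ) - 1 ≠ 0 := by
    rw [sub_ne_zero, Nat.cast_ne_one]
    exact Fintype.one_lt_card.ne'
  refine mul_left_cancel₀ h1 ?_
  rw [Finset.mul_sum, Finset.sum_congr rfl (fun α _ => linePerm_apply hn α g), Finset.sum_comm,
    ← Finset.sum_boole, Finset.mul_sum, Finset.sum_filter]
  refine Finset.sum_congr rfl fun v _ => ?_
  by_cases hv : v = 0
  · simp [hv]
  rw [if_pos hv, Finset.sum_comm, Finset.sum_eq_single (1 : Fˣ) (fun c _ hc => ?_) (by simp)]
  · simp only [hv, ne_eq, not_false_iff, true_and, Units.val_one, one_smul, map_one, Finset.sum_const,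
      Finset.card_univ, nsmul_eq_mul]
    rw [← Nat.card_eq_fintype_card (α := MulChar F ℂ), card_mulChar, Nat.cast_sub Fintype.card_pos,
      Nat.cast_one]
  · by_cases hg : act g v = (c : F) • v
    · simp only [hg, if_true]
      exact sum_mulChar_apply (fun e => hc (Units.ext e))
    · simp [hg]

theorem linePerm_ne_one (hn : 2 ≤ n) (α : MulChar F ℂ) :
    linePerm (n := n) α 1 ≠ 0 ∧ linePerm (n := n) α 1 ≠ 1 := by
  classical
  have h := linePerm_apply hn α (1 : SL)
  rw [Finset.sum_congr rfl (g := fun _ => (1 : ℂ)) (fun v hv => ?_), Finset.sum_const, nsmul_eq_mul,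
    mul_one, Finset.filter_ne', Finset.card_erase_of_mem (Finset.mem_univ _), Finset.card_univ,
    Fintype.card_fun, Fintype.card_fin] at h
  swap
  · rw [Finset.sum_eq_single (1 : Fˣ) (fun c _ hc => if_neg (fun e => hc (Units.ext ?_))) (by simp),
      if_pos (by simp [act_one])]
    · simp
    · rw [act_one] at e
      have := sub_eq_zero.mpr e
      nth_rewrite 1 [← one_smul F v] at this
      rw [← sub_smul] at this
      exact (sub_eq_zero.mp ((smul_eq_zero.mp this).resolve_right (Finset.mem_filter.mp hv).2)).symm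
  have hq : 2 ≤ Fintype.card F := Fintype.one_lt_card
  have hlt : Fintype.card F < Fintype.card F ^ n := lt_self_pow₀ hq hn
  refine ⟨fun e => ?_, fun e => ?_⟩ <;> rw [e] at h
  · have : Fintype.card F ^ n - 1 = 0 := by
      rw [mul_zero] at h
      exact_mod_cast h.symm
    omega
  · have : Fintype.card F - 1 = Fintype.card F ^ n - 1 := Nat.cast_injective (R := ℂ) (by
      rw [mul_one] at h
      rw [← h, Nat.cast_sub (by omega), Nat.cast_one])
    omega

theorem linePerm_one_mul (hn : 2 ≤ n) (α : MulChar F ℂ) :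
    ((Fintype.card F : ℂ) - 1) * linePerm (n := n) α 1 = (Fintype.card F : ℂ) ^ n - 1 := by
  classical
  rw [linePerm_apply hn α (1 : SL), Finset.sum_congr rfl (g := fun _ => (1 : ℂ)) (fun v hv => ?_),
    Finset.sum_const, nsmul_eq_mul, mul_one, Finset.filter_ne',
    Finset.card_erase_of_mem (Finset.mem_univ _), Finset.card_univ, Fintype.card_fun, Fintype.card_fin,
    Nat.cast_sub (Nat.one_le_pow _ _ Fintype.card_pos), Nat.cast_pow, Nat.cast_one]
  rw [Finset.sum_eq_single (1 : Fˣ) (fun c _ hc => if_neg (fun e => hc (Units.ext ?_))) (by simp),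
    if_pos (by simp [act_one])]
  · simp
  · rw [act_one] at e
    have := sub_eq_zero.mpr e
    nth_rewrite 1 [← one_smul F v] at this
    rw [← sub_smul] at this
    exact (sub_eq_zero.mp ((smul_eq_zero.mp this).resolve_right (Finset.mem_filter.mp hv).2)).symm

/-- The number of non-zero vectors fixed. -/
noncomputable def fixCount (g : Matrix.SpecialLinearGroup (Fin n) F) : ℂ :=
  ((Finset.univ.filter fun v : Fin n → F => v ≠ 0 ∧ act g v = v).card : ℂ)

theorem fixCount_eq_sum (g : SL) :
    fixCount g = ∑ v ∈ Finset.univ.filter (fun v : Fin n → F => v ≠ 0),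
      if act g v = v then (1 : ℂ) else 0 := by
  rw [fixCount, Finset.sum_boole, Finset.filter_filter]

theorem conj_fixCount (g : SL) : conj (fixCount g) = fixCount g := by
  rw [fixCount, Complex.conj_natCast]

/-- Orbit–stabiliser: the sum of the stabiliser orders is the group order. -/
theorem card_SL_eq (hn : 2 ≤ n) : (Nat.card SL : ℂ) =
    ((Finset.univ.filter fun g : SL => act g (evec n F) = evec n F).card : ℂ) *
      ((Finset.univ.filter fun v : Fin n → F => v ≠ 0).card : ℂ) := by
  have h := sum_act_evec (F := F) hn (fun _ => (1 : ℂ))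
  simpa [Nat.card_eq_fintype_card] using h

theorem sum_fixCount (hn : 2 ≤ n) : ∑ g : SL, fixCount g = (Nat.card SL : ℂ) := by
  simp only [fixCount_eq_sum]
  rw [Finset.sum_comm, card_SL_eq hn, Finset.sum_congr rfl
    (g := fun _ => ((Finset.univ.filter fun g : SL => act g (evec n F) = evec n F).card : ℂ))
    (fun v hv => by
      have hv0 := (Finset.mem_filter.mp hv).2
      rw [Finset.sum_boole, card_transporter hn hv0 hv0]), Finset.sum_const, nsmul_eq_mul, mul_comm]

/-- The permutation character on non-zero vectors has norm `q`. -/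
theorem sum_fixCount_sq (hn : 3 ≤ n) :
    ∑ g : SL, fixCount g * fixCount g = (Fintype.card F : ℂ) * (Nat.card SL : ℂ) := by
  classical
  set V0 := Finset.univ.filter (fun v : Fin n → F => v ≠ 0) with hV0
  let S : (Fin n → F) → (Fin n → F) → ℂ := fun v w =>
    ((Finset.univ.filter fun g : SL => act g v = v ∧ act g w = w).card : ℂ)
  have h1 : ∑ g : SL, fixCount g * fixCount g = ∑ v ∈ V0, ∑ w ∈ V0, S v w := by
    simp only [fixCount_eq_sum, Finset.sum_mul, Finset.mul_sum]
    rw [Finset.sum_comm]
    refine Finset.sum_congr rfl fun v _ => ?_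
    rw [Finset.sum_comm]
    refine Finset.sum_congr rfl fun w _ => ?_
    simp only [S]
    rw [← Finset.sum_boole]
    refine Finset.sum_congr rfl fun g _ => ?_
    by_cases hv : act g v = v <;> by_cases hw : act g w = w <;> simp [hv, hw]
  let dep : (Fin n → F) → (Fin n → F) → Prop := fun v w => ∃ c : Fˣ, w = (c : F) • v
  have hdep : ∀ v ∈ V0, ∑ w ∈ V0.filter (dep v), S v w =
      ((Fintype.card F : ℂ) - 1) *
        ((Finset.univ.filter fun g : SL => act g (evec n F) = evec n F).card : ℂ) := by
    intro v hv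
    have hv0 := (Finset.mem_filter.mp hv).2
    rw [show V0.filter (dep v) = (Finset.univ : Finset Fˣ).image (fun c : Fˣ => (c : F) • v) from ?_,
      Finset.sum_image (fun a _ b _ e => Units.ext (smul_left_injective F hv0 e)),
      Finset.sum_congr rfl (g := fun _ =>
        ((Finset.univ.filter fun g : SL => act g (evec n F) = evec n F).card : ℂ)) (fun c _ => ?_),
      Finset.sum_const, nsmul_eq_mul, Finset.card_univ, Fintype.card_units,
      Nat.cast_sub Fintype.card_pos, Nat.cast_one]
    · rw [← card_transporter (F := F) (by omega : 2 ≤ n) hv0 hv0]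
      simp only [S]
      congr 2
      ext g
      simp only [Finset.mem_filter, Finset.mem_univ, true_and, act_smul]
      exact ⟨fun h => h.1, fun h => ⟨h, by rw [h]⟩⟩
    · ext w
      simp only [Finset.mem_filter, hV0, Finset.mem_univ, true_and, Finset.mem_image, dep]
      constructor
      · rintro ⟨-, c, rfl⟩
        exact ⟨c, rfl⟩
      · rintro ⟨c, rfl⟩
        exact ⟨smul_ne_zero c.ne_zero hv0, c, rfl⟩
  let e1 : Fin n → F := Pi.single (Fin.castLE (show 2 ≤ n by omega) 1) 1
  have hind : ∑ v ∈ V0, ∑ w ∈ V0.filter (fun w => ¬ dep v w), S v w = (Nat.card SL : ℂ) := by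
    rw [Finset.sum_sigma', Nat.card_eq_fintype_card, ← Finset.card_univ,
      Finset.card_eq_sum_card_fiberwise (f := fun g : SL =>
        (⟨act g (evec n F), act g e1⟩ : (_ : Fin n → F) × (Fin n → F)))
      (t := V0.sigma fun v => V0.filter fun w => ¬ dep v w) ?_, Nat.cast_sum]
    · refine Finset.sum_congr rfl fun p hp => ?_
      obtain ⟨v, w⟩ := p
      simp only [Finset.mem_sigma, hV0, Finset.mem_filter, Finset.mem_univ, true_and, dep] at hp
      obtain ⟨hv, hw, hvw⟩ := hp
      have hli : LinearIndependent F ![v, w] := by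
        rw [LinearIndependent.pair_iff' hv]
        intro a ha
        rcases eq_or_ne a 0 with rfl | ha0
        · exact hw (by rw [← ha, zero_smul])
        · exact hvw ⟨Units.mk0 a ha0, ha.symm⟩
      obtain ⟨x, hx⟩ := exists_act_eq ![v, w] hli (by omega)
      have hx0 : act x (evec n F) = v := by
        have := hx 0
        rw [show Fin.castLE (show 2 ≤ n by omega) (0 : Fin 2) = (0 : Fin n) from Fin.ext rfl] at this
        simpa [evec] using this
      have hx1 : act x e1 = w := by simpa [e1] using hx 1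
      simp only [S]
      norm_cast
      refine Finset.card_bij (fun g _ => g * x) (fun g hg => ?_) (fun a _ b _ e => mul_right_cancel e)
        (fun b hb => ⟨b * x⁻¹, ?_, by group⟩)
      · simp only [Finset.mem_filter, Finset.mem_univ, true_and] at hg ⊢
        rw [act_mul, act_mul, hx0, hx1, hg.1, hg.2]
      · simp only [Finset.mem_filter, Finset.mem_univ, true_and, Sigma.mk.injEq, heq_eq_eq] at hb ⊢
        obtain ⟨hb0, hb1⟩ := hb
        rw [act_mul, act_mul]
        constructor
        · rw [show act x⁻¹ v = evec n F from ((act_inv x _ _).mp hx0).symm, hb0]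
        · rw [show act x⁻¹ w = e1 from ((act_inv x _ _).mp hx1).symm, hb1]
    · intro g _
      simp only [Finset.coe_sigma, Set.mem_sigma_iff, Finset.mem_coe, hV0, Finset.mem_filter,
        Finset.mem_univ, true_and, dep]
      have he1 : e1 ≠ 0 := fun e => by simpa [e1] using congrFun e (Fin.castLE (show 2 ≤ n by omega) 1)
      refine ⟨act_ne_zero g evec_ne_zero, act_ne_zero g he1, ?_⟩
      rintro ⟨c, hc⟩
      rw [← act_smul, act_inv, ← act_mul, inv_mul_cancel, act_one] at hc
      have := congrFun hc (Fin.castLE (show 2 ≤ n by omega) 1)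
      have hne : Fin.castLE (show 2 ≤ n by omega) (1 : Fin 2) ≠ (0 : Fin n) := by
        simp [Fin.ext_iff]
      simp [e1, evec, hne] at this
  rw [h1, Finset.sum_congr rfl (fun v _ => (Finset.sum_filter_add_sum_filter_not V0 (dep v) _).symm),
    Finset.sum_add_distrib, Finset.sum_congr rfl hdep, hind, Finset.sum_const, nsmul_eq_mul,
    card_SL_eq (by omega : 2 ≤ n)]
  ring

/-- Decomposition of the permutation character on non-zero vectors. -/
theorem exists_perm_decomposition (hn : 3 ≤ n) :
    ∃ χ : MulChar F ℂ → SL → ℂ, (∀ α, Cfsg.IsIrrCharacter SL (χ α)) ∧ Function.Injective χ ∧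
      (∀ [Fintype (MulChar F ℂ)] (g : SL), fixCount g = 1 + ∑ α, χ α g) ∧
      ∀ α, χ α (1 : SL) = linePerm α (1 : SL) - if α = 1 then 1 else 0 := by
  classical
  have := Fintype.ofFinite (MulChar F ℂ)
  have := Fintype.ofFinite (lineStab n F)
  have h2 : 2 ≤ n := by omega
  have h11 : Cfsg.classInner (linePerm (n := n) (1 : MulChar F ℂ)) (fun _ : SL => (1 : ℂ)) ≠ 0 := by
    rw [linePerm, CharInduce.classInner_indFun_left _ _ _ (fun _ _ => rfl), Cfsg.classInner,
      Finset.sum_congr rfl (g := fun _ => (1 : ℂ)) (fun h _ => ?_)]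
    · simp
    · obtain ⟨h, c, hc⟩ := h
      show (1 : MulChar F ℂ) _ * conj 1 = 1
      rw [coeff_eq hc, MulChar.one_apply c.isUnit, map_one, mul_one]
  obtain ⟨r, hr, hr1⟩ := CharInduce.IsChar.exists_eq_add (isCharacter_linePerm (n := n)
    (1 : MulChar F ℂ)) CharBasic.isIrrCharacter_one h11
  set χ : MulChar F ℂ → SL → ℂ := fun α => if α = 1 then r else linePerm α with hχ
  have hsum : ∀ g : SL, fixCount g = 1 + ∑ α, χ α g := by
    intro g
    rw [fixCount, ← sum_linePerm h2 g, ← Finset.add_sum_erase _ _ (Finset.mem_univ (1 : MulChar F ℂ)),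
      ← Finset.add_sum_erase _ (fun α => χ α g) (Finset.mem_univ (1 : MulChar F ℂ)), ← add_assoc]
    congr 1
    · simp [hχ, hr1]
    · exact Finset.sum_congr rfl fun α hα => by simp [hχ, Finset.ne_of_mem_erase hα]
  have hirr := orth_of_norm_eq_card χ (fun α => ?_) (fun α => ?_) ?_
  · refine ⟨χ, hirr.1, hirr.2, fun {inst} g => ?_, fun α => ?_⟩
    · rw [hsum g]
      congr!
    · simp only [hχ]
      split_ifs with h
      · subst h
        simp [hr1]
      · rw [sub_zero]
  · simp only [hχ]
    split_ifs
    exacts [hr, isCharacter_linePerm α]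
  · intro e
    have e1 := congrFun e 1
    simp only [hχ, Pi.zero_apply] at e1
    split_ifs at e1
    · exact (linePerm_ne_one h2 (1 : MulChar F ℂ)).2 (by rw [hr1]; simp [e1])
    · exact (linePerm_ne_one h2 α).1 e1
  · have e : ∑ α, χ α = fixCount - fun _ : SL => (1 : ℂ) := by
      funext g
      rw [Pi.sub_apply, hsum g, Finset.sum_apply]
      ring
    have hG : (Nat.card SL : ℂ) ≠ 0 := Nat.cast_ne_zero.mpr Nat.card_pos.ne'
    rw [e, CharBasic.classInner_sub_left, CharBasic.classInner_sub_right,
      CharBasic.classInner_sub_right]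
    simp only [Cfsg.classInner, conj_fixCount, map_one, mul_one, one_mul]
    rw [sum_fixCount_sq hn, sum_fixCount h2, Finset.sum_const, Finset.card_univ, nsmul_eq_mul,
      mul_one, ← Nat.card_eq_fintype_card (α := SL), ← Nat.card_eq_fintype_card (α := MulChar F ℂ), card_mulChar,
      Nat.cast_sub Fintype.card_pos, Nat.cast_one]
    field_simp
    ring

end Cfsg.Agent.H53
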