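import Cfsg.Agent.H53.GLPrincipal
import Cfsg.Agent.Linear.TwoSL

/-!
The principal series of SL₂, as restrictions from GL₂.
-/

set_option autoImplicit false

namespace Cfsg.Agent.H53

open Matrix Finset
open scoped ComplexConjugate

variable {F : Type*} [Field F]

local notation "G2" => Matrix.GeneralLinearGroup (Fin 2) F
local notation "M2" => Matrix (Fin 2) (Fin 2) F
local notation "S2" => Matrix.SpecialLinearGroup (Fin 2) F
local notation "B2" => Cfsg.upperTriangularGL 2 F
local notation "BS" =>
  Subgroup.comap (Matrix.SpecialLinearGroup.toGL (n := Fin 2) (R := F)) (Cfsg.upperTriangularGL 2 F)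

theorem mem_borelSL {g : S2} : g ∈ BS ↔ (g : M2) 1 0 = 0 :=
  Subgroup.mem_comap.trans Linear.mem_upperTriangularGL_two

theorem entries_SL {g : S2} (hg : (g : M2) 1 0 = 0) :
    (g : M2) 0 0 ≠ 0 ∧ (g : M2) 1 1 = ((g : M2) 0 0)⁻¹ := by
  have h := Linear.SL_det_two g
  rw [hg, mul_zero, sub_zero] at h
  exact ⟨left_ne_zero_of_mul_eq_one h, eq_inv_of_mul_eq_one_right h⟩

/-- The linear character `b ↦ α(b₁₁)` of the upper triangular subgroup of SL₂. -/
noncomputable def borelFunS (α : MulChar F ℂ) : BS → ℂ :=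
  fun b => α (((b : S2) : M2) 0 0)

theorem borelFunS_one (α : MulChar F ℂ) : borelFunS α 1 = 1 := by simp [borelFunS]

theorem borelFunS_mul (α : MulChar F ℂ) (a b : BS) :
    borelFunS α (a * b) = borelFunS α a * borelFunS α b := by
  have hb := mem_borelSL.mp b.2
  simp [borelFunS, Linear.mul_two_apply, hb]

theorem isClassFunction_borelFunS (α : MulChar F ℂ) : Cfsg.IsClassFunction BS (borelFunS α) :=
  isClassFunction_of_mul _ (borelFunS_mul α) (borelFunS_one α)

/-- The matrix `(a c; 0 a⁻¹)`. -/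
def upS (a : Fˣ) (c : F) : S2 :=
  ⟨!![(a : F), c; 0, ((a⁻¹ : Fˣ) : F)], by simp [Matrix.det_fin_two_of]⟩

theorem coe_upS (a : Fˣ) (c : F) : ((upS a c : S2) : M2) = !![(a : F), c; 0, ((a⁻¹ : Fˣ) : F)] :=
  rfl

theorem upS_one : upS (1 : Fˣ) (0 : F) = 1 := by
  apply Linear.SL_ext_two <;> simp [coe_upS]

/-- Parametrisation of the upper triangular subgroup. -/
noncomputable def borelSEquiv : Fˣ × F ≃ BS :=
  Equiv.ofBijective (fun x => ⟨upS x.1 x.2, mem_borelSL.mpr (by simp [coe_upS])⟩) ⟨fun x y h => by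
    have h' := congrArg (fun z : BS => ((z : S2) : M2)) h
    exact Prod.ext (Units.ext (by simpa [coe_upS] using congrFun (congrFun h' 0) 0))
      (by simpa [coe_upS] using congrFun (congrFun h' 0) 1), fun b => by
    obtain ⟨h0, h1⟩ := entries_SL (mem_borelSL.mp b.2)
    exact ⟨(Units.mk0 _ h0, ((b : S2) : M2) 0 1), Subtype.ext (Linear.SL_ext_two (by simp [coe_upS])
      (by simp [coe_upS]) (by simp [coe_upS, mem_borelSL.mp b.2]) (by simp [coe_upS, h1]))⟩⟩

/-- Coset representatives in SL₂ of the upper triangular subgroup. -/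
def lineRepS : Option F → S2
  | none => 1
  | some t => ⟨!![t, -1; 1, 0], by simp [Matrix.det_fin_two_of]⟩

theorem coe_lineRepS_some (t : F) : ((lineRepS (some t) : S2) : M2) = !![t, -1; 1, 0] := rfl

theorem lineRepS_none : (lineRepS none : S2) = 1 := rfl

theorem lineRepS_bijective :
    Function.Bijective (fun x : Option F × BS => lineRepS x.1 * (x.2 : S2)) := by
  constructor
  · rintro ⟨i, a⟩ ⟨j, b⟩ h
    have ha := mem_borelSL.mp a.2
    have hb := mem_borelSL.mp b.2
    obtain ⟨ha0, -⟩ := entries_SL ha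
    obtain ⟨hb0, -⟩ := entries_SL hb
    have e0 := congrArg (fun z : S2 => (z : M2) 0 0) h
    have e1 := congrArg (fun z : S2 => (z : M2) 1 0) h
    have hij : i = j := by
      rcases i with _ | s <;> rcases j with _ | t <;>
        simp only [Matrix.SpecialLinearGroup.coe_mul, Linear.mul_two_apply, coe_lineRepS_some,
          lineRepS_none, Matrix.SpecialLinearGroup.coe_one] at e0 e1 <;>
        simp [ha, hb] at e0 e1
      · rfl
      · exact absurd e1.symm hb0
      · exact absurd e1 ha0
      · rw [e1] at e0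
        exact congrArg some (mul_right_cancel₀ hb0 e0)
    subst hij
    exact congrArg (Prod.mk i) (Subtype.ext (mul_left_cancel h))
  · intro g
    by_cases hg : (g : M2) 1 0 = 0
    · exact ⟨(none, ⟨g, mem_borelSL.mpr hg⟩), by simp [lineRepS_none]⟩
    · refine ⟨(some ((g : M2) 0 0 / (g : M2) 1 0),
        ⟨(lineRepS (some ((g : M2) 0 0 / (g : M2) 1 0)))⁻¹ * g, mem_borelSL.mpr ?_⟩),
        mul_inv_cancel_left _ _⟩
      rw [Matrix.SpecialLinearGroup.coe_mul, Matrix.SpecialLinearGroup.coe_inv]
      simp [coe_lineRepS_some, Matrix.adjugate_fin_two_of, Linear.mul_two_apply]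
      field_simp
      ring

/-- The principal series character of SL₂. -/
noncomputable def sprin [Fintype F] [DecidableEq F] (α : MulChar F ℂ) : S2 → ℂ :=
  Cfsg.indFun BS (borelFunS α)

variable [Fintype F] [DecidableEq F]

theorem prin_toGL (α β : MulChar F ℂ) (g : S2) :
    prin α β (Matrix.SpecialLinearGroup.toGL g) = sprin (α * β⁻¹) g := by
  rw [prin, sprin, indFun_eq_sum_transversal lineRep lineRep_bijective _
    (isClassFunction_borelFun α β), indFun_eq_sum_transversal lineRepS lineRepS_bijective _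
    (isClassFunction_borelFunS _)]
  have hext : ∀ z : S2, Cfsg.extendByZero B2 (borelFun α β) (Matrix.SpecialLinearGroup.toGL z) =
      Cfsg.extendByZero BS (borelFunS (α * β⁻¹)) z := by
    intro z
    by_cases hz : z ∈ BS
    · rw [CharInduce.extendByZero_of_mem _ hz,
        CharInduce.extendByZero_of_mem _ (Subgroup.mem_comap.mp hz)]
      obtain ⟨-, h1⟩ := entries_SL (mem_borelSL.mp hz)
      simp only [borelFun, borelFunS, MulChar.mul_apply, MulChar.inv_apply',
        Matrix.SpecialLinearGroup.coe_GL_coe_matrix, h1]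
    · rw [CharInduce.extendByZero_of_not_mem _ hz,
        CharInduce.extendByZero_of_not_mem _ (fun h => hz (Subgroup.mem_comap.mpr h))]
  refine Finset.sum_congr rfl fun i _ => ?_
  rcases i with _ | t
  · simp [lineRep, lineRepS_none, hext]
  · set d : G2 := Linear.glOfDet !![1, 0; 0, -1] (by simp [Matrix.det_fin_two_of]) with hd
    have hd2 : d ∈ B2 := Linear.mem_upperTriangularGL_two.mpr (by simp [hd])
    have hr : (lineRep (some t) : G2) =
        Matrix.SpecialLinearGroup.toGL (lineRepS (some t)) * d := by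
      apply Linear.GL_ext_two <;>
        simp [coe_lineRep_some, coe_lineRepS_some, hd, Linear.mul_two_apply]
    rw [← hext, hr, map_mul, map_mul, map_inv]
    have := CharInduce.extendByZero_conj (isClassFunction_borelFun α β) (Subgroup.inv_mem _ hd2)
      ((Matrix.SpecialLinearGroup.toGL (lineRepS (some t)))⁻¹ * Matrix.SpecialLinearGroup.toGL g *
        Matrix.SpecialLinearGroup.toGL (lineRepS (some t)))
    rw [inv_inv] at this
    rw [← this]
    congr 1
    group

theorem sprin_eq (α : MulChar F ℂ) (g : S2) :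
    sprin α g = prin α 1 (Matrix.SpecialLinearGroup.toGL g) := by
  rw [prin_toGL, inv_one, mul_one]

theorem isClassFunction_sprin (α : MulChar F ℂ) : Cfsg.IsClassFunction S2 (sprin α) :=
  CharInduce.isClassFunction_indFun _ _

theorem isCharacter_sprin (α : MulChar F ℂ) : Cfsg.IsCharacter S2 (sprin α) := by
  rw [show sprin α = fun g => prin α 1 (Matrix.SpecialLinearGroup.toGL g) from funext (sprin_eq α)]
  exact CharInduce.IsChar.comp (isCharacter_prin α 1) _

theorem sprin_one (α : MulChar F ℂ) : sprin α 1 = (Fintype.card F : ℂ) + 1 := by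
  rw [sprin_eq, map_one, prin_one]

theorem sprin_upper (α : MulChar F ℂ) {g : S2} (hg : (g : M2) 1 0 = 0) :
    sprin α g = α ((g : M2) 0 0) + ((Finset.univ.filter (fun t : F =>
        ((g : M2) 0 0 - (g : M2) 1 1) * t + (g : M2) 0 1 = 0)).card : ℂ) * α ((g : M2) 1 1) := by
  obtain ⟨h0, h1⟩ := entries_SL hg
  have h1' : (g : M2) 1 1 ≠ 0 := by rw [h1]; exact inv_ne_zero h0
  rw [sprin_eq, prin_upper α 1 (g := Matrix.SpecialLinearGroup.toGL g)
    (by simpa using hg), MulChar.one_apply, MulChar.one_apply]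
  · simp only [Matrix.SpecialLinearGroup.coe_GL_coe_matrix, mul_one]
    congr!
  · exact isUnit_iff_ne_zero.mpr (by simpa using h0)
  · exact isUnit_iff_ne_zero.mpr (by simpa using h1')

theorem sprin_noEigen (α : MulChar F ℂ) {g : S2}
    (h : ∀ (c : F) (v : Fin 2 → F), v ≠ 0 → (g : M2).mulVec v ≠ c • v) : sprin α g = 0 := by
  rw [sprin_eq]
  exact prin_noEigen α 1 (by simpa using h)

theorem card_borelSL : Nat.card BS = Fintype.card F * (Fintype.card F - 1) := by
  rw [← Nat.card_congr borelSEquiv, Nat.card_prod, Nat.card_units, Nat.card_eq_fintype_card,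
    mul_comm]

theorem sum_borelS [Fintype BS] (f : F → F → ℂ) :
    ∑ b : BS, f (((b : S2) : M2) 0 0) (((b : S2) : M2) 0 1) = ∑ a : Fˣ, ∑ c : F, f a c := by
  rw [← Equiv.sum_comp (borelSEquiv (F := F)), Fintype.sum_prod_type]
  exact Finset.sum_congr rfl fun a _ => Finset.sum_congr rfl fun c _ => by
    show f (((upS a c : S2) : M2) 0 0) (((upS a c : S2) : M2) 0 1) = _
    simp [coe_upS]

variable [DecidableEq (MulChar F ℂ)]

/-- Inner products of principal series characters of SL₂. -/
theorem classInner_sprin (α α' : MulChar F ℂ) :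
    Cfsg.classInner (sprin α) (sprin α') =
      (if α = α' then 1 else 0) + (if α = α'⁻¹ then 1 else 0) := by
  have := Fintype.ofFinite BS
  rw [sprin, CharInduce.classInner_indFun_left _ _ _ (isClassFunction_sprin α'), classInner]
  have hz : ∀ (γ δ : MulChar F ℂ), γ (0 : F) * conj (δ 0) = 0 := fun γ δ => by
    rw [MulChar.map_nonunit γ not_isUnit_zero, zero_mul]
  have hsum : ∑ b : BS, borelFunS α b * conj (sprin α' (b : S2)) =
      (Fintype.card F : ℂ) * (∑ a : F, α a * conj (α' a) + ∑ a : F, α a * conj (α'⁻¹ a)) := by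
    rw [Finset.sum_congr rfl (fun b _ => by
      rw [sprin_upper α' (mem_borelSL.mp b.2), (entries_SL (mem_borelSL.mp b.2)).2])]
    simp only [borelFunS]
    rw [sum_borelS (fun a c => α a * conj (α' a +
      ((Finset.univ.filter (fun t : F => (a - a⁻¹) * t + c = 0)).card : ℂ) * α' a⁻¹)),
      ← sum_units (fun x => α x * conj (α' x)) (hz α α'),
      ← sum_units (fun x => α x * conj (α'⁻¹ x)) (hz α α'⁻¹), ← Finset.sum_add_distrib,
      Finset.mul_sum]
    refine Finset.sum_congr rfl fun a _ => ?_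
    have hN : ∑ c : F, ((Finset.univ.filter
        (fun t : F => ((a : F) - (a : F)⁻¹) * t + c = 0)).card : ℂ) = Fintype.card F := by
      rw [← Nat.cast_sum, ← Finset.card_univ, Finset.card_eq_sum_card_fiberwise (s := Finset.univ)
        (f := fun t : F => -(((a : F) - (a : F)⁻¹) * t)) (t := Finset.univ) (by simp)]
      congr 1
      refine Finset.sum_congr rfl fun c _ => congrArg Finset.card ?_
      ext t
      simp only [Finset.mem_filter, Finset.mem_univ, true_and]
      constructor <;> intro h <;> linear_combination -h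
    simp only [map_add, map_mul, Complex.conj_natCast, mul_add, Finset.sum_add_distrib,
      Finset.sum_const, Finset.card_univ, nsmul_eq_mul, MulChar.inv_apply']
    rw [← Finset.mul_sum, ← Finset.sum_mul, hN]
    ring
  have h1 : (Fintype.card F : ℂ) - 1 ≠ 0 := by
    rw [sub_ne_zero, Nat.cast_ne_one]
    exact Fintype.one_lt_card.ne'
  have h0 : (Fintype.card F : ℂ) ≠ 0 := Nat.cast_ne_zero.mpr Fintype.card_ne_zero
  rw [hsum, sum_mulChar_mul_conj, sum_mulChar_mul_conj, card_borelSL, Nat.cast_mul,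
    Nat.cast_sub Fintype.card_pos, Nat.cast_one]
  have key : ∀ (n : ℂ) (P : Prop) [Decidable P],
      (if P then n else 0) = n * (if P then 1 else 0) := by
    intro n P _
    split_ifs <;> simp
  rw [key _ (α = α'), key _ (α = α'⁻¹)]
  field_simp

theorem classInner_sprin_one (α : MulChar F ℂ) :
    Cfsg.classInner (sprin α) (fun _ : S2 => (1 : ℂ)) = if α = 1 then 1 else 0 := by
  have := Fintype.ofFinite BS
  have hz : ∀ (γ δ : MulChar F ℂ), γ (0 : F) * conj (δ 0) = 0 := fun γ δ => by
    rw [MulChar.map_nonunit γ not_isUnit_zero, zero_mul]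
  rw [sprin, CharInduce.classInner_indFun_left _ _ _ (fun _ _ => rfl), classInner]
  simp only [map_one, mul_one]
  simp only [borelFunS]
  rw [sum_borelS (fun a _ => α a)]
  have h : ∑ a : Fˣ, α (a : F) = ∑ a : F, α a * conj ((1 : MulChar F ℂ) a) := by
    rw [← sum_units (fun x => α x * conj ((1 : MulChar F ℂ) x)) (hz α 1)]
    exact Finset.sum_congr rfl fun a _ => by simp [MulChar.one_apply a.isUnit]
  simp only [Finset.sum_const, Finset.card_univ, nsmul_eq_mul, ← Finset.mul_sum, h,
    sum_mulChar_mul_conj, card_borelSL, Nat.cast_mul, Nat.cast_sub Fintype.card_pos, Nat.cast_one]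
  have h1 : (Fintype.card F : ℂ) - 1 ≠ 0 := by
    rw [sub_ne_zero, Nat.cast_ne_one]
    exact Fintype.one_lt_card.ne'
  have h0 : (Fintype.card F : ℂ) ≠ 0 := Nat.cast_ne_zero.mpr Fintype.card_ne_zero
  split_ifs <;> field_simp <;> simp

theorem isIrrCharacter_sprin_iff (α : MulChar F ℂ) :
    Cfsg.IsIrrCharacter S2 (sprin α) ↔ α ^ 2 ≠ 1 := by
  have e : α = α⁻¹ ↔ α ^ 2 = 1 := by rw [sq, ← mul_eq_one_iff_eq_inv]
  constructor
  · intro h hsq
    have h1 := CharBasic.classInner_irr_self h
    rw [classInner_sprin, if_pos rfl, if_pos (e.mpr hsq)] at h1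
    norm_num at h1
  · intro hsq
    refine CharInduce.isIrr_of_norm_one (isCharacter_sprin α) ?_
    rw [classInner_sprin, if_pos rfl, if_neg (fun h => hsq (e.mp h)), add_zero]

theorem sprin_eq_iff (α β : MulChar F ℂ) : sprin α = sprin β ↔ α = β ∨ α = β⁻¹ := by
  constructor
  · intro h
    have h1 := classInner_sprin α α
    conv_lhs at h1 => arg 2; rw [h]
    rw [classInner_sprin] at h1
    by_contra hne
    push Not at hne
    rw [if_neg hne.1, if_neg hne.2, if_pos rfl] at h1
    split_ifs at h1 <;> norm_num at h1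
  · rintro (rfl | rfl)
    · rfl
    · rw [← sub_eq_zero, ← CharBasic.classInner_self_eq_zero, CharBasic.classInner_sub_left,
        CharBasic.classInner_sub_right, CharBasic.classInner_sub_right, classInner_sprin,
        classInner_sprin, classInner_sprin, classInner_sprin]
      by_cases h : β = β⁻¹
      · rw [← h]; simp [← h]
      · simp [h, Ne.symm h]

/-- `c ↦ d c d⁻¹` for `d = diag(ε, 1)`, on matrices. -/
def conjMat (ε : Fˣ) (A : M2) : M2 :=
  !![A 0 0, (ε : F) * A 0 1; ((ε⁻¹ : Fˣ) : F) * A 1 0, A 1 1]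

/-- `c ↦ d c d⁻¹` for `d = diag(ε, 1)`. -/
def conjS (ε : Fˣ) : S2 →* S2 where
  toFun g := ⟨conjMat ε (g : M2), by
    rw [conjMat, Matrix.det_fin_two_of]
    linear_combination Linear.SL_det_two g - (g : M2) 0 1 * (g : M2) 1 0 * ε.mul_inv⟩
  map_one' := Subtype.ext (Linear.ext_two (by simp [conjMat]) (by simp [conjMat])
    (by simp [conjMat]) (by simp [conjMat]))
  map_mul' g h := Subtype.ext (by
    show conjMat ε ((g : M2) * (h : M2)) = conjMat ε (g : M2) * conjMat ε (h : M2)
    apply Linear.ext_two <;> simp [conjMat, Linear.mul_two_apply] <;> field_simp)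

theorem coe_conjS (ε : Fˣ) (g : S2) : ((conjS ε g : S2) : M2) = conjMat ε (g : M2) := rfl

theorem conjS_surjective (ε : Fˣ) : Function.Surjective (conjS (F := F) ε) := fun g =>
  ⟨conjS ε⁻¹ g, by apply Linear.SL_ext_two <;> simp [coe_conjS, conjMat]⟩

theorem toGL_conjS (ε : Fˣ) (g : S2) :
    Matrix.SpecialLinearGroup.toGL (conjS ε g) =
      Linear.glOfDet !![(ε : F), 0; 0, 1] (by simp [Matrix.det_fin_two_of]) *
        Matrix.SpecialLinearGroup.toGL g *
      (Linear.glOfDet !![(ε : F), 0; 0, 1] (by simp [Matrix.det_fin_two_of]) : G2)⁻¹ := by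
  rw [eq_mul_inv_iff_mul_eq]
  apply Linear.GL_ext_two <;>
    simp only [Units.val_mul, Matrix.SpecialLinearGroup.coe_GL_coe_matrix, Linear.glOfDet_coe,
      Linear.mul_two_apply] <;>
    simp [coe_conjS, conjMat] <;> field_simp

omit [DecidableEq (MulChar F ℂ)] in
theorem sprin_conjS (α : MulChar F ℂ) (ε : Fˣ) (g : S2) : sprin α (conjS ε g) = sprin α g := by
  rw [sprin_eq, sprin_eq, toGL_conjS, isClassFunction_prin]

end Cfsg.Agent.H53
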