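import Mathlib
import Cfsg.Agent.CharBasic.Rep
import Cfsg.Agent.H53.SLPerm

/-!
Complex representations of SL(m + 1, q) restricted to the unipotent radical of the stabiliser of a
point: the projectors onto the weight spaces.
-/

set_option autoImplicit false
set_option linter.unusedSectionVars false

namespace Cfsg.Agent.H53

open Matrix Finset
open Matrix.SpecialLinearGroup (transvection)

variable {F : Type*} [Field F] [Fintype F] [DecidableEq F]

section Elements

variable {n : ℕ}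

theorem det_tv {u φ : Fin n → F} (h : φ ⬝ᵥ u = 0) : (1 + vecMulVec u φ).det = 1 := by
  rw [vecMulVec_eq Unit, det_one_add_replicateCol_mul_replicateRow, h, add_zero]

/-- The transvection `x ↦ x + (φ ⬝ᵥ x) • u`. -/
def tvec (u φ : Fin n → F) (h : φ ⬝ᵥ u = 0) : Matrix.SpecialLinearGroup (Fin n) F :=
  ⟨1 + vecMulVec u φ, det_tv h⟩

theorem act_tvec (u φ : Fin n → F) (h : φ ⬝ᵥ u = 0) (x : Fin n → F) :
    act (tvec u φ h) x = x + (φ ⬝ᵥ x) • u := by
  show (1 + vecMulVec u φ) *ᵥ x = _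
  rw [add_mulVec, one_mulVec, vecMulVec_mulVec, op_smul_eq_smul]

theorem act_ext {g h : Matrix.SpecialLinearGroup (Fin n) F} (H : ∀ x, act g x = act h x) : g = h :=
  Subtype.ext (Matrix.ext_iff_mulVec.2 H)

theorem mul_tvec (g : Matrix.SpecialLinearGroup (Fin n) F) {u φ ψ : Fin n → F} (h : φ ⬝ᵥ u = 0)
    (h' : ψ ⬝ᵥ act g u = 0) (e : ψ ᵥ* (g : Matrix (Fin n) (Fin n) F) = φ) :
    g * tvec u φ h = tvec (act g u) ψ h' * g := by
  refine act_ext fun x => ?_
  rw [act_mul, act_mul, act_tvec, act_tvec]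
  show (g : Matrix (Fin n) (Fin n) F) *ᵥ _ = _
  rw [mulVec_add, mulVec_smul, ← e, ← dotProduct_mulVec]
  rfl

theorem tvec_mul_tvec (u φ ψ : Fin n → F) (h : φ ⬝ᵥ u = 0) (h' : ψ ⬝ᵥ u = 0) :
    tvec u φ h * tvec u ψ h' = tvec u (φ + ψ) (by rw [add_dotProduct, h, h', add_zero]) := by
  refine act_ext fun x => ?_
  rw [act_mul, act_tvec, act_tvec, act_tvec, dotProduct_add, dotProduct_smul, h, add_dotProduct]
  module

theorem smul_tvec (u φ : Fin n → F) (c : F) (h : φ ⬝ᵥ (c • u) = 0) (h' : (c • φ) ⬝ᵥ u = 0) :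
    tvec (c • u) φ h = tvec u (c • φ) h' := by
  refine act_ext fun x => ?_
  rw [act_tvec, act_tvec, smul_dotProduct, smul_smul, smul_eq_mul, mul_comm]

/-- All transvections are conjugate. -/
theorem isConj_tvec (hn : 3 ≤ n) {u φ u' φ' : Fin n → F} (h : φ ⬝ᵥ u = 0) (h' : φ' ⬝ᵥ u' = 0)
    (hu : u ≠ 0) (hφ : φ ≠ 0) (hu' : u' ≠ 0) (hφ' : φ' ≠ 0) :
    IsConj (tvec u φ h) (tvec u' φ' h') := by
  classical
  set i0 : Fin n := ⟨0, by omega⟩
  set i1 : Fin n := ⟨1, by omega⟩
  have hij : i1 ≠ i0 := by simp [i0, i1]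
  have hd : (Pi.single i1 1 : Fin n → F) ⬝ᵥ Pi.single i0 1 = 0 := by
    rw [single_dotProduct, one_mul, Pi.single_eq_of_ne hij]
  suffices key : ∀ {u φ : Fin n → F} (h : φ ⬝ᵥ u = 0), u ≠ 0 → φ ≠ 0 →
      IsConj (tvec u φ h) (tvec (Pi.single i0 1) (Pi.single i1 1) hd) from
    (key h hu hφ).trans (key h' hu' hφ').symm
  intro u φ h hu hφ
  obtain ⟨j, hj⟩ : ∃ j, φ j ≠ 0 := Function.ne_iff.1 hφ
  set w : Fin n → F := Pi.single j (φ j)⁻¹
  have hw : φ ⬝ᵥ w = 1 := by rw [dotProduct_single, mul_inv_cancel₀ hj]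
  have hli : LinearIndependent F ![u, w] := by
    rw [LinearIndependent.pair_iff]
    intro s t e
    have ht : t = 0 := by
      have := congrArg (φ ⬝ᵥ ·) e
      simpa [dotProduct_add, dotProduct_smul, h, hw] using this
    subst ht
    rw [zero_smul, add_zero, smul_eq_zero] at e
    exact ⟨e.resolve_right hu, rfl⟩
  obtain ⟨g, hg⟩ := exists_act_eq ![u, w] hli (by omega : 2 < n)
  have hg0 : act g (Pi.single i0 1) = u := hg 0
  have hg1 : act g (Pi.single i1 1) = w := hg 1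
  set ψ := φ ᵥ* (g : Matrix (Fin n) (Fin n) F) with hψ
  have hψx : ∀ x, ψ ⬝ᵥ x = φ ⬝ᵥ act g x := fun x => by
    rw [hψ, ← dotProduct_mulVec]; rfl
  have hψ0 : ψ ⬝ᵥ Pi.single i0 1 = 0 := by rw [hψx, hg0, h]
  have hψ1 : ψ ⬝ᵥ Pi.single i1 1 = 1 := by rw [hψx, hg1, hw]
  have hh : (ψ - Pi.single i1 1) ⬝ᵥ (Pi.single i1 1 : Fin n → F) = 0 := by
    rw [sub_dotProduct, hψ1, single_dotProduct, one_mul, Pi.single_eq_same, sub_self]
  set k := tvec (Pi.single i1 1 : Fin n → F) (ψ - Pi.single i1 1) hh with hk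
  have hk0 : act k (Pi.single i0 1) = Pi.single i0 1 := by
    rw [hk, act_tvec, sub_dotProduct, hψ0, hd, sub_zero, zero_smul, add_zero]
  have hkψ : (Pi.single i1 1 : Fin n → F) ᵥ* (k : Matrix (Fin n) (Fin n) F) = ψ := by
    show _ ᵥ* (1 + vecMulVec _ _) = _
    rw [vecMul_add, vecMul_one, vecMul_vecMulVec]
    simp [dotProduct_single]
  have c1 : IsConj (tvec (Pi.single i0 1) ψ hψ0) (tvec u φ h) := by
    rw [isConj_iff]
    refine ⟨g, mul_inv_eq_iff_eq_mul.2 ?_⟩
    rw [mul_tvec g hψ0 (by rw [hg0]; exact h) rfl]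
    congr 2
  have c2 : IsConj (tvec (Pi.single i0 1) ψ hψ0) (tvec (Pi.single i0 1) (Pi.single i1 1) hd) := by
    rw [isConj_iff]
    refine ⟨k, mul_inv_eq_iff_eq_mul.2 ?_⟩
    rw [mul_tvec k hψ0 (by rw [hk0]; exact hd) hkψ]
    congr 2
  exact c1.symm.trans c2

theorem transvection_eq_tvec {i j : Fin n} (hij : i ≠ j) (c : F) :
    transvection hij c = tvec (Pi.single i 1) (Pi.single j c)
      (by rw [single_dotProduct, Pi.single_eq_of_ne hij.symm, mul_zero]) := by
  refine act_ext fun x => ?_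
  rw [act_tvec]
  show (Matrix.SpecialLinearGroup.transvection hij c : Matrix (Fin n) (Fin n) F) *ᵥ x = _
  rw [Matrix.SpecialLinearGroup.transvection_coe, add_mulVec, one_mulVec, single_mulVec_eq,
    single_dotProduct]

end Elements

variable {m : ℕ}

/-- The elements of the abelian radical. -/
def sh (v : Fin m → F) : Matrix.SpecialLinearGroup (Fin (m + 1)) F :=
  tvec (Pi.single 0 1) (Fin.cons 0 v) (by simp [dotProduct_single])

theorem act_sh (v : Fin m → F) (x : Fin (m + 1) → F) :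
    act (sh v) x = x + (v ⬝ᵥ Fin.tail x) • Pi.single 0 1 := by
  rw [sh, act_tvec]
  congr 2
  simp [dotProduct, Fin.sum_univ_succ, Fin.tail]

theorem tail_add_single (x : Fin (m + 1) → F) (s : F) :
    Fin.tail (x + s • (Pi.single 0 1 : Fin (m + 1) → F)) = Fin.tail x := by
  ext i
  simp [Fin.tail, Pi.single_eq_of_ne (Fin.succ_ne_zero i)]

theorem sh_add (v w : Fin m → F) : sh (v + w) = sh v * sh w := by
  refine act_ext fun x => ?_
  rw [act_mul, act_sh, act_sh, act_sh, add_dotProduct, add_smul]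
  have e : Fin.tail (x + (w ⬝ᵥ Fin.tail x) • (Pi.single 0 1 : Fin (m + 1) → F)) = Fin.tail x := by
    ext i
    simp [Fin.tail, Pi.single_eq_of_ne (Fin.succ_ne_zero i)]
  rw [e]
  abel

theorem sh_zero : sh (0 : Fin m → F) = 1 := by
  refine act_ext fun x => ?_
  rw [act_sh, act_one, zero_dotProduct, zero_smul, add_zero]

/-- The block diagonal matrix. -/
def blkMat (c : F) (A : Matrix (Fin m) (Fin m) F) : Matrix (Fin (m + 1)) (Fin (m + 1)) F :=
  Matrix.of (Fin.cons (Fin.cons c 0) fun i => Fin.cons 0 (A i))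

theorem blkMat_mulVec (c : F) (A : Matrix (Fin m) (Fin m) F) (x : Fin (m + 1) → F) :
    blkMat c A *ᵥ x = Fin.cons (c * x 0) (A *ᵥ Fin.tail x) := by
  ext i
  refine Fin.cases ?_ (fun i => ?_) i
  · simp [blkMat, mulVec, dotProduct, Fin.sum_univ_succ]
  · simp [blkMat, mulVec, dotProduct, Fin.sum_univ_succ, Fin.tail]

theorem det_blkMat (c : F) (A : Matrix (Fin m) (Fin m) F) : (blkMat c A).det = c * A.det := by
  rw [det_succ_column_zero, Finset.sum_eq_single 0]
  · simp [blkMat, submatrix]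
    left
    rfl
  · intro b _ hb
    obtain ⟨b, rfl⟩ := Fin.exists_succ_eq.2 hb
    simp [blkMat]
  · simp

/-- The block diagonal element. -/
def blk (c : F) (A : Matrix (Fin m) (Fin m) F) (h : c * A.det = 1) :
    Matrix.SpecialLinearGroup (Fin (m + 1)) F := ⟨blkMat c A, by rw [det_blkMat, h]⟩

theorem act_blk (c : F) (A : Matrix (Fin m) (Fin m) F) (h : c * A.det = 1) (x : Fin (m + 1) → F) :
    act (blk c A h) x = Fin.cons (c * x 0) (A *ᵥ Fin.tail x) := blkMat_mulVec c A x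

theorem blk_mul_sh {c : F} {A : Matrix (Fin m) (Fin m) F} (h : c * A.det = 1) {v w : Fin m → F}
    (e : w ᵥ* A = c • v) : blk c A h * sh v = sh w * blk c A h := by
  refine act_ext fun x => ?_
  rw [act_mul, act_mul, act_blk, act_blk, act_sh, act_sh, Fin.tail_cons, tail_add_single,
    dotProduct_mulVec w A, e, smul_dotProduct]
  ext i
  refine Fin.cases ?_ (fun i => ?_) i
  · simp [mul_add]
  · simp [Pi.single_eq_of_ne (Fin.succ_ne_zero i)]

/-- The embedding of SL(m). -/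
def emb : Matrix.SpecialLinearGroup (Fin m) F →* Matrix.SpecialLinearGroup (Fin (m + 1)) F where
  toFun A := blk 1 A.1 (by rw [one_mul, A.2])
  map_one' := act_ext fun x => by
    rw [act_blk, act_one, one_mul, Matrix.SpecialLinearGroup.coe_one, one_mulVec, Fin.cons_self_tail]
  map_mul' A B := act_ext fun x => by
    rw [act_mul, act_blk, act_blk, act_blk, Fin.tail_cons, Fin.cons_zero, one_mul, one_mul,
      Matrix.SpecialLinearGroup.coe_mul, mulVec_mulVec]

theorem act_emb (A : Matrix.SpecialLinearGroup (Fin m) F) (x : Fin (m + 1) → F) :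
    act (emb A) x = Fin.cons (x 0) (act A (Fin.tail x)) := by
  show act (blk 1 A.1 (by rw [one_mul, A.2])) x = _
  rw [act_blk, one_mul]
  rfl

theorem emb_tvec (u φ : Fin m → F) (h : φ ⬝ᵥ u = 0) :
    emb (tvec u φ h) = tvec (Fin.cons 0 u) (Fin.cons 0 φ)
      (by simpa [dotProduct, Fin.sum_univ_succ] using h) := by
  refine act_ext fun x => ?_
  rw [act_emb, act_tvec, act_tvec]
  have e : (Fin.cons 0 φ : Fin (m + 1) → F) ⬝ᵥ x = φ ⬝ᵥ Fin.tail x := by
    simp [dotProduct, Fin.sum_univ_succ, Fin.tail]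
  rw [e]
  ext i
  refine Fin.cases ?_ (fun i => ?_) i <;> simp [Fin.tail]

/-! ### The projectors -/

section Proj

variable (ψ : AddChar F ℂ) {V : Type*} [AddCommGroup V] [Module ℂ V]
  (ρ : Representation ℂ (Matrix.SpecialLinearGroup (Fin (m + 1)) F) V)

/-- The projector onto the weight space of `y`. -/
noncomputable def wproj (y : Fin m → F) : Module.End ℂ V :=
  ((Fintype.card F : ℂ) ^ m)⁻¹ • ∑ v : Fin m → F, ψ (-(y ⬝ᵥ v)) • ρ (sh v)

theorem card_vec_ne_zero : ((Fintype.card F : ℂ) ^ m) ≠ 0 :=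
  pow_ne_zero _ (Nat.cast_ne_zero.2 Fintype.card_ne_zero)

theorem card_vec : ((Fintype.card (Fin m → F) : ℕ) : ℂ) = (Fintype.card F : ℂ) ^ m := by
  rw [Fintype.card_fun, Fintype.card_fin, Nat.cast_pow]

theorem sum_char_dot (hψ : ψ.IsPrimitive) (a : Fin m → F) :
    ∑ v : Fin m → F, ψ (a ⬝ᵥ v) = if a = 0 then (Fintype.card F : ℂ) ^ m else 0 := by
  classical
  let χ : AddChar (Fin m → F) ℂ :=
    { toFun := fun v => ψ (a ⬝ᵥ v)
      map_zero_eq_one' := by simp
      map_add_eq_mul' := fun v w => by simp [dotProduct_add, AddChar.map_add_eq_mul] }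
  split_ifs with h
  · subst h
    simp [card_vec]
  · show ∑ v, χ v = 0
    refine AddChar.sum_eq_zero_of_ne_one fun hχ => h ?_
    funext i
    by_contra hi
    refine hψ hi ?_
    ext x
    have := DFunLike.congr_fun hχ (Pi.single i x)
    simpa [χ, dotProduct_single] using this

theorem sum_wproj (hψ : ψ.IsPrimitive) : ∑ y, wproj ψ ρ y = 1 := by
  classical
  simp only [wproj]
  rw [← Finset.smul_sum, Finset.sum_comm]
  simp only [← Finset.sum_smul]
  have e : ∀ v : Fin m → F, ∑ y : Fin m → F, ψ (-(y ⬝ᵥ v)) =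
      if v = 0 then (Fintype.card F : ℂ) ^ m else 0 := by
    intro v
    have h := sum_char_dot ψ hψ (-v)
    simp only [neg_eq_zero] at h
    rw [← h]
    exact Finset.sum_congr rfl fun y _ => by rw [dotProduct_comm, neg_dotProduct]
  simp only [e, ite_smul, zero_smul]
  rw [Finset.sum_ite_eq' Finset.univ (0 : Fin m → F), if_pos (Finset.mem_univ _), smul_smul,
    inv_mul_cancel₀ card_vec_ne_zero, one_smul, sh_zero, map_one]

theorem wproj_mul (hψ : ψ.IsPrimitive) (y z : Fin m → F) :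
    wproj ψ ρ y * wproj ψ ρ z = if y = z then wproj ψ ρ y else 0 := by
  classical
  simp only [wproj]
  rw [smul_mul_smul_comm, Finset.sum_mul]
  have e : ∀ v : Fin m → F, ψ (-(y ⬝ᵥ v)) • ρ (sh v) * ∑ w, ψ (-(z ⬝ᵥ w)) • ρ (sh w) =
      ∑ w, (ψ ((z - y) ⬝ᵥ v) * ψ (-(z ⬝ᵥ w))) • ρ (sh w) := by
    intro v
    rw [Finset.mul_sum]
    refine Fintype.sum_equiv (Equiv.addLeft v) _ _ fun w => ?_
    rw [Equiv.coe_addLeft, smul_mul_smul_comm, ← map_mul ρ, ← sh_add, ← AddChar.map_add_eq_mul,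
      ← AddChar.map_add_eq_mul]
    congr 2
    rw [sub_dotProduct, dotProduct_add]
    ring
  rw [Finset.sum_congr rfl fun v _ => e v, Finset.sum_comm]
  simp only [← Finset.sum_smul, ← Finset.sum_mul, sum_char_dot ψ hψ, sub_eq_zero]
  by_cases h : y = z
  · subst h
    simp only [if_true, ← smul_smul, ← Finset.smul_sum]
    congr 1
    rw [smul_smul, inv_mul_cancel₀ card_vec_ne_zero, one_smul]
  · simp [h, Ne.symm h]

theorem isIdempotentElem_wproj (hψ : ψ.IsPrimitive) (y : Fin m → F) :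
    IsIdempotentElem (wproj ψ ρ y) := by
  show _ * _ = _
  rw [wproj_mul ψ ρ hψ, if_pos rfl]

/-- Conjugation moves the weights. -/
theorem blk_mul_wproj {c : F} {A : Matrix (Fin m) (Fin m) F} (h : c * A.det = 1) (y : Fin m → F) :
    ρ (blk c A h) * wproj ψ ρ y = wproj ψ ρ (c⁻¹ • (A *ᵥ y)) * ρ (blk c A h) := by
  classical
  have hc : c ≠ 0 := left_ne_zero_of_mul_eq_one h
  have hA : A.det ≠ 0 := right_ne_zero_of_mul_eq_one h
  simp only [wproj]
  rw [mul_smul_comm, smul_mul_assoc, Finset.mul_sum, Finset.sum_mul]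
  congr 1
  have hinj : Function.Injective fun w : Fin m → F => c⁻¹ • (w ᵥ* A) := fun w w' e =>
    vecMul_injective_iff_isUnit.2 ((isUnit_iff_isUnit_det A).2 (Ne.isUnit hA))
      (smul_right_injective _ (inv_ne_zero hc) e)
  refine (Fintype.sum_bijective _ ⟨hinj, Finite.surjective_of_injective hinj⟩ _ _ fun w => ?_).symm
  rw [smul_mul_assoc, mul_smul_comm, ← map_mul, ← map_mul,
    blk_mul_sh h (v := c⁻¹ • (w ᵥ* A)) (w := w) (by rw [smul_smul, mul_inv_cancel₀ hc, one_smul])]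
  congr 3
  rw [smul_dotProduct, dotProduct_smul, dotProduct_comm (A *ᵥ y), dotProduct_mulVec, dotProduct_comm]

theorem emb_mul_wproj (A : Matrix.SpecialLinearGroup (Fin m) F) (y : Fin m → F) :
    ρ (emb A) * wproj ψ ρ y = wproj ψ ρ (act A y) * ρ (emb A) := by
  have h := blk_mul_wproj ψ ρ (c := 1) (A := A.1) (by rw [one_mul, A.2]) y
  rwa [inv_one, one_smul] at h

theorem sh_mul_wproj_zero (v : Fin m → F) : ρ (sh v) * wproj ψ ρ 0 = wproj ψ ρ 0 := by
  simp only [wproj, zero_dotProduct, neg_zero, AddChar.map_zero_eq_one, one_smul]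
  rw [mul_smul_comm, Finset.mul_sum]
  congr 1
  exact Fintype.sum_equiv (Equiv.addLeft v) _ _ fun w => by rw [← map_mul, ← sh_add]; rfl

variable [FiniteDimensional ℂ V]

theorem trace_wproj_nat (hψ : ψ.IsPrimitive) (y : Fin m → F) :
    LinearMap.trace ℂ V (wproj ψ ρ y) =
      (Module.finrank ℂ (LinearMap.range (wproj ψ ρ y)) : ℂ) :=
  LinearMap.IsProj.trace (LinearMap.IsIdempotentElem.isProj_range _ (isIdempotentElem_wproj ψ ρ hψ y))

/-- The data when all non-trivial elements of the radical have the same trace. -/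
theorem exists_mult (hψ : ψ.IsPrimitive) (hm : 0 < m) {θ : ℂ}
    (hθ : ∀ v, v ≠ 0 → ρ.character (sh v) = θ) :
    ∃ a k : ℕ, Module.finrank ℂ (LinearMap.range (wproj ψ ρ 0)) = a ∧
      (∀ y, y ≠ 0 → LinearMap.trace ℂ V (wproj ψ ρ y) = k) ∧
      Module.finrank ℂ V = a + (Fintype.card F ^ m - 1) * k ∧ θ = (a : ℂ) - k := by
  classical
  set N : ℂ := (Fintype.card F : ℂ) ^ m
  have hN : N ≠ 0 := card_vec_ne_zero
  have hval : ∀ y, LinearMap.trace ℂ V (wproj ψ ρ y) =
      N⁻¹ * ((Module.finrank ℂ V : ℂ) - θ + (if y = 0 then N else 0) * θ) := by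
    intro y
    simp only [wproj, map_smul, map_sum, smul_eq_mul]
    congr 1
    have e : ∀ v : Fin m → F, ψ (-(y ⬝ᵥ v)) * LinearMap.trace ℂ V (ρ (sh v)) =
        (if v = 0 then (Module.finrank ℂ V : ℂ) - θ else 0) + ψ ((-y) ⬝ᵥ v) * θ := by
      intro v
      rw [neg_dotProduct]
      split_ifs with hv
      · subst hv
        rw [sh_zero, map_one, LinearMap.trace_one, dotProduct_zero, neg_zero, AddChar.map_zero_eq_one]
        ring
      · rw [zero_add, ← hθ v hv]; rfl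
    rw [Finset.sum_congr rfl fun v _ => e v, Finset.sum_add_distrib, Finset.sum_ite_eq',
      if_pos (Finset.mem_univ _), ← Finset.sum_mul, sum_char_dot ψ hψ]
    simp only [neg_eq_zero]
    rfl
  have : Nonempty (Fin m) := ⟨⟨0, hm⟩⟩
  obtain ⟨y0, hy0⟩ := exists_ne (0 : Fin m → F)
  refine ⟨_, Module.finrank ℂ (LinearMap.range (wproj ψ ρ y0)), rfl, fun y hy => ?_, ?_, ?_⟩
  · rw [← trace_wproj_nat ψ ρ hψ, hval, hval, if_neg hy, if_neg hy0]
  · have h0 := hval 0
    have h1 := hval y0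
    rw [trace_wproj_nat ψ ρ hψ] at h0 h1
    rw [if_pos rfl] at h0
    rw [if_neg hy0] at h1
    refine Nat.cast_injective (R := ℂ) ?_
    rw [Nat.cast_add, Nat.cast_mul, Nat.cast_sub (Nat.one_le_pow _ _ Fintype.card_pos), Nat.cast_pow,
      Nat.cast_one, h0, h1]
    field_simp
    ring
  · have h0 := hval 0
    have h1 := hval y0
    rw [trace_wproj_nat ψ ρ hψ] at h0 h1
    rw [if_pos rfl] at h0
    rw [if_neg hy0] at h1
    rw [h0, h1]
    field_simp
    ring

/-- An operator commuting with a projector of rank one is scalar on it. -/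
theorem exists_scalar_of_rank_one (hψ : ψ.IsPrimitive) {y : Fin m → F}
    (h1 : LinearMap.trace ℂ V (wproj ψ ρ y) = 1) {f : Module.End ℂ V}
    (hf : f * wproj ψ ρ y = wproj ψ ρ y * f) : ∃ w : ℂ, f * wproj ψ ρ y = w • wproj ψ ρ y := by
  rw [trace_wproj_nat ψ ρ hψ, Nat.cast_eq_one] at h1
  obtain ⟨⟨v0, hv0⟩, -, hspan⟩ := finrank_eq_one_iff'.1 h1
  have hp := LinearMap.IsIdempotentElem.isProj_range _ (isIdempotentElem_wproj ψ ρ hψ y)
  have hmem : f v0 ∈ LinearMap.range (wproj ψ ρ y) :=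
    ⟨f v0, by
      have := LinearMap.congr_fun hf v0
      rw [Module.End.mul_apply, Module.End.mul_apply, hp.map_id v0 hv0] at this
      exact this.symm⟩
  obtain ⟨w, hw⟩ := hspan ⟨f v0, hmem⟩
  refine ⟨w, LinearMap.ext fun x => ?_⟩
  obtain ⟨c, hc⟩ := hspan ⟨wproj ψ ρ y x, ⟨x, rfl⟩⟩
  have hc' : c • v0 = wproj ψ ρ y x := congrArg Subtype.val hc
  have hw' : w • v0 = f v0 := congrArg Subtype.val hw
  rw [Module.End.mul_apply, LinearMap.smul_apply, ← hc', map_smul, ← hw', smul_comm]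

theorem scalar_ne_zero (hψ : ψ.IsPrimitive) {y : Fin m → F}
    (h1 : LinearMap.trace ℂ V (wproj ψ ρ y) = 1) {g : Matrix.SpecialLinearGroup (Fin (m + 1)) F}
    {w : ℂ} (h : ρ g * wproj ψ ρ y = w • wproj ψ ρ y) : w ≠ 0 := by
  rintro rfl
  have := congrArg (ρ g⁻¹ * ·) h
  simp only [zero_smul, mul_zero, ← mul_assoc, ← map_mul, inv_mul_cancel, map_one, one_mul] at this
  rw [this, map_zero] at h1
  exact zero_ne_one h1

theorem scalar_unique {y : Fin m → F} (h1 : LinearMap.trace ℂ V (wproj ψ ρ y) = 1) {a b : ℂ}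
    (h : a • wproj ψ ρ y = b • wproj ψ ρ y) : a = b := by
  have := congrArg (LinearMap.trace ℂ V) h
  simpa [h1] using this

/-- A commutator inside the stabiliser acts trivially on a line. -/
theorem commutator_trivial (hψ : ψ.IsPrimitive) {y : Fin m → F}
    (h1 : LinearMap.trace ℂ V (wproj ψ ρ y) = 1) {g h t : Matrix.SpecialLinearGroup (Fin (m + 1)) F}
    (hg : ρ g * wproj ψ ρ y = wproj ψ ρ y * ρ g) (hh : ρ h * wproj ψ ρ y = wproj ψ ρ y * ρ h)
    (ht : t * (h * g) = g * h) : ρ t * wproj ψ ρ y = wproj ψ ρ y := by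
  obtain ⟨a, ha⟩ := exists_scalar_of_rank_one ψ ρ hψ h1 hg
  obtain ⟨b, hb⟩ := exists_scalar_of_rank_one ψ ρ hψ h1 hh
  have ha0 := scalar_ne_zero ψ ρ hψ h1 ha
  have hb0 := scalar_ne_zero ψ ρ hψ h1 hb
  have h2 : ρ (t * (h * g)) * wproj ψ ρ y = ρ (g * h) * wproj ψ ρ y := by rw [ht]
  simp only [map_mul, mul_assoc, ha, hb, mul_smul_comm, smul_smul] at h2
  rw [mul_comm b a] at h2
  exact smul_right_injective _ (mul_ne_zero ha0 hb0) h2

/-- Trace splits along the weights. -/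
theorem character_emb_eq (hψ : ψ.IsPrimitive) (A : Matrix.SpecialLinearGroup (Fin m) F) :
    ρ.character (emb A) = ∑ y, LinearMap.trace ℂ V (ρ (emb A) * wproj ψ ρ y) := by
  rw [← map_sum, ← Finset.mul_sum, sum_wproj ψ ρ hψ, mul_one]
  rfl

theorem trace_emb_wproj_of_moved (hψ : ψ.IsPrimitive) {A : Matrix.SpecialLinearGroup (Fin m) F}
    {y : Fin m → F} (hy : act A y ≠ y) :
    LinearMap.trace ℂ V (ρ (emb A) * wproj ψ ρ y) = 0 := by
  conv_lhs => rw [← (isIdempotentElem_wproj ψ ρ hψ y).eq, ← mul_assoc, emb_mul_wproj, mul_assoc,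
    LinearMap.trace_mul_comm, mul_assoc, wproj_mul ψ ρ hψ, if_neg (Ne.symm hy), mul_zero, map_zero]

/-- The representation of SL(m) on the fixed space of the radical. -/
noncomputable def fixSub : Subrepresentation (ρ.comp (emb (F := F) (m := m))) where
  toSubmodule := LinearMap.range (wproj ψ ρ 0)
  apply_mem_toSubmodule A v hv := by
    obtain ⟨x, rfl⟩ := hv
    refine ⟨ρ (emb A) x, ?_⟩
    have h := LinearMap.congr_fun (emb_mul_wproj ψ ρ A 0) x
    rw [show act A 0 = 0 from mulVec_zero _] at h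
    exact h.symm

/-- The representation of SL(m) on the fixed space of the radical. -/
noncomputable def fixRep : Representation ℂ (Matrix.SpecialLinearGroup (Fin m) F)
    (LinearMap.range (wproj ψ ρ 0)) := (fixSub ψ ρ).toRepresentation

theorem fixRep_character (hψ : ψ.IsPrimitive) (A : Matrix.SpecialLinearGroup (Fin m) F) :
    (fixRep ψ ρ).character A = LinearMap.trace ℂ V (ρ (emb A) * wproj ψ ρ 0) := by
  have hp := LinearMap.IsIdempotentElem.isProj_range _ (isIdempotentElem_wproj ψ ρ hψ 0)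
  have hr : ∀ x, (ρ (emb A) * wproj ψ ρ 0) x ∈ LinearMap.range (wproj ψ ρ 0) := fun x =>
    (fixSub ψ ρ).apply_mem_toSubmodule A ⟨x, rfl⟩
  rw [← LinearMap.trace_restrict_eq_of_forall_mem _ _ hr]
  show LinearMap.trace ℂ _ _ = _
  congr 1
  refine LinearMap.ext fun x => Subtype.ext ?_
  show ρ (emb A) x = (ρ (emb A) * wproj ψ ρ 0) x
  rw [Module.End.mul_apply, hp.map_id x.1 x.2]

end Proj

end Cfsg.Agent.H53
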