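import Cfsg.Agent.H53.SLHalf

/-!
The list of irreducible characters of SL₂ over a finite field.
-/

set_option autoImplicit false
set_option linter.unusedSectionVars false

namespace Cfsg.Agent.H53

open Matrix Finset
open scoped ComplexConjugate

variable {F : Type*} [Field F] [Fintype F] [DecidableEq F] [DecidableEq (MulChar F ℂ)]

local notation "M2" => Matrix (Fin 2) (Fin 2) F
local notation "S2" => Matrix.SpecialLinearGroup (Fin 2) F

theorem irr_cases {χ : S2 → ℂ} (hχ : Cfsg.IsIrrCharacter S2 χ) :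
    χ = (fun _ => 1) ∨ χ = stS ∨ (∃ α : MulChar F ℂ, α ^ 2 ≠ 1 ∧ χ = sprin α) ∨
      (∃ ε : MulChar F ℂ, ε ^ 2 = 1 ∧ ε ≠ 1 ∧ IsHalf ε χ) ∨ IsCuspS χ := by
  by_cases hc : IsCuspS χ
  · exact Or.inr (Or.inr (Or.inr (Or.inr hc)))
  · simp only [IsCuspS, not_forall] at hc
    obtain ⟨α, hα⟩ := hc
    by_cases h2 : α ^ 2 = 1
    · by_cases h1 : α = 1
      · subst h1
        rcases eq_of_classInner_sprin_one_ne hχ hα with h | h
        · exact Or.inl h
        · exact Or.inr (Or.inl h)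
      · exact Or.inr (Or.inr (Or.inr (Or.inl ⟨α, h2, h1, hχ, hα⟩)))
    · exact Or.inr (Or.inr (Or.inl ⟨α, h2, eq_of_classInner_sprin_ne hχ h2 hα⟩))

theorem sprin_not_cusp {α : MulChar F ℂ} : ¬ IsCuspS (sprin α) := fun h => by
  have h1 := h α
  rw [classInner_sprin, if_pos rfl] at h1
  split_ifs at h1 <;> norm_num at h1

theorem IsHalf.ne_one {ε : MulChar F ℂ} {h : Matrix.SpecialLinearGroup (Fin 2) F → ℂ}
    (H : IsHalf ε h) (hε1 : ε ≠ 1) : h ≠ fun _ => 1 := fun e =>
  H.2 (by rw [e, classInner_sprin_one, if_neg hε1])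

theorem IsHalf.ne_stS {ε : MulChar F ℂ} {h : Matrix.SpecialLinearGroup (Fin 2) F → ℂ}
    (H : IsHalf ε h) (hε1 : ε ≠ 1) : h ≠ stS := fun e =>
  H.2 (by rw [e, classInner_sprin_stS hε1])

theorem IsHalf.ne_sprin {ε α : MulChar F ℂ} {h : Matrix.SpecialLinearGroup (Fin 2) F → ℂ}
    (H : IsHalf ε h) (hε : ε ^ 2 = 1) (hα : α ^ 2 ≠ 1) : h ≠ sprin α := fun e => by
  apply H.2
  rw [e, classInner_sprin, if_neg (fun ee => hα (by rw [← ee, hε])),
    if_neg (fun ee => hα (by rw [← inv_inv α, ← ee, inv_pow, hε, inv_one])), add_zero]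

/-! ### Cuspidal characters -/

/-- The two kinds of cuspidal characters for odd `q`. -/
theorem IsCuspS.odd_cases {χ : S2 → ℂ} (hc : IsCuspS χ) (hχ : Cfsg.IsIrrCharacter S2 χ) {δ : F}
    (hδ : ¬ IsSquare δ) :
    (2 * χ 1 = (Fintype.card F : ℂ) - 1 ∧ χ (upS 1 1) + χ (upS 1 δ) = -1 ∧
      (fun g => χ (conjS (Units.mk0 δ (ne_zero_of_not_isSquare hδ)) g)) ≠ χ) ∨
    (χ 1 = (Fintype.card F : ℂ) - 1 ∧ χ (upS 1 1) = -1 ∧ χ (upS 1 δ) = -1) := by
  have hcl := CharBasic.IsIrr.isClassFunction hχ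
  have hchar := CharBasic.IsIrr.isCharacter hχ
  obtain ⟨d, hd0, hd⟩ := CharBasic.IsIrr.exists_degree hχ
  have hsum := two_sum_upS hcl hδ
  rw [hc.sum_upS hcl 1, mul_zero, hd] at hsum
  have hq2 : 2 ≤ Fintype.card F := Fintype.one_lt_card
  obtain ⟨s, hs1, hs2⟩ := exists_int_of_linear
    ((CharBasic.IsChar.isIntegral hchar (upS 1 1)).add (CharBasic.IsChar.isIntegral hchar (upS 1 δ)))
    (e := 2 * (d : ℤ)) (m := (Fintype.card F : ℤ) - 1) (by omega)
    (by push_cast; linear_combination -hsum)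
  obtain ⟨R, hR, hR1, hRu, -, hRχ⟩ := hc.exists_over hχ
  have hle : d ≤ Fintype.card F - 1 :=
    CharInduce.IsChar.degree_le_of_constituent hR hχ hRχ hd (by
      rw [hR1, Nat.cast_sub (by omega), Nat.cast_one])
  have hs : s = -1 ∨ s = -2 := by
    rcases le_or_gt 0 s with h0 | h0
    · have : 0 ≤ ((Fintype.card F : ℤ) - 1) * s := by nlinarith
      omega
    · rcases le_or_gt s (-3) with h3 | h3
      · have : ((Fintype.card F : ℤ) - 1) * s ≤ -3 * ((Fintype.card F : ℤ) - 1) := by nlinarith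
        omega
      · omega
  rcases hs with rfl | rfl
  · refine Or.inl ⟨?_, by rw [hs1]; simp, fun e => ?_⟩
    · have h' : (((2 * (d : ℤ) + ((Fintype.card F : ℤ) - 1) * -1 : ℤ)) : ℂ) = ((0 : ℤ) : ℂ) :=
        congrArg _ hs2
      push_cast at h'
      rw [hd]
      linear_combination h'
    · have hz : χ (upS 1 δ) = χ (upS 1 1) := by
        have := congrFun e (upS 1 1)
        simpa [conjS_upS] using this
      obtain ⟨w, -, hw⟩ := exists_int_of_linear (CharBasic.IsChar.isIntegral hchar (upS 1 1))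
        (e := 1) (m := 2) (by norm_num) (by
          rw [hz] at hs1
          push_cast at hs1 ⊢
          linear_combination hs1)
      omega
  · obtain ⟨r, hr, e⟩ := CharInduce.IsChar.exists_eq_add hR hχ hRχ
    have hd' : d = Fintype.card F - 1 := by omega
    have hr0 : r = 0 := CharInduce.IsChar.eq_zero_of_one_eq_zero hr (by
      have := congrFun e 1
      rw [hR1, Pi.add_apply, hd, hd', Nat.cast_sub (by omega), Nat.cast_one] at this
      linear_combination -this)
    rw [hr0, add_zero] at e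
    refine Or.inr ⟨?_, ?_, ?_⟩
    · rw [← e, hR1]
    · rw [← e, hRu 1 one_ne_zero]
    · rw [← e, hRu δ (ne_zero_of_not_isSquare hδ)]

theorem IsCuspS.even_case {χ : S2 → ℂ} (hc : IsCuspS χ) (hχ : Cfsg.IsIrrCharacter S2 χ)
    (h2 : (2 : F) = 0) :
    χ 1 = (Fintype.card F : ℂ) - 1 ∧ χ (upS 1 1) = -1 := by
  have hring : ringChar F = 2 := by
    have : CharP F 2 := CharTwo.of_one_ne_zero_of_two_eq_zero one_ne_zero h2
    exact ringChar.eq F 2
  have hcl := CharBasic.IsIrr.isClassFunction hχ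
  obtain ⟨d, hd0, hd⟩ := CharBasic.IsIrr.exists_degree hχ
  have hsum := hc.sum_upS hcl 1
  rw [← Finset.add_sum_erase _ _ (Finset.mem_univ (0 : F)), upS_one,
    Finset.sum_congr rfl (fun c hcm => apply_upS_of_isSquare hcl (Finset.ne_of_mem_erase hcm)
      (FiniteField.isSquare_of_char_two hring c)), Finset.sum_const,
    Finset.card_erase_of_mem (Finset.mem_univ _), Finset.card_univ, nsmul_eq_mul, hd,
    Nat.cast_sub Fintype.card_pos, Nat.cast_one] at hsum
  have hq2 : 2 ≤ Fintype.card F := Fintype.one_lt_card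
  obtain ⟨s, hs1, hs2⟩ := exists_int_of_linear
    (CharBasic.IsChar.isIntegral (CharBasic.IsIrr.isCharacter hχ) (upS 1 1))
    (e := (d : ℤ)) (m := (Fintype.card F : ℤ) - 1) (by omega)
    (by push_cast; linear_combination hsum)
  obtain ⟨R, hR, hR1, hRu, -, hRχ⟩ := hc.exists_over hχ
  have hle : d ≤ Fintype.card F - 1 :=
    CharInduce.IsChar.degree_le_of_constituent hR hχ hRχ hd (by
      rw [hR1, Nat.cast_sub (by omega), Nat.cast_one])
  have hs : s = -1 := by
    rcases le_or_gt 0 s with h0 | h0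
    · have : 0 ≤ ((Fintype.card F : ℤ) - 1) * s := by nlinarith
      omega
    · rcases le_or_gt s (-2) with h3 | h3
      · have : ((Fintype.card F : ℤ) - 1) * s ≤ -2 * ((Fintype.card F : ℤ) - 1) := by nlinarith
        omega
      · omega
  subst hs
  have hd' : d = Fintype.card F - 1 := by omega
  refine ⟨?_, ?_⟩
  · rw [hd, hd', Nat.cast_sub (by omega), Nat.cast_one]
  · rw [hs1]
    simp

/-! ### Counting -/

/-- The generic principal series, up to inversion of the parameter. -/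
theorem card_gen [Fintype (MulChar F ℂ)] :
    2 * Nat.card {χ : Cfsg.IrrCharacter S2 //
        ∃ α : MulChar F ℂ, α ^ 2 ≠ 1 ∧ (χ : S2 → ℂ) = sprin α} +
      (Finset.univ.filter (fun α : MulChar F ℂ => α ^ 2 = 1)).card = Fintype.card F - 1 := by
  classical
  rw [← card_mulChar (F := F), Nat.card_eq_fintype_card (α := MulChar F ℂ), ← Finset.card_univ,
    ← Finset.card_filter_add_card_filter_not (s := (Finset.univ : Finset (MulChar F ℂ)))
      (fun α : MulChar F ℂ => α ^ 2 = 1), add_comm]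
  congr 1
  set s := Finset.univ.filter (fun α : MulChar F ℂ => ¬ α ^ 2 = 1) with hs
  let f : {α // α ∈ s} → Cfsg.IrrCharacter S2 := fun α =>
    ⟨sprin α.1, (isIrrCharacter_sprin_iff α.1).mpr (Finset.mem_filter.mp α.2).2⟩
  have hG : Nat.card {χ : Cfsg.IrrCharacter S2 //
      ∃ α : MulChar F ℂ, α ^ 2 ≠ 1 ∧ (χ : S2 → ℂ) = sprin α} =
      (s.attach.image f).card := by
    rw [Nat.card_eq_fintype_card, Fintype.card_subtype]
    congr 1
    ext χ
    simp only [Finset.mem_filter, Finset.mem_univ, true_and, Finset.mem_image, Finset.mem_attach,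
      Subtype.exists]
    constructor
    · rintro ⟨α, hα, e⟩
      exact ⟨α, by simp [hs, hα], Subtype.ext e.symm⟩
    · rintro ⟨α, hα, rfl⟩
      exact ⟨α, by simpa [hs] using hα, rfl⟩
  rw [hG, ← Finset.card_attach (s := s), Finset.card_eq_sum_card_image f s.attach,
    Finset.sum_congr rfl (g := fun _ => 2) (fun b hb => ?_), Finset.sum_const, smul_eq_mul, mul_comm]
  simp only [Finset.mem_image, Finset.mem_attach, true_and] at hb
  obtain ⟨⟨α, hα⟩, rfl⟩ := hb
  have hα' : α ^ 2 ≠ 1 := by simpa [hs] using hα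
  have hinv : α⁻¹ ∈ s := by simp [hs, inv_pow, hα']
  rw [show (s.attach.filter fun a => f a = f ⟨α, hα⟩) = {⟨α, hα⟩, ⟨α⁻¹, hinv⟩} from ?_,
    Finset.card_pair]
  · intro e
    exact hα' (by rw [sq, mul_eq_one_iff_eq_inv]; exact congrArg Subtype.val e)
  · ext ⟨β, hβ⟩
    simp only [f, Finset.mem_filter, Finset.mem_attach, true_and, Subtype.ext_iff, sprin_eq_iff,
      Finset.mem_insert, Finset.mem_singleton]

theorem card_irr_odd (h2 : (2 : F) ≠ 0) :
    Nat.card (Cfsg.IrrCharacter S2) = Fintype.card F + 4 := by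
  rw [CharBasic.card_irrCharacter, Linear.card_conjClasses_odd h2]

theorem card_filter_sq_odd [Fintype (MulChar F ℂ)] (h2 : (2 : F) ≠ 0) :
    (Finset.univ.filter (fun α : MulChar F ℂ => α ^ 2 = 1)).card = 2 := by
  classical
  obtain ⟨ε, hε, hε1⟩ := exists_mulChar_sq h2
  rw [Finset.card_eq_two]
  refine ⟨1, ε, hε1.symm, ?_⟩
  ext α
  simp only [Finset.mem_filter, Finset.mem_univ, true_and, Finset.mem_insert, Finset.mem_singleton]
  constructor
  · intro h
    by_cases h1 : α = 1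
    · exact Or.inl h1
    · exact Or.inr (mulChar_sq_unique h hε h1 hε1)
  · rintro (rfl | rfl)
    · exact one_pow _
    · exact hε

theorem card_filter_sq_even [Fintype (MulChar F ℂ)] (h2 : (2 : F) = 0) :
    (Finset.univ.filter (fun α : MulChar F ℂ => α ^ 2 = 1)).card = 1 := by
  classical
  rw [Finset.card_eq_one]
  refine ⟨1, ?_⟩
  ext α
  simp only [Finset.mem_filter, Finset.mem_univ, true_and, Finset.mem_singleton]
  exact ⟨mulChar_eq_one_of_sq h2, fun e => by rw [e, one_pow]⟩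

theorem card_half {ε : MulChar F ℂ} (hε : ε ^ 2 = 1) (hε1 : ε ≠ 1) (h2 : (2 : F) ≠ 0) :
    Nat.card {χ : Cfsg.IrrCharacter S2 // IsHalf ε (χ : S2 → ℂ)} = 2 := by
  classical
  obtain ⟨h, H⟩ := exists_isHalf ε
  obtain ⟨δ, hδ⟩ := exists_not_isSquare h2
  have Hc := H.conj (Units.mk0 δ (ne_zero_of_not_isSquare hδ))
  rw [Nat.card_eq_fintype_card, Fintype.card_subtype, Finset.card_eq_two]
  refine ⟨⟨h, H.1⟩, ⟨_, Hc.1⟩, fun e => H.conj_ne hε hε1 hδ (congrArg Subtype.val e).symm, ?_⟩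
  ext χ
  simp only [Finset.mem_filter, Finset.mem_univ, true_and, Finset.mem_insert, Finset.mem_singleton,
    Subtype.ext_iff]
  constructor
  · exact fun hg => H.cases hε hε1 hδ hg
  · rintro (e | e) <;> rw [e]
    exacts [H, Hc]

/-- The numbers of cuspidal characters for odd `q`. -/
theorem card_cusp_odd (h2 : (2 : F) ≠ 0) :
    Nat.card {χ : Cfsg.IrrCharacter S2 // IsCuspS (χ : S2 → ℂ) ∧
        2 * (χ : S2 → ℂ) 1 = (Fintype.card F : ℂ) - 1} = 2 ∧
    Nat.card {χ : Cfsg.IrrCharacter S2 // IsCuspS (χ : S2 → ℂ) ∧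
        (χ : S2 → ℂ) 1 = (Fintype.card F : ℂ) - 1} = (Fintype.card F - 1) / 2 ∧
    Nat.card {χ : Cfsg.IrrCharacter S2 //
        ∃ α : MulChar F ℂ, α ^ 2 ≠ 1 ∧ (χ : S2 → ℂ) = sprin α} = (Fintype.card F - 3) / 2 := by
  classical
  have := Fintype.ofFinite (MulChar F ℂ)
  obtain ⟨δ, hδ⟩ := exists_not_isSquare h2
  obtain ⟨ε, hε, hε1⟩ := exists_mulChar_sq h2
  set q := (Fintype.card F : ℂ) with hq
  have hq1 : q - 1 ≠ 0 := by
    rw [hq, sub_ne_zero, Nat.cast_ne_one]
    exact Fintype.one_lt_card.ne'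
  have hG := card_gen (F := F)
  rw [card_filter_sq_odd h2] at hG
  have hH := card_half hε hε1 h2
  let one' : Cfsg.IrrCharacter S2 := ⟨_, CharBasic.isIrrCharacter_one⟩
  let st' : Cfsg.IrrCharacter S2 := ⟨_, isIrrCharacter_stS⟩
  let PG : Cfsg.IrrCharacter S2 → Prop :=
    fun χ => ∃ α : MulChar F ℂ, α ^ 2 ≠ 1 ∧ (χ : S2 → ℂ) = sprin α
  let P1 : Cfsg.IrrCharacter S2 → Prop :=
    fun χ => IsCuspS (χ : S2 → ℂ) ∧ 2 * (χ : S2 → ℂ) 1 = q - 1
  let P2 : Cfsg.IrrCharacter S2 → Prop :=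
    fun χ => IsCuspS (χ : S2 → ℂ) ∧ (χ : S2 → ℂ) 1 = q - 1
  let PH : Cfsg.IrrCharacter S2 → Prop := fun χ => IsHalf ε (χ : S2 → ℂ)
  have split : ∀ f : Cfsg.IrrCharacter S2 → ℂ, ∑ χ, f χ = f one' + f st' +
      ∑ χ ∈ Finset.univ.filter PG, f χ + ∑ χ ∈ Finset.univ.filter PH, f χ +
      ∑ χ ∈ Finset.univ.filter P1, f χ + ∑ χ ∈ Finset.univ.filter P2, f χ := by
    intro f
    have e1 : f one' = ∑ χ ∈ Finset.univ.filter (· = one'), f χ := by
      simp [Finset.filter_eq']
    have e2 : f st' = ∑ χ ∈ Finset.univ.filter (· = st'), f χ := by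
      simp [Finset.filter_eq']
    rw [e1, e2]
    simp only [Finset.sum_filter, ← Finset.sum_add_distrib]
    refine Finset.sum_congr rfl fun χ _ => ?_
    obtain ⟨χ, hχ⟩ := χ
    simp only [one', st', PG, PH, P1, P2, Subtype.ext_iff]
    rcases irr_cases hχ with rfl | rfl | ⟨α, hα, rfl⟩ | ⟨ε', hε', hε1', H⟩ | hc
    · have n1 : ¬ ∃ α : MulChar F ℂ, α ^ 2 ≠ 1 ∧ (fun _ : S2 => (1 : ℂ)) = sprin α := by
        rintro ⟨α, hα, e⟩
        have := congrFun e 1
        rw [sprin_one] at this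
        exact Nat.cast_ne_zero.mpr (Fintype.card_ne_zero (α := F)) (show q = 0 by
          linear_combination -this)
      have n2 : ¬ IsHalf ε (fun _ : S2 => (1 : ℂ)) := fun H => H.ne_one hε1 rfl
      simp [stS_ne_one.symm, one_not_cusp, n1, n2]
    · have n1 : ¬ ∃ α : MulChar F ℂ, α ^ 2 ≠ 1 ∧ stS (F := F) = sprin α := by
        rintro ⟨α, hα, e⟩
        have := congrFun e 1
        rw [sprin_one, stS_one] at this
        exact one_ne_zero (α := ℂ) (by linear_combination -this)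
      have n2 : ¬ IsHalf ε (stS (F := F)) := fun H => H.ne_stS hε1 rfl
      simp [stS_ne_one, stS_not_cusp, n1, n2]
    · have n0 : sprin α ≠ fun _ => (1 : ℂ) := fun e => by
        have := congrFun e 1
        rw [sprin_one] at this
        exact Nat.cast_ne_zero.mpr (Fintype.card_ne_zero (α := F)) (show q = 0 by
          linear_combination this)
      have n1 : sprin α ≠ stS := fun e => by
        have := congrFun e 1
        rw [sprin_one, stS_one] at this
        exact one_ne_zero (α := ℂ) (by linear_combination this)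
      have n2 : ¬ IsHalf ε (sprin α) := fun H => H.ne_sprin hε hα rfl
      have n3 : ∃ β : MulChar F ℂ, β ^ 2 ≠ 1 ∧ sprin α = sprin β := ⟨α, hα, rfl⟩
      simp [n0, n1, n2, n3, sprin_not_cusp]
    · obtain rfl := mulChar_sq_unique hε' hε hε1' hε1
      have n1 : ¬ ∃ α : MulChar F ℂ, α ^ 2 ≠ 1 ∧ χ = sprin α := fun ⟨α, hα, e⟩ =>
        H.ne_sprin hε' hα e
      simp [H.ne_one hε1', H.ne_stS hε1', H, H.not_cusp, n1]
    · have n0 : χ ≠ fun _ => (1 : ℂ) := fun e => one_not_cusp (e ▸ hc)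
      have n1 : χ ≠ stS := fun e => stS_not_cusp (e ▸ hc)
      have n2 : ¬ ∃ α : MulChar F ℂ, α ^ 2 ≠ 1 ∧ χ = sprin α := fun ⟨α, _, e⟩ =>
        sprin_not_cusp (e ▸ hc)
      have n3 : ¬ IsHalf ε χ := fun H => H.not_cusp hc
      rcases hc.odd_cases hχ hδ with ⟨hd, -, -⟩ | ⟨hd, -, -⟩
      · have n4 : χ 1 ≠ q - 1 := fun e => hq1 (by linear_combination hd - 2 * e)
        simp [n0, n1, n2, n3, hc, eq_true (show 2 * χ 1 = q - 1 from hd), n4]
      · have n4 : 2 * χ 1 ≠ q - 1 := fun e => hq1 (by linear_combination e - 2 * hd)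
        simp [n0, n1, n2, n3, hc, eq_true (show χ 1 = q - 1 from hd), n4]
  have hcard : ∀ (P : Cfsg.IrrCharacter S2 → Prop) [DecidablePred P],
      (Finset.univ.filter P).card = Nat.card {χ // P χ} := fun P _ => by
    rw [Nat.card_eq_fintype_card, Fintype.card_subtype]
  set G := Nat.card {χ : Cfsg.IrrCharacter S2 //
    ∃ α : MulChar F ℂ, α ^ 2 ≠ 1 ∧ (χ : S2 → ℂ) = sprin α}
  have eG : (Finset.univ.filter PG).card = G := hcard PG
  have eH : (Finset.univ.filter PH).card = 2 := (hcard PH).trans hH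
  have s1 := split (fun _ => 1)
  have s2 := split (fun χ => (χ : S2 → ℂ) 1 ^ 2)
  rw [Finset.sum_congr rfl (s₁ := Finset.univ.filter PG) (g := fun _ => (q + 1) ^ 2)
      (fun χ hχ => by
        obtain ⟨α, -, e⟩ := (Finset.mem_filter.mp hχ).2
        rw [e, sprin_one]),
    Finset.sum_congr rfl (s₁ := Finset.univ.filter PH) (g := fun _ => ((q + 1) / 2) ^ 2)
      (fun χ hχ => by
        rw [← (Finset.mem_filter.mp hχ).2.two_degree hε hε1 hδ]
        ring),
    Finset.sum_congr rfl (s₁ := Finset.univ.filter P1) (g := fun _ => ((q - 1) / 2) ^ 2)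
      (fun χ hχ => by
        rw [← (Finset.mem_filter.mp hχ).2.2]
        ring),
    Finset.sum_congr rfl (s₁ := Finset.univ.filter P2) (g := fun _ => (q - 1) ^ 2)
      (fun χ hχ => by rw [(Finset.mem_filter.mp hχ).2.2]),
    CharBasic.sum_sq_degree, Linear.card_SL_two] at s2
  simp only [Finset.sum_const, nsmul_eq_mul, mul_one, eG, eH, Finset.card_univ,
    ← Nat.card_eq_fintype_card (α := Cfsg.IrrCharacter S2), card_irr_odd h2, one', st',
    stS_one] at s1 s2
  have hq3 : 3 ≤ Fintype.card F := by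
    by_contra h
    omega
  have hGc : 2 * (G : ℂ) + 3 = q := by
    have : 2 * G + 3 = Fintype.card F := by omega
    rw [hq, ← this]
    push_cast
    ring
  push_cast [Nat.cast_sub (Nat.one_le_pow 2 (Fintype.card F) Fintype.card_pos)] at s1 s2
  set a := ((Finset.univ.filter P1).card : ℂ) with ha
  set b := ((Finset.univ.filter P2).card : ℂ) with hb
  have key : (q - 1) ^ 2 * (a + 4 * b - 2 * q) = 0 := by
    linear_combination -4 * s2 - 2 * (q + 1) ^ 2 * hGc
  have k1 : a + 4 * b - 2 * q = 0 := (mul_eq_zero.mp key).resolve_left (pow_ne_zero 2 hq1)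
  have k2 : 2 * (a + b) = q + 3 := by linear_combination -2 * s1 - hGc
  have hb2 : 2 * b + 1 = q := by linear_combination (2 * k1 - k2) / 3
  have ha2 : a = 2 := by linear_combination k1 - 2 * hb2
  refine ⟨?_, ?_, ?_⟩
  · rw [← hcard P1]
    rw [ha] at ha2
    exact_mod_cast ha2
  · rw [← hcard P2]
    rw [hb] at hb2
    have : 2 * (Finset.univ.filter P2).card + 1 = Fintype.card F :=
      Nat.cast_injective (R := ℂ) (by push_cast; linear_combination hb2)
    omega
  · omega

/-- The number of cuspidal characters for even `q`. -/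
theorem card_cusp_even (h2 : (2 : F) = 0) :
    2 * Nat.card {χ : Cfsg.IrrCharacter S2 // IsCuspS (χ : S2 → ℂ)} = Fintype.card F ∧
    2 * Nat.card {χ : Cfsg.IrrCharacter S2 //
        ∃ α : MulChar F ℂ, α ^ 2 ≠ 1 ∧ (χ : S2 → ℂ) = sprin α} + 2 = Fintype.card F := by
  classical
  have := Fintype.ofFinite (MulChar F ℂ)
  have hG := card_gen (F := F)
  rw [card_filter_sq_even h2] at hG
  let one' : Cfsg.IrrCharacter S2 := ⟨_, CharBasic.isIrrCharacter_one⟩
  let st' : Cfsg.IrrCharacter S2 := ⟨_, isIrrCharacter_stS⟩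
  let PG : Cfsg.IrrCharacter S2 → Prop :=
    fun χ => ∃ α : MulChar F ℂ, α ^ 2 ≠ 1 ∧ (χ : S2 → ℂ) = sprin α
  let PC : Cfsg.IrrCharacter S2 → Prop := fun χ => IsCuspS (χ : S2 → ℂ)
  have hu : (Finset.univ : Finset (Cfsg.IrrCharacter S2)) =
      ({one', st'} ∪ Finset.univ.filter PG) ∪ Finset.univ.filter PC := by
    ext ⟨χ, hχ⟩
    simp only [Finset.mem_univ, Finset.mem_union, Finset.mem_insert, Finset.mem_singleton,
      Finset.mem_filter, true_and, true_iff, one', st', PG, PC, Subtype.ext_iff]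
    rcases irr_cases hχ with h | h | h | ⟨ε', hε', hε1', -⟩ | h
    · exact Or.inl (Or.inl (Or.inl h))
    · exact Or.inl (Or.inl (Or.inr h))
    · exact Or.inl (Or.inr h)
    · exact absurd (mulChar_eq_one_of_sq h2 hε') hε1'
    · exact Or.inr h
  have d1 : Disjoint ({one', st'} : Finset _) (Finset.univ.filter PG) := by
    rw [Finset.disjoint_left]
    intro χ hχ hg
    obtain ⟨α, -, e⟩ := (Finset.mem_filter.mp hg).2
    simp only [Finset.mem_insert, Finset.mem_singleton] at hχ
    rcases hχ with rfl | rfl <;> have := congrFun e 1 <;> simp only [one', st'] at this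
    · rw [sprin_one] at this
      exact Nat.cast_ne_zero.mpr (Fintype.card_ne_zero (α := F))
        (show (Fintype.card F : ℂ) = 0 by linear_combination -this)
    · rw [sprin_one, stS_one] at this
      exact one_ne_zero (α := ℂ) (by linear_combination -this)
  have d2 : Disjoint ({one', st'} ∪ Finset.univ.filter PG) (Finset.univ.filter PC) := by
    rw [Finset.disjoint_left]
    intro χ hχ hg
    have hc := (Finset.mem_filter.mp hg).2
    simp only [Finset.mem_union, Finset.mem_insert, Finset.mem_singleton] at hχ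
    rcases hχ with (rfl | rfl) | hχ
    · exact one_not_cusp hc
    · exact stS_not_cusp hc
    · obtain ⟨α, -, e⟩ := (Finset.mem_filter.mp hχ).2
      exact sprin_not_cusp (α := α) (e ▸ hc)
  have hc := congrArg Finset.card hu
  rw [Finset.card_univ, ← Nat.card_eq_fintype_card, CharBasic.card_irrCharacter,
    Linear.card_conjClasses_char_two h2, Finset.card_union_of_disjoint d2,
    Finset.card_union_of_disjoint d1,
    Finset.card_pair (fun e => stS_ne_one (congrArg Subtype.val e).symm)] at hc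
  have hcard : ∀ (P : Cfsg.IrrCharacter S2 → Prop) [DecidablePred P],
      (Finset.univ.filter P).card = Nat.card {χ // P χ} := fun P _ => by
    rw [Nat.card_eq_fintype_card, Fintype.card_subtype]
  rw [hcard PC, hcard PG] at hc
  simp only [PC, PG] at hc
  have := Fintype.one_lt_card (α := F)
  constructor <;> omega

end Cfsg.Agent.H53
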