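import Cfsg.Agent.Unitary.Generation
import Cfsg.Agent.CharBasic.Decompose
import Cfsg.Agent.CharBasic.Complete

/-!
Complex representations of unitary groups restricted to the Heisenberg radical of an isotropic point.
-/

set_option autoImplicit false
set_option linter.unusedSectionVars false

namespace Cfsg.Agent.H53

open Cfsg Matrix Finset
open Cfsg.Agent.Unitary
open scoped ComplexConjugate

/-! ### Generalities on representations -/

section Range

variable {G H : Type*} [Group G] [Group H] {V : Type*} [AddCommGroup V] [Module ℂ V]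

/-- The range of an operator commuting with a subgroup. -/
def rangeSub (ρ : Representation ℂ G V) (S : H →* G) (P : Module.End ℂ V)
    (hc : ∀ h, ρ (S h) * P = P * ρ (S h)) : Subrepresentation (MonoidHom.comp ρ S : Representation ℂ H V) where
  toSubmodule := LinearMap.range P
  apply_mem_toSubmodule h v hv := by
    obtain ⟨x, rfl⟩ := hv
    exact ⟨ρ (S h) x, (LinearMap.congr_fun (hc h) x).symm⟩

/-- The representation of a subgroup on the range of a commuting idempotent. -/
def rangeRep (ρ : Representation ℂ G V) (S : H →* G) (P : Module.End ℂ V)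
    (hc : ∀ h, ρ (S h) * P = P * ρ (S h)) : Representation ℂ H (LinearMap.range P) :=
  (rangeSub ρ S P hc).toRepresentation

theorem rangeRep_character [FiniteDimensional ℂ V] (ρ : Representation ℂ G V) (S : H →* G)
    {P : Module.End ℂ V} (hP : IsIdempotentElem P) (hc : ∀ h, ρ (S h) * P = P * ρ (S h)) (h : H) :
    (rangeRep ρ S P hc).character h = LinearMap.trace ℂ V (ρ (S h) * P) := by
  have hp := LinearMap.IsIdempotentElem.isProj_range _ hP
  have hr : ∀ x, (ρ (S h) * P) x ∈ LinearMap.range P := fun x =>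
    (rangeSub ρ S P hc).apply_mem_toSubmodule h ⟨x, rfl⟩
  rw [← LinearMap.trace_restrict_eq_of_forall_mem _ _ hr]
  show LinearMap.trace ℂ _ _ = _
  congr 1
  refine LinearMap.ext fun x => Subtype.ext ?_
  show ρ (S h) x = (ρ (S h) * P) x
  rw [Module.End.mul_apply, hp.map_id x.1 x.2]

/-- A representation whose character has norm one is irreducible. -/
theorem irreducible_of_norm_one [Fintype H] [FiniteDimensional ℂ V] (σ : Representation ℂ H V)
    (h : Cfsg.classInner σ.character σ.character = 1) : σ.IsIrreducible := by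
  rcases CharBasic.rep_trichotomy σ with hs | hi | ⟨S, T, hc, hS, hT⟩
  · exfalso
    have h0 : σ.character = 0 := by
      funext g
      show LinearMap.trace ℂ V (σ g) = 0
      rw [show σ g = 0 from LinearMap.ext fun v => Subsingleton.elim _ _, map_zero]
    rw [h0, CharBasic.classInner_self_eq_zero.2 rfl] at h
    exact zero_ne_one h
  · exact hi
  exfalso
  have hadd := CharBasic.finrank_add_of_isCompl σ hc
  rw [CharBasic.character_add_of_isCompl σ hc, CharBasic.classInner_add_left,
    CharBasic.classInner_add_right, CharBasic.classInner_add_right] at h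
  have hχS := CharBasic.isCharacter_character S.toRepresentation
  have hχT := CharBasic.isCharacter_character T.toRepresentation
  obtain ⟨a, ha⟩ := CharBasic.classInner_isChar_nat hχS hχS
  obtain ⟨b, hb⟩ := CharBasic.classInner_isChar_nat hχT hχT
  obtain ⟨c, hc'⟩ := CharBasic.classInner_isChar_nat hχS hχT
  obtain ⟨d, hd⟩ := CharBasic.classInner_isChar_nat hχT hχS
  rw [ha, hb, hc', hd] at h
  have hsum : a + c + (d + b) = 1 := by exact_mod_cast h
  have pos : ∀ (U : Subrepresentation σ) (m : ℕ), 0 < Module.finrank ℂ U.toSubmodule →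
      Cfsg.classInner U.toRepresentation.character U.toRepresentation.character = (m : ℂ) → 0 < m := by
    intro U m hU hm
    rcases Nat.eq_zero_or_pos m with rfl | hm'
    · rw [Nat.cast_zero, CharBasic.classInner_self_eq_zero] at hm
      have := congrFun hm 1
      rw [Representation.char_one, Pi.zero_apply, Nat.cast_eq_zero] at this
      omega
    · exact hm'
  have := pos S a (by omega) ha
  have := pos T b (by omega) hb
  omega

end Range

/-! ### The setting -/

variable {F : Type*} [Field F] [Fintype F] {n q : ℕ}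

/-- The subgroup supported on a subspace. -/
abbrev GW (n : ℕ) (F : Type*) [Field F] (q : ℕ) (W : Submodule F (Fin n → F)) : Subgroup (SU n F q) :=
  fixer n F q (perp q (W : Set (Fin n → F)) : Set (Fin n → F))

theorem GW_mono {W W' : Submodule F (Fin n → F)} (h : W' ≤ W) : GW n F q W' ≤ GW n F q W :=
  fun _ hg s hs => hg s fun x hx => hs x (h hx)

/-- An isotropic point with a partner and the orthogonal part of the subspace. -/
structure Frm (n : ℕ) (F : Type*) [Field F] (q k : ℕ) (W : Submodule F (Fin n → F)) where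
  e : Fin n → F
  f : Fin n → F
  eW : e ∈ W
  fW : f ∈ W
  he : hermForm n F q e e = 0
  hf : hermForm n F q f f = 0
  hfe : hermForm n F q f e = 1
  hef : hermForm n F q e f = 1
  nd : Nondeg q (W ⊓ perp q ({e, f} : Set (Fin n → F)))
  fr : Module.finrank F ↥(W ⊓ perp q ({e, f} : Set (Fin n → F))) = k

theorem exists_frm (hF : Fintype.card F = q ^ 2) {k : ℕ} {W : Submodule F (Fin n → F)}
    (hW : Nondeg q W) (hk : Module.finrank F W = k + 2) : Nonempty (Frm n F q k W) := by
  obtain ⟨e, heW, he0, he⟩ := exists_isotropic hF hW (by omega)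
  obtain ⟨f, hfW, hf, hfe⟩ := exists_partner hF hW heW he0 he
  have hef : hermForm n F q e f = 1 := by rw [← herm_swap hF f e, hfe, one_pow]
  have hne : hermForm n F q e f ≠ 0 := by rw [hef]; exact one_ne_zero
  have hP := nondeg_pair hF he hf hne
  have hPW := span_pair_le heW hfW
  have h1 := inf_perp_nondeg hF hW hP hPW
  have h2 := inf_perp_finrank hF hP hPW
  rw [perp_span hF] at h1 h2
  rw [finrank_pair (indep_pair hF he hne)] at h2
  exact ⟨⟨e, f, heW, hfW, he, hf, hfe, hef, h1, by omega⟩⟩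

variable {k : ℕ} {W : Submodule F (Fin n → F)} (d : Frm n F q k W)

namespace Frm

/-- The orthogonal part. -/
def sub : Submodule F (Fin n → F) := W ⊓ perp q ({d.e, d.f} : Set (Fin n → F))

theorem e_ne_zero : d.e ≠ 0 := by
  intro h
  have := d.hef
  rw [h, herm_zero_left] at this
  exact zero_ne_one this

theorem herm_sub_e {w : Fin n → F} (hw : w ∈ d.sub) : hermForm n F q w d.e = 0 :=
  (mem_perp_pair.1 hw.2).1

theorem herm_sub_f {w : Fin n → F} (hw : w ∈ d.sub) : hermForm n F q w d.f = 0 :=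
  (mem_perp_pair.1 hw.2).2

theorem e_mem_perp_sub (hF : Fintype.card F = q ^ 2) : d.e ∈ perp q (d.sub : Set (Fin n → F)) :=
  fun _ hs => (herm_eq_zero_symm hF).1 (d.herm_sub_e hs)

/-- Elements fixing the point. -/
def stab : Subgroup ↥(GW n F q W) where
  carrier := {g | ap (g : SU n F q) d.e = d.e}
  one_mem' := by simp
  mul_mem' {a b} ha hb := by
    rw [Set.mem_ofPred_eq] at ha hb ⊢
    rw [Subgroup.coe_mul, ap_mul, hb, ha]
  inv_mem' {a} ha := by
    rw [Set.mem_ofPred_eq] at ha ⊢
    rw [Subgroup.coe_inv]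
    nth_rw 1 [← ha]
    exact ap_inv_ap _ _

theorem mem_stab {g : ↥(GW n F q W)} : g ∈ d.stab ↔ ap (g : SU n F q) d.e = d.e := Iff.rfl

end Frm

/-- The skew elements, as an additive group. -/
noncomputable abbrev skewGrp (hF : Fintype.card F = q ^ 2) : AddSubgroup F := (trHom hF).ker

theorem skew_mem (hF : Fintype.card F = q ^ 2) (c : skewGrp hF) : (c : F) + (c : F) ^ q = 0 := c.2

theorem card_skew (hF : Fintype.card F = q ^ 2) [Fintype (skewGrp hF)] :
    Fintype.card (skewGrp hF) = q := by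
  rw [← Nat.card_eq_fintype_card]
  exact (Nat.card_congr (Equiv.subtypeEquivRight fun x => Iff.rfl)).trans (card_trace_zero hF)

variable (hF : Fintype.card F = q ^ 2)

/-- The root group of the point. -/
noncomputable def zel (c : skewGrp hF) : ↥(GW n F q W) :=
  ⟨tv hF d.he (skew_mem hF c), tv_mem_fixer hF _ _ (perp_herm_eq_zero hF d.eW)⟩

theorem ap_zel (c : skewGrp hF) (x : Fin n → F) :
    ap (zel d hF c : SU n F q) x = x + ((c : F) * hermForm n F q x d.e) • d.e :=
  ap_tv hF d.he (skew_mem hF c) x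

theorem zel_add (a b : skewGrp hF) : zel d hF (a + b) = zel d hF a * zel d hF b := by
  refine Subtype.ext (ap_ext fun x => ?_)
  rw [Subgroup.coe_mul, ap_mul, ap_zel, ap_zel, ap_zel, herm_add_left, herm_smul_left, d.he,
    AddSubgroup.coe_add]
  module

theorem zel_zero : zel d hF 0 = 1 := by
  refine Subtype.ext (ap_ext fun x => ?_)
  rw [ap_zel, AddSubgroup.coe_zero, zero_mul, zero_smul, add_zero, Subgroup.coe_one, ap_one]

theorem zel_mem_stab (c : skewGrp hF) : zel d hF c ∈ d.stab := by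
  rw [Frm.mem_stab, ap_zel, d.he, mul_zero, zero_smul, add_zero]

theorem stab_commute_zel {g : ↥(GW n F q W)} (hg : g ∈ d.stab) (c : skewGrp hF) :
    g * zel d hF c = zel d hF c * g := by
  refine Subtype.ext (ap_ext fun x => ?_)
  rw [Subgroup.coe_mul, Subgroup.coe_mul, ap_mul, ap_mul, ap_zel, ap_zel, ap_add, ap_smul,
    d.mem_stab.1 hg]
  conv_lhs => rw [← herm_ap (g : SU n F q) x d.e, d.mem_stab.1 hg]

section Proj

variable [Fintype (skewGrp hF)] {V : Type*} [AddCommGroup V] [Module ℂ V]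
  (ρ : Representation ℂ ↥(GW n F q W) V)

/-- The projector onto a central character of the radical. -/
noncomputable def zproj (χ : AddChar (skewGrp hF) ℂ) : Module.End ℂ V :=
  (q : ℂ)⁻¹ • ∑ c, χ (-c) • ρ (zel d hF c)

theorem q_cast_ne_zero (hF : Fintype.card F = q ^ 2) : (q : ℂ) ≠ 0 := Nat.cast_ne_zero.2 (q_ne_zero hF)

theorem zproj_sum [Fintype (AddChar (skewGrp hF) ℂ)] : ∑ χ, zproj d hF ρ χ = 1 := by
  classical
  simp only [zproj]
  rw [← Finset.smul_sum, Finset.sum_comm]
  simp only [← Finset.sum_smul]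
  have e : ∀ c : skewGrp hF, ∑ χ : AddChar (skewGrp hF) ℂ, χ (-c) = if c = 0 then (q : ℂ) else 0 := by
    intro c
    have h := AddChar.sum_apply_eq_ite (-c)
    rw [card_skew hF] at h
    simp only [neg_eq_zero] at h
    convert h using 2
    ext ψ
    simp
  simp only [e, ite_smul, zero_smul]
  rw [Finset.sum_ite_eq' Finset.univ (0 : skewGrp hF), if_pos (Finset.mem_univ _), smul_smul,
    inv_mul_cancel₀ (q_cast_ne_zero hF), one_smul, zel_zero, map_one]

theorem zel_mul_zproj (χ : AddChar (skewGrp hF) ℂ) (c : skewGrp hF) :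
    ρ (zel d hF c) * zproj d hF ρ χ = χ c • zproj d hF ρ χ := by
  simp only [zproj]
  rw [mul_smul_comm, smul_comm (χ c)]
  congr 1
  rw [Finset.mul_sum, Finset.smul_sum]
  refine Fintype.sum_equiv (Equiv.addLeft c) _ _ fun b => ?_
  rw [Equiv.coe_addLeft, mul_smul_comm, ← map_mul, ← zel_add, smul_smul, ← AddChar.map_add_eq_mul,
    neg_add_rev, add_comm (-b) (-c), add_neg_cancel_left]
theorem zproj_mul (χ χ' : AddChar (skewGrp hF) ℂ) :
    zproj d hF ρ χ * zproj d hF ρ χ' = if χ = χ' then zproj d hF ρ χ else 0 := by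
  classical
  conv_lhs => rw [zproj, smul_mul_assoc, Finset.sum_mul]
  simp only [smul_mul_assoc, zel_mul_zproj, smul_smul, ← Finset.sum_smul]
  have e : ∑ c, χ (-c) * χ' c = if χ = χ' then (q : ℂ) else 0 := by
    have h := AddChar.sum_eq_ite (χ' - χ)
    simp only [sub_eq_zero, card_skew hF] at h
    rw [show (if χ = χ' then (q : ℂ) else 0) = if χ' = χ then (q : ℂ) else 0 by simp [eq_comm], ← h]
    exact Finset.sum_congr rfl fun c _ => by rw [AddChar.sub_apply', mul_comm]; simp [AddChar.map_neg_eq_inv, div_eq_mul_inv]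
  rw [e]
  split_ifs with h
  · subst h
    rw [inv_mul_cancel₀ (q_cast_ne_zero hF), one_smul]
  · rw [mul_zero, zero_smul]

theorem isIdempotentElem_zproj (χ : AddChar (skewGrp hF) ℂ) : IsIdempotentElem (zproj d hF ρ χ) := by
  classical
  show _ * _ = _
  rw [zproj_mul, if_pos rfl]

theorem stab_mul_zproj {g : ↥(GW n F q W)} (hg : g ∈ d.stab) (χ : AddChar (skewGrp hF) ℂ) :
    ρ g * zproj d hF ρ χ = zproj d hF ρ χ * ρ g := by
  simp only [zproj, mul_smul_comm, smul_mul_assoc, Finset.mul_sum, Finset.sum_mul]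
  congr 1
  exact Finset.sum_congr rfl fun c _ => by rw [← map_mul, ← map_mul, stab_commute_zel d hF hg]

/-- The representation of the stabiliser on a weight space. -/
noncomputable def stabRep (χ : AddChar (skewGrp hF) ℂ) :
    Representation ℂ ↥d.stab (LinearMap.range (zproj d hF ρ χ)) :=
  rangeRep ρ d.stab.subtype _ fun h => stab_mul_zproj d hF ρ h.2 χ

variable [FiniteDimensional ℂ V]

theorem stabRep_character (χ : AddChar (skewGrp hF) ℂ) (g : ↥d.stab) :
    (stabRep d hF ρ χ).character g = LinearMap.trace ℂ V (ρ g.1 * zproj d hF ρ χ) :=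
  rangeRep_character ρ _ (isIdempotentElem_zproj d hF ρ χ) _ g

end Proj

/-! ### The radical -/

/-- The Heisenberg radical. -/
noncomputable def radical : Subgroup ↥d.stab where
  carrier := {x | ∃ (w : Fin n → F) (α : F) (h : ESpec q d.e w α), w ∈ d.sub ∧
    ((x : ↥(GW n F q W)) : SU n F q) = eSU hF h}
  one_mem' := by
    refine ⟨0, 0, eSpec_tv hF d.he (by simp [q_ne_zero hF]), Submodule.zero_mem _, ap_ext fun x => ?_⟩
    simp [ap_eSU, herm_zero_right hF]
  mul_mem' := by
    rintro a b ⟨w, α, h, hw, ha⟩ ⟨w', β, h', hw', hb⟩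
    refine ⟨w + w', _, eSpec_add hF h h', d.sub.add_mem hw hw', ?_⟩
    rw [Subgroup.coe_mul, Subgroup.coe_mul, ha, hb, eSU_mul hF h h' (eSpec_add hF h h')]
  inv_mem' := by
    rintro a ⟨w, α, h, hw, ha⟩
    have hc : -α - hermForm n F q w w + (-α - hermForm n F q w w) ^ q + hermForm n F q (-w) (-w) = 0 := by
      rw [sub_pow_q hF, neg_pow_q hF, herm_self_fixed hF, herm_neg_left, herm_neg_right hF, neg_neg]
      linear_combination -h.tr
    have h' : ESpec q d.e (-w) (-α - hermForm n F q w w) :=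
      ⟨d.he, by rw [herm_neg_left, h.orth, neg_zero], hc⟩
    refine ⟨-w, _, h', d.sub.neg_mem hw, ?_⟩
    rw [Subgroup.coe_inv, Subgroup.coe_inv, ha, inv_eq_iff_mul_eq_one]
    refine ap_ext fun x => ?_
    have hew : hermForm n F q d.e w = 0 := (herm_eq_zero_symm hF).1 h.orth
    simp only [ap_mul, ap_eSU, ap_one, herm_add_left, herm_sub_left, herm_smul_left,
      herm_neg_right hF, herm_neg_left, h.iso, h.orth, hew, neg_zero, mul_zero, add_zero, sub_zero]
    module

theorem eSU_mem_GW {w : Fin n → F} {α : F} (h : ESpec q d.e w α) (hw : w ∈ d.sub) :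
    eSU hF h ∈ GW n F q W :=
  eSU_mem_fixer hF h (perp_herm_eq_zero hF d.eW) (perp_herm_eq_zero hF hw.1)

theorem ap_eSU_e {w : Fin n → F} {α : F} (h : ESpec q d.e w α) : ap (eSU hF h) d.e = d.e := by
  have hew : hermForm n F q d.e w = 0 := (herm_eq_zero_symm hF).1 h.orth
  simp [ap_eSU, d.he, hew]

/-- An element of the radical. -/
noncomputable def radEl {w : Fin n → F} {α : F} (h : ESpec q d.e w α) (hw : w ∈ d.sub) :
    ↥(radical d hF) :=
  ⟨⟨⟨eSU hF h, eSU_mem_GW d hF h hw⟩, ap_eSU_e d hF h⟩, w, α, h, hw, rfl⟩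

theorem radEl_inj {w w' : Fin n → F} {α α' : F} (h : ESpec q d.e w α) (h' : ESpec q d.e w' α')
    (hw : w ∈ d.sub) (hw' : w' ∈ d.sub) (e : eSU hF h = eSU hF h') : w = w' ∧ α = α' := by
  have := congrArg (fun A => ap A d.f) e
  simp only [ap_eSU, d.hfe, one_smul, mul_one, (herm_eq_zero_symm hF).1 (d.herm_sub_f hw),
    (herm_eq_zero_symm hF).1 (d.herm_sub_f hw'), zero_smul, sub_zero] at this
  have hα : α = α' := by
    have h2 := congrArg (fun v => hermForm n F q v d.f) this
    simpa [herm_add_left, herm_smul_left, d.hf, d.hef, d.herm_sub_f hw, d.herm_sub_f hw'] using h2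
  subst hα
  exact ⟨by simpa using this, rfl⟩

/-- The vector of an element of the radical. -/
noncomputable def wpart (x : ↥(radical d hF)) : Fin n → F := x.2.choose

theorem wpart_spec (x : ↥(radical d hF)) : ∃ (α : F) (h : ESpec q d.e (wpart d hF x) α),
    wpart d hF x ∈ d.sub ∧ (((x : ↥d.stab) : ↥(GW n F q W)) : SU n F q) = eSU hF h :=
  x.2.choose_spec

theorem wpart_radEl {w : Fin n → F} {α : F} (h : ESpec q d.e w α) (hw : w ∈ d.sub) :
    wpart d hF (radEl d hF h hw) = w := by
  obtain ⟨β, h', hw', he⟩ := wpart_spec d hF (radEl d hF h hw)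
  exact (radEl_inj d hF h h' hw hw' he).1.symm

theorem wpart_mul (x y : ↥(radical d hF)) :
    wpart d hF (x * y) = wpart d hF x + wpart d hF y := by
  obtain ⟨α, h, hw, hx⟩ := wpart_spec d hF x
  obtain ⟨β, h', hw', hy⟩ := wpart_spec d hF y
  obtain ⟨γ, h'', hw'', hxy⟩ := wpart_spec d hF (x * y)
  rw [Subgroup.coe_mul, Subgroup.coe_mul, Subgroup.coe_mul, hx, hy,
    eSU_mul hF h h' (eSpec_add hF h h')] at hxy
  exact ((radEl_inj d hF (eSpec_add hF h h') h'' (d.sub.add_mem hw hw') hw'' hxy).1).symm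

theorem wpart_one : wpart d hF 1 = 0 := by
  have h := wpart_mul d hF 1 1
  rw [one_mul] at h
  exact left_eq_add.1 h

theorem wpart_inv (x : ↥(radical d hF)) : wpart d hF x⁻¹ = -wpart d hF x := by
  have h := wpart_mul d hF x x⁻¹
  rw [mul_inv_cancel, wpart_one] at h
  exact eq_neg_of_add_eq_zero_right h.symm

/-- The central elements inside the radical. -/
noncomputable def zrad (c : skewGrp hF) : ↥(radical d hF) :=
  radEl d hF (eSpec_tv hF d.he (skew_mem hF c)) (Submodule.zero_mem _)

theorem coe_zrad (c : skewGrp hF) : ((zrad d hF c : ↥d.stab) : ↥(GW n F q W)) = zel d hF c := rfl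

theorem eq_zrad_of_wpart {x : ↥(radical d hF)} (hx : wpart d hF x = 0) : ∃ c, x = zrad d hF c := by
  obtain ⟨α, h, -, he⟩ := wpart_spec d hF x
  have hα : α + α ^ q = 0 := by
    have := h.tr
    rwa [hx, herm_zero_left, add_zero] at this
  refine ⟨⟨α, hα⟩, Subtype.ext (Subtype.ext (Subtype.ext ?_))⟩
  rw [he]
  simp only [hx]
  rfl

theorem card_radical : Nat.card ↥(radical d hF) = (q ^ 2) ^ k * q := by
  classical
  let T := Σ w : ↥d.sub, {α : F // ESpec q d.e w.1 α}
  have e : Nat.card T = Nat.card ↥(radical d hF) := by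
    refine Nat.card_congr (Equiv.ofBijective (fun t : T => radEl d hF t.2.2 t.1.2) ⟨?_, ?_⟩)
    · rintro ⟨w, α, h⟩ ⟨w', α', h'⟩ e
      have e' := congrArg (fun x : ↥(radical d hF) => (((x : ↥d.stab) : ↥(GW n F q W)) : SU n F q)) e
      obtain ⟨h1, h2⟩ := radEl_inj d hF h h' w.2 w'.2 e'
      obtain rfl : w = w' := Subtype.ext h1
      subst h2
      rfl
    · rintro ⟨x, w, α, h, hw, he⟩
      exact ⟨⟨⟨w, hw⟩, α, h⟩, Subtype.ext (Subtype.ext (Subtype.ext he.symm))⟩
  rw [← e, Nat.card_sigma, Finset.sum_congr rfl (g := fun _ => q) fun w _ => ?_, Finset.sum_const,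
    Finset.card_univ, smul_eq_mul]
  · congr 1
    rw [← Nat.card_eq_fintype_card, Module.natCard_eq_pow_finrank (K := F),
      Nat.card_eq_fintype_card, hF]
    exact congrArg _ d.fr
  · obtain ⟨α₀, h₀⟩ := exists_alpha hF d.he (d.herm_sub_e w.2)
    refine (Nat.card_congr ?_).trans (card_trace_zero hF)
    exact
      { toFun := fun a => ⟨a.1 - α₀, by
          rw [sub_pow_q hF]; linear_combination a.2.tr - h₀.tr⟩
        invFun := fun c => ⟨c.1 + α₀, d.he, d.herm_sub_e w.2, by
          rw [add_pow_q hF]; linear_combination c.2 + h₀.tr⟩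
        left_inv := fun a => Subtype.ext (by simp)
        right_inv := fun c => Subtype.ext (by simp) }

section RadRep

variable [Fintype (skewGrp hF)] {V : Type*} [AddCommGroup V] [Module ℂ V] [FiniteDimensional ℂ V]
  (ρ : Representation ℂ ↥(GW n F q W) V)

/-- The representation of the radical on a weight space. -/
noncomputable def radRep (χ : AddChar (skewGrp hF) ℂ) :
    Representation ℂ ↥(radical d hF) (LinearMap.range (zproj d hF ρ χ)) :=
  MonoidHom.comp (stabRep d hF ρ χ) (radical d hF).subtype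

theorem radRep_zrad (χ : AddChar (skewGrp hF) ℂ) (c : skewGrp hF) :
    (radRep d hF ρ χ).character (zrad d hF c) =
      χ c * (Module.finrank ℂ (LinearMap.range (zproj d hF ρ χ)) : ℂ) := by
  show (stabRep d hF ρ χ).character (zrad d hF c : ↥d.stab) = _
  rw [stabRep_character, coe_zrad, zel_mul_zproj, map_smul, smul_eq_mul]
  congr 1
  exact LinearMap.IsProj.trace
    (LinearMap.IsIdempotentElem.isProj_range _ (isIdempotentElem_zproj d hF ρ χ))

/-- The character vanishes off the centre. -/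
theorem radRep_vanish {χ : AddChar (skewGrp hF) ℂ} (hχ : χ ≠ 0) {x : ↥(radical d hF)}
    (hx : wpart d hF x ≠ 0) : (radRep d hF ρ χ).character x = 0 := by
  obtain ⟨α, h, hw, he⟩ := wpart_spec d hF x
  revert hw he h hx
  generalize wpart d hF x = w
  intro hx h hw he
  obtain ⟨c0, hc0⟩ : ∃ c, χ c ≠ 1 := AddChar.ne_zero_iff.1 hχ
  obtain ⟨b, hb⟩ := exists_trace_eq hF (a := (1 : F)) (one_pow q)
  obtain ⟨u, hu, huw⟩ : ∃ u ∈ d.sub, hermForm n F q w u ≠ 0 := by
    by_contra hcon
    push Not at hcon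
    exact hx (d.nd w hw hcon)
  obtain ⟨l, hl⟩ : ∃ l : F, l ^ q * hermForm n F q w u = (c0 : F) * b :=
    ⟨((c0 : F) * b / hermForm n F q w u) ^ q, by rw [pow_q_q hF, div_mul_cancel₀ _ huw]⟩
  set w' := l • u with hw'def
  have hw' : w' ∈ d.sub := d.sub.smul_mem l hu
  have hww' : hermForm n F q w w' - hermForm n F q w' w = (c0 : F) := by
    rw [← herm_swap hF w w', hw'def, herm_smul_right, hl, mul_pow]
    have : (c0 : F) ^ q = -(c0 : F) := eq_neg_of_add_eq_zero_right (skew_mem hF c0)
    rw [this]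
    linear_combination (c0 : F) * hb
  obtain ⟨β, h'⟩ := exists_alpha hF d.he (d.herm_sub_e hw')
  set y := radEl d hF h' hw'
  have k : x * y = zrad d hF c0 * (y * x) := by
    refine Subtype.ext (Subtype.ext (Subtype.ext (ap_ext fun v => ?_)))
    simp only [Subgroup.coe_mul, he, coe_zrad, ap_mul, y, radEl, ap_zel, ap_eSU, herm_add_left,
      herm_sub_left, herm_smul_left, d.he, (herm_eq_zero_symm hF).1 h.orth,
      (herm_eq_zero_symm hF).1 h'.orth, h.orth, h'.orth, mul_zero, add_zero, sub_zero]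
    rw [← hww']
    module
  have hconj : ∀ g z : ↥(radical d hF), (radRep d hF ρ χ).character (g * z * g⁻¹) =
      (radRep d hF ρ χ).character z := fun g z => Representation.char_conj _ _ _
  have hscal : (radRep d hF ρ χ).character (zrad d hF c0 * x) = χ c0 * (radRep d hF ρ χ).character x := by
    show (stabRep d hF ρ χ).character ((zrad d hF c0 * x : ↥(radical d hF)) : ↥d.stab) = _
    rw [Subgroup.coe_mul, stabRep_character, Subgroup.coe_mul, map_mul ρ, coe_zrad, mul_assoc,
      stab_mul_zproj d hF ρ (x : ↥d.stab).2, ← mul_assoc, zel_mul_zproj, smul_mul_assoc, map_smul,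
      smul_eq_mul]
    congr 1
    rw [← stab_mul_zproj d hF ρ (x : ↥d.stab).2]
    exact (stabRep_character d hF ρ χ (x : ↥d.stab)).symm
  have h2 : (radRep d hF ρ χ).character x = χ c0 * (radRep d hF ρ χ).character x := by
    have hz : ∀ g : ↥(radical d hF), g * zrad d hF c0 = zrad d hF c0 * g := fun g =>
      Subtype.ext (Subtype.ext (stab_commute_zel d hF (g : ↥d.stab).2 c0))
    have e2 : y⁻¹ * x * y = zrad d hF c0 * x := by
      rw [mul_assoc, k, ← mul_assoc, hz y⁻¹, mul_assoc, inv_mul_cancel_left]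
    conv_lhs => rw [← hconj y⁻¹ x, inv_inv, e2, hscal]
  have h3 : (1 - χ c0) * (radRep d hF ρ χ).character x = 0 := by linear_combination h2
  exact (mul_eq_zero.1 h3).resolve_left (sub_ne_zero.2 (Ne.symm hc0))

/-- The norm of the character of the radical on a weight space. -/
theorem radRep_norm {χ : AddChar (skewGrp hF) ℂ} (hχ : χ ≠ 0) [Fintype ↥(radical d hF)] :
    Cfsg.classInner (radRep d hF ρ χ).character (radRep d hF ρ χ).character =
      (Module.finrank ℂ (LinearMap.range (zproj d hF ρ χ)) : ℂ) ^ 2 / ((q : ℂ) ^ 2) ^ k := by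
  classical
  set D := Module.finrank ℂ (LinearMap.range (zproj d hF ρ χ))
  have hinj : Function.Injective (zrad d hF) := fun a b e => by
    have e' := congrArg (fun x : ↥(radical d hF) => (((x : ↥d.stab) : ↥(GW n F q W)) : SU n F q)) e
    exact Subtype.ext (radEl_inj d hF (eSpec_tv hF d.he (skew_mem hF a)) (eSpec_tv hF d.he (skew_mem hF b))
      (Submodule.zero_mem _) (Submodule.zero_mem _) e').2
  rw [Cfsg.classInner, card_radical, ← Finset.sum_subset (Finset.subset_univ (Finset.univ.image (zrad d hF)))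
    (fun x _ hx => by
      rw [radRep_vanish d hF ρ hχ (fun h => hx ?_), zero_mul]
      obtain ⟨c, rfl⟩ := eq_zrad_of_wpart d hF h
      exact Finset.mem_image_of_mem _ (Finset.mem_univ c)),
    Finset.sum_image (fun a _ b _ e => hinj e)]
  rw [Finset.sum_congr rfl (g := fun _ => (D : ℂ) ^ 2) fun c _ => ?_]
  · rw [Finset.sum_const, Finset.card_univ, card_skew hF, nsmul_eq_mul]
    push_cast
    field_simp [q_cast_ne_zero hF]
  · rw [radRep_zrad, map_mul, Complex.conj_natCast]
    have h1 : χ c * conj (χ c) = 1 := by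
      rw [← AddChar.map_neg_eq_conj, ← AddChar.map_add_eq_mul, add_neg_cancel, AddChar.map_zero_eq_one]
    linear_combination (D : ℂ) ^ 2 * h1

theorem exists_mult_dvd {χ : AddChar (skewGrp hF) ℂ} (hχ : χ ≠ 0) :
    ∃ s : ℕ, Module.finrank ℂ (LinearMap.range (zproj d hF ρ χ)) = q ^ k * s := by
  classical
  have := Fintype.ofFinite ↥(radical d hF)
  have hc := CharBasic.isCharacter_character (radRep d hF ρ χ)
  obtain ⟨j, hj⟩ := CharBasic.classInner_isChar_nat hc hc
  rw [radRep_norm d hF ρ hχ, div_eq_iff (pow_ne_zero _ (pow_ne_zero _ (q_cast_ne_zero hF)))] at hj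
  set D := Module.finrank ℂ (LinearMap.range (zproj d hF ρ χ))
  have h : D ^ 2 = j * (q ^ k) ^ 2 := by
    rw [← pow_mul, mul_comm k 2, pow_mul]
    exact_mod_cast hj
  obtain ⟨s, hs⟩ := (Nat.pow_dvd_pow_iff two_ne_zero).1 (Dvd.intro_left j h.symm)
  exact ⟨s, hs⟩

/-- A transvection of the orthogonal part has small trace on a weight space of smallest size. -/
theorem norm_trace_le {χ : AddChar (skewGrp hF) ℂ} (hχ : χ ≠ 0)
    (hD : Module.finrank ℂ (LinearMap.range (zproj d hF ρ χ)) = q ^ k) {v : Fin n → F} {c : F}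
    (hv : hermForm n F q v v = 0) (hc : c + c ^ q = 0) (hc0 : c ≠ 0) (hv0 : v ≠ 0) (hvs : v ∈ d.sub)
    {g : ↥d.stab} (hg : ((g : ↥(GW n F q W)) : SU n F q) = tv hF hv hc) :
    ‖LinearMap.trace ℂ V (ρ g.1 * zproj d hF ρ χ)‖ ≤ (q : ℝ) ^ (k - 1) := by
  classical
  have := Fintype.ofFinite ↥(radical d hF)
  have hq0 := q_cast_ne_zero hF
  set σ := stabRep d hF ρ χ with hσ
  set D := Module.finrank ℂ (LinearMap.range (zproj d hF ρ χ))
  have hirr : (radRep d hF ρ χ).IsIrreducible := irreducible_of_norm_one _ (by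
    rw [radRep_norm d hF ρ hχ]
    show (D : ℂ) ^ 2 / _ = 1
    rw [hD, Nat.cast_pow, ← pow_mul, ← pow_mul, mul_comm k 2, div_self (pow_ne_zero _ hq0)])
  -- averaging over the radical
  set A : Module.End ℂ (LinearMap.range (zproj d hF ρ χ)) := σ g
  set T := ∑ y : ↥(radical d hF), σ (y : ↥d.stab) * A * σ ((y : ↥d.stab))⁻¹ with hT
  have hTc : ∀ x, T * radRep d hF ρ χ x = radRep d hF ρ χ x * T := by
    intro x
    show T * σ (x : ↥d.stab) = σ (x : ↥d.stab) * T
    rw [hT, Finset.sum_mul, Finset.mul_sum]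
    refine (Fintype.sum_equiv (Equiv.mulLeft x) _ _ fun y => ?_).symm
    rw [Equiv.coe_mulLeft, Subgroup.coe_mul, _root_.mul_inv_rev, map_mul σ (x : ↥d.stab), map_mul σ _ (x : ↥d.stab)⁻¹]
    have e : σ (x : ↥d.stab)⁻¹ * σ (x : ↥d.stab) = 1 := by rw [← map_mul, inv_mul_cancel, map_one]
    simp only [mul_assoc, map_mul, e, mul_one]
  obtain ⟨z, hz⟩ := CharBasic.schur_scalar (radRep d hF ρ χ) T hTc
  have htr : (Fintype.card ↥(radical d hF) : ℂ) * σ.character g = z * D := by
    have h1 := congrArg (LinearMap.trace ℂ _) hz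
    rw [map_smul, LinearMap.trace_id, smul_eq_mul, hT, map_sum] at h1
    rw [← h1, Finset.sum_congr rfl (g := fun _ => σ.character g) fun y _ => ?_, Finset.sum_const,
      Finset.card_univ, nsmul_eq_mul]
    rw [LinearMap.trace_mul_comm, ← mul_assoc, ← map_mul, inv_mul_cancel, map_one, one_mul]
    rfl
  have hprod : z * σ.character g⁻¹ =
      ∑ y : ↥(radical d hF), σ.character ((y : ↥d.stab) * g * (y : ↥d.stab)⁻¹ * g⁻¹) := by
    have h1 := congrArg (fun S => LinearMap.trace ℂ _ (S * σ g⁻¹)) hz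
    simp only [hT, Finset.sum_mul, map_sum] at h1
    rw [smul_mul_assoc, map_smul, smul_eq_mul] at h1
    rw [show LinearMap.id * σ g⁻¹ = σ g⁻¹ from rfl] at h1
    show z * LinearMap.trace ℂ _ (σ g⁻¹) = _
    rw [← h1]
    exact Finset.sum_congr rfl fun y _ => by simp only [Representation.character, map_mul]; rfl
  -- only few terms survive
  have hgap : ∀ w, ap ((g : ↥(GW n F q W)) : SU n F q) w = w + (c * hermForm n F q w v) • v := fun w => by
    rw [hg, ap_tv]
  have hgsub : ∀ {w : Fin n → F}, w ∈ d.sub → ap ((g : ↥(GW n F q W)) : SU n F q) w ∈ d.sub :=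
    fun hw => by rw [hgap]; exact d.sub.add_mem hw (d.sub.smul_mem _ hvs)
  have hge : ap ((g : ↥(GW n F q W)) : SU n F q) d.e = d.e := g.2
  have hterm : ∀ y : ↥(radical d hF), ∃ y' : ↥(radical d hF),
      ((y' : ↥d.stab)) = g * (y : ↥d.stab) * g⁻¹ ∧
      wpart d hF y' = ap ((g : ↥(GW n F q W)) : SU n F q) (wpart d hF y) := by
    intro y
    obtain ⟨α, h, hw, hy⟩ := wpart_spec d hF y
    have h' := eSpec_ap (((g : ↥(GW n F q W)) : SU n F q)) h
    rw [hge] at h'
    refine ⟨radEl d hF h' (hgsub hw), Subtype.ext (Subtype.ext ?_), wpart_radEl d hF h' (hgsub hw)⟩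
    show eSU hF h' = _
    simp only [Subgroup.coe_mul, Subgroup.coe_inv, hy]
    have h'' := eSpec_ap (((g : ↥(GW n F q W)) : SU n F q)) h
    rw [conj_eSU hF _ h h'']
    congr 1
    exact hge.symm
  have hbound : ∀ y : ↥(radical d hF),
      ‖σ.character ((y : ↥d.stab) * g * (y : ↥d.stab)⁻¹ * g⁻¹)‖ ≤
        if hermForm n F q (wpart d hF y) v = 0 then (D : ℝ) else 0 := by
    intro y
    split_ifs with h0
    · exact CharBasic.norm_character_le σ _
    · obtain ⟨y', hy', hw'⟩ := hterm y
      have e : (y : ↥d.stab) * g * (y : ↥d.stab)⁻¹ * g⁻¹ = ((y * y'⁻¹ : ↥(radical d hF)) : ↥d.stab) := by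
        rw [Subgroup.coe_mul, Subgroup.coe_inv, hy']
        group
      rw [e]
      show ‖(radRep d hF ρ χ).character (y * y'⁻¹)‖ ≤ 0
      rw [radRep_vanish d hF ρ hχ, norm_zero]
      rw [wpart_mul, wpart_inv, hw', hgap, ← sub_eq_add_neg, sub_add_cancel_left, neg_ne_zero]
      exact smul_ne_zero (mul_ne_zero hc0 h0) hv0
  have hcard : (Finset.univ.filter fun y : ↥(radical d hF) =>
      hermForm n F q (wpart d hF y) v = 0).card ≤ (q ^ 2) ^ (k - 1) * q := by
    let L : ↥d.sub →ₗ[F] F :=
      { toFun := fun w => hermForm n F q w.1 v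
        map_add' := fun a b => herm_add_left a.1 b.1 v
        map_smul' := fun a b => herm_smul_left a b.1 v }
    have hk : Module.finrank F (LinearMap.ker L) = k - 1 := by
      have hsurj : LinearMap.range L = ⊤ := by
        obtain ⟨u, hu, -, huv⟩ := exists_partner hF d.nd hvs hv0 hv
        refine LinearMap.range_eq_top.2 fun a => ⟨a • ⟨u, hu⟩, ?_⟩
        show hermForm n F q (a • u) v = a
        rw [herm_smul_left, huv, mul_one]
      have := L.finrank_range_add_finrank_ker
      rw [hsurj, finrank_top, Module.finrank_self, show Module.finrank F ↥d.sub = k from d.fr] at this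
      omega
    let T := Σ w : LinearMap.ker L, {α : F // ESpec q d.e w.1.1 α}
    have hTc : Nat.card T = (q ^ 2) ^ (k - 1) * q := by
      rw [Nat.card_sigma, Finset.sum_congr rfl (g := fun _ => q) fun w _ => ?_, Finset.sum_const,
        Finset.card_univ, smul_eq_mul]
      · rw [← Nat.card_eq_fintype_card, Module.natCard_eq_pow_finrank (K := F),
          Nat.card_eq_fintype_card, hF, hk]
      · obtain ⟨α₀, h₀⟩ := exists_alpha hF d.he (d.herm_sub_e w.1.2)
        refine (Nat.card_congr ?_).trans (card_trace_zero hF)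
        exact
          { toFun := fun a => ⟨a.1 - α₀, by
              rw [sub_pow_q hF]; linear_combination a.2.tr - h₀.tr⟩
            invFun := fun c => ⟨c.1 + α₀, d.he, d.herm_sub_e w.1.2, by
              rw [add_pow_q hF]; linear_combination c.2 + h₀.tr⟩
            left_inv := fun a => Subtype.ext (by simp)
            right_inv := fun c => Subtype.ext (by simp) }
    rw [← hTc, Nat.card_eq_fintype_card, ← Finset.card_univ]
    refine Finset.card_le_card_of_surjOn (fun t => radEl d hF t.2.2 t.1.1.2) ?_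
    intro y hy
    obtain ⟨α, h, hw, he⟩ := wpart_spec d hF y
    have h0 := (Finset.mem_filter.1 hy).2
    exact ⟨⟨⟨⟨wpart d hF y, hw⟩, h0⟩, α, h⟩, Finset.mem_univ _,
      Subtype.ext (Subtype.ext (Subtype.ext he.symm))⟩
  have hsum : ‖z * σ.character g⁻¹‖ ≤ ((q : ℝ) ^ 2) ^ (k - 1) * q * D := by
    rw [hprod]
    refine (norm_sum_le _ _).trans ((Finset.sum_le_sum fun y _ => hbound y).trans ?_)
    rw [← Finset.sum_filter, Finset.sum_const, nsmul_eq_mul]
    exact mul_le_mul_of_nonneg_right (by exact_mod_cast hcard) (Nat.cast_nonneg _)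
  -- conclusion
  have hN : (Fintype.card ↥(radical d hF) : ℂ) = ((q : ℂ) ^ 2) ^ k * q := by
    rw [← Nat.card_eq_fintype_card, card_radical]
    push_cast; ring
  rw [CharBasic.character_inv, norm_mul, Complex.norm_conj] at hsum
  have hnorm := congrArg norm htr
  rw [hN] at hnorm
  simp only [norm_mul, norm_pow, Complex.norm_natCast] at hnorm
  show ‖LinearMap.trace ℂ V (ρ g.1 * zproj d hF ρ χ)‖ ≤ _
  rw [← stabRep_character d hF ρ χ g, ← hσ]
  have hqpos : (0 : ℝ) < q := Nat.cast_pos.2 (q_pos hF)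
  have hDr : (D : ℝ) = (q : ℝ) ^ k := by exact_mod_cast hD
  rw [hDr] at hnorm hsum
  set t := ‖σ.character g‖
  have hpk : (0 : ℝ) < (q : ℝ) ^ k := pow_pos hqpos _
  have h1 : t ^ 2 ≤ ((q : ℝ) ^ (k - 1)) ^ 2 := by
    rw [← pow_mul, mul_comm (k - 1) 2, pow_mul]
    have h2 : ((q : ℝ) ^ 2) ^ k * q * t ^ 2 ≤ (q : ℝ) ^ k * (((q : ℝ) ^ 2) ^ (k - 1) * q * (q : ℝ) ^ k) := by
      calc ((q : ℝ) ^ 2) ^ k * q * t ^ 2 = (q : ℝ) ^ k * (‖z‖ * t) := by
            rw [sq t, ← mul_assoc, hnorm]; ring
        _ ≤ _ := mul_le_mul_of_nonneg_left hsum hpk.le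
    have e : ((q : ℝ) ^ 2) ^ k = (q : ℝ) ^ k * (q : ℝ) ^ k := by rw [← pow_mul, two_mul, pow_add]
    rw [e] at h2
    nlinarith [mul_pos (mul_pos hpk hpk) hqpos]
  exact le_of_pow_le_pow_left₀ two_ne_zero (pow_nonneg hqpos.le _) h1

end RadRep

end Cfsg.Agent.H53
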