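import Cfsg.Agent.H53.SUInvol

/-!
The commuting graph on the involutions of `SU(3, q)`, `q` odd.
-/

set_option autoImplicit false
set_option linter.unusedSectionVars false

namespace Cfsg.Agent.H53

open Cfsg Matrix Cfsg.Agent.Unitary

variable {F : Type*} [Field F] [Fintype F] {q : ℕ}

local notation "H" => hermForm 3 F q

theorem exists_normalise (hF : Fintype.card F = q ^ 2) {z : Fin 3 → F} (hz : H z z ≠ 0) :
    ∃ l : F, l ≠ 0 ∧ H (l • z) (l • z) = 1 := by
  obtain ⟨l, hl⟩ := exists_norm_eq hF (a := (H z z)⁻¹) (by rw [inv_pow, herm_self_fixed hF])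
  refine ⟨l, ?_, by rw [herm_self_smul, hl, inv_mul_cancel₀ hz]⟩
  rintro rfl
  rw [zero_mul] at hl
  exact inv_ne_zero hz hl.symm

theorem herm_self_sub_proj (hF : Fintype.card F = q ^ 2) {v u : Fin 3 → F} (hv : H v v = 1) :
    H (u - H u v • v) (u - H u v • v) = H u u - H u v * H u v ^ q := by
  rw [herm_sub_left, herm_sub_right hF, herm_sub_right hF, herm_smul_left, herm_smul_left,
    herm_smul_right, herm_smul_right, hv, ← herm_swap hF u v]
  ring

theorem not_commute_iff (hq : Odd q) (hF : Fintype.card F = q ^ 2) {v u : Fin 3 → F}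
    (hv : H v v = 1) (hu : H u u = 1) :
    ¬ Commute (rinv hF v) (rinv hF u) ↔ H u v ≠ 0 ∧ u ≠ H u v • v := by
  rw [commute_rinv_iff hq hF hv hu, rinv_eq_iff hq hF hv hu, not_or]

theorem exists_common_iff (hq : Odd q) (hF : Fintype.card F = q ^ 2) {v u : Fin 3 → F}
    (hv : H v v = 1) (hu : H u u = 1) (hn : ¬ Commute (rinv hF v) (rinv hF u)) :
    (∃ y : SU 3 F q, y ≠ 1 ∧ y * y = 1 ∧ Commute (rinv hF v) y ∧ Commute y (rinv hF u)) ↔
      H u v * H u v ^ q ≠ 1 := by
  have hne := ((not_commute_iff hq hF hv hu).1 hn).2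
  constructor
  · rintro ⟨y, hy, hy2, h1, h2⟩ h
    obtain ⟨w, hw, rfl⟩ := exists_rinv_eq hq hF hy hy2
    have hwv : H w v = 0 := ((commute_rinv_iff hq hF hv hw).1 h1).resolve_right fun e =>
      hn (e ▸ h2)
    have huw : H u w = 0 := ((commute_rinv_iff hq hF hw hu).1 h2).resolve_right fun e =>
      hn (e ▸ h1)
    obtain ⟨r, hr, -, -, hspan⟩ := exists_third hF hv hw hwv
    have hz : H (u - H u v • v) (u - H u v • v) = 0 := by
      rw [herm_self_sub_proj hF hv, hu, h, sub_self]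
    have he := hspan (u - H u v • v)
      (by rw [herm_sub_left, herm_smul_left, hv, mul_one, sub_self])
      (by rw [herm_sub_left, herm_smul_left, huw, (herm_eq_zero_symm hF).1 hwv, mul_zero, sub_zero])
    rw [he, herm_self_smul, hr, mul_one, mul_eq_zero, pow_q_eq_zero_iff hF, or_self] at hz
    rw [hz, zero_smul, sub_eq_zero] at he
    exact hne he
  · intro h
    have hz : H (u - H u v • v) (u - H u v • v) ≠ 0 := by
      rw [herm_self_sub_proj hF hv, hu]
      exact sub_ne_zero.2 h.symm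
    obtain ⟨l, hl, hl1⟩ := exists_normalise hF hz
    obtain ⟨w, hw, hwv, hwz, -⟩ := exists_third hF hv hl1
      (by rw [herm_smul_left, herm_sub_left, herm_smul_left, hv, mul_one, sub_self, mul_zero])
    refine ⟨rinv hF w, rinv_ne_one hq hF hw, rinv_sq hF hw,
      (commute_rinv_iff hq hF hv hw).2 (Or.inl hwv),
      (commute_rinv_iff hq hF hw hu).2 (Or.inl ((herm_eq_zero_symm hF).1 ?_))⟩
    rw [herm_smul_right, mul_eq_zero, pow_q_eq_zero_iff hF] at hwz
    have h' := hwz.resolve_left hl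
    rwa [herm_sub_right hF, herm_smul_right, hwv, mul_zero, sub_zero] at h'

theorem card_commuting (hq : Odd q) (hF : Fintype.card F = q ^ 2) {v : Fin 3 → F}
    (hv : H v v = 1) :
    Nat.card {x : SU 3 F q // x ≠ 1 ∧ x * x = 1 ∧ x ≠ rinv hF v ∧ Commute (rinv hF v) x}
      = q * (q - 1) := by
  have h := card_invol_mul hq hF (fun x => x ≠ rinv hF v ∧ Commute (rinv hF v) x)
  refine Nat.eq_of_mul_eq_mul_right (Nat.succ_pos q) (h.trans ?_)
  obtain ⟨g, hg, hgs⟩ := exists_perp_pair hF hv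
  have e : Nat.card {u : Fin 3 → F // H u u = 1 ∧ rinv hF u ≠ rinv hF v ∧
      Commute (rinv hF v) (rinv hF u)} = normCount 2 q (1 : F) := by
    rw [← card_norm_span hF hg 1]
    refine Nat.card_congr (Equiv.subtypeEquivRight fun u => ?_)
    rw [hgs]
    constructor
    · rintro ⟨hu, hne, hc⟩
      exact ⟨((commute_rinv_iff hq hF hv hu).1 hc).resolve_right hne.symm, hu⟩
    · rintro ⟨h0, hu⟩
      exact ⟨hu, rinv_ne_of_orth hq hF hv hu h0, (commute_rinv_iff hq hF hv hu).2 (Or.inl h0)⟩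
  rw [e, normCount_one_nat hF 1, guFactor, if_neg (by decide)]
  obtain ⟨k, rfl⟩ : ∃ k, q = k + 1 := ⟨q - 1, by have := q_pos hF; omega⟩
  simp only [Nat.add_sub_cancel, Nat.succ_eq_add_one, pow_one]
  rw [mul_assoc]
  congr 1
  refine (Nat.sq_sub_sq (k + 1) 1).trans ?_
  rw [Nat.add_sub_cancel]
  ring

theorem card_distance_three (hq : Odd q) (hF : Fintype.card F = q ^ 2) {v : Fin 3 → F}
    (hv : H v v = 1) :
    Nat.card {x : SU 3 F q // x ≠ 1 ∧ x * x = 1 ∧ ¬ Commute (rinv hF v) x ∧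
      ¬ ∃ y : SU 3 F q, y ≠ 1 ∧ y * y = 1 ∧ Commute (rinv hF v) y ∧ Commute y x}
      = (q + 1) * (q ^ 2 - 1) := by
  have h := card_invol_mul hq hF (fun x => ¬ Commute (rinv hF v) x ∧
      ¬ ∃ y : SU 3 F q, y ≠ 1 ∧ y * y = 1 ∧ Commute (rinv hF v) y ∧ Commute y x)
  refine Nat.eq_of_mul_eq_mul_right (Nat.succ_pos q) (h.trans ?_)
  obtain ⟨g, hg, hgs⟩ := exists_perp_pair hF hv
  let T := {z : Fin 3 → F | H z v = 0 ∧ H z z = 0}
  have hT : T.ncard = normCount 2 q (0 : F) := by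
    rw [← Nat.card_coe_set_eq, ← card_norm_span hF hg 0]
    exact Nat.card_congr (Equiv.subtypeEquivRight fun z => by rw [hgs]; rfl)
  have hM : (T \ {0}).ncard = (q + 1) * (q ^ 2 - 1) := by
    rw [Set.ncard_sdiff_singleton_of_mem (show (0 : Fin 3 → F) ∈ T from
      ⟨herm_zero_left v, herm_zero_left 0⟩), hT, normCount_zero_vec_nat hF, if_pos (by decide)]
    simp [mul_comm]
  rw [← Nat.card_coe_set_eq] at hM
  rw [← hM, Nat.succ_eq_add_one, ← card_norm_eq_one hF, ← Nat.card_prod]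
  refine Nat.card_congr (Equiv.ofBijective (fun u => (⟨u.1 - H u.1 v • v, ?_⟩, ⟨H u.1 v, ?_⟩))
    ⟨?_, ?_⟩)
  · obtain ⟨hu, hn, hex⟩ := u.2
    have h1 : H u.1 v * H u.1 v ^ q = 1 := by
      by_contra hne
      exact hex ((exists_common_iff hq hF hv hu hn).2 hne)
    refine ⟨⟨by rw [herm_sub_left, herm_smul_left, hv, mul_one, sub_self], ?_⟩, ?_⟩
    · rw [herm_self_sub_proj hF hv, hu, h1, sub_self]
    · exact fun e => ((not_commute_iff hq hF hv hu).1 hn).2 (sub_eq_zero.1 e)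
  · obtain ⟨hu, hn, hex⟩ := u.2
    by_contra hne
    exact hex ((exists_common_iff hq hF hv hu hn).2 hne)
  · intro u u' e
    simp only [Prod.mk.injEq, Subtype.mk.injEq] at e
    exact Subtype.ext (by rw [← sub_add_cancel u.1 (H u.1 v • v), e.1, e.2, sub_add_cancel])
  · rintro ⟨⟨z, ⟨hzv, hzz⟩, hz0⟩, a, ha⟩
    have hvz : H v z = 0 := (herm_eq_zero_symm hF).1 hzv
    have huv : H (a • v + z) v = a := by rw [herm_add_left, herm_smul_left, hv, hzv, add_zero, mul_one]
    have huu : H (a • v + z) (a • v + z) = 1 := by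
      rw [herm_self_add hF, herm_self_smul, hv, hzz, herm_smul_left, hvz, mul_zero,
        zero_pow (q_ne_zero hF), mul_one, ha]
      ring
    have hn : ¬ Commute (rinv hF v) (rinv hF (a • v + z)) := by
      rw [not_commute_iff hq hF hv huu, huv]
      refine ⟨fun e => ?_, fun e => hz0 (by simpa using e)⟩
      rw [e, zero_mul] at ha
      exact zero_ne_one ha
    refine ⟨⟨a • v + z, huu, hn, fun hex => ?_⟩, ?_⟩
    · have := (exists_common_iff hq hF hv huu hn).1 hex
      rw [huv] at this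
      exact this ha
    · exact Prod.ext (Subtype.ext (by simp [huv])) (Subtype.ext huv)

theorem card_subtype_split {α : Type*} [Finite α] (P Q : α → Prop) :
    Nat.card {x // P x} = Nat.card {x // P x ∧ Q x} + Nat.card {x // P x ∧ ¬ Q x} := by
  have h := Set.ncard_inter_add_ncard_sdiff_eq_ncard {x | P x} {x | Q x} (Set.toFinite _)
  rw [← Nat.card_coe_set_eq, ← Nat.card_coe_set_eq, ← Nat.card_coe_set_eq] at h
  exact h.symm

theorem card_distance_two (hq : Odd q) (hF : Fintype.card F = q ^ 2) {v : Fin 3 → F}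
    (hv : H v v = 1) :
    Nat.card {x : SU 3 F q // x ≠ 1 ∧ x * x = 1 ∧ ¬ Commute (rinv hF v) x ∧
      ∃ y : SU 3 F q, y ≠ 1 ∧ y * y = 1 ∧ Commute (rinv hF v) y ∧ Commute y x}
      = q * (q - 2) * (q ^ 2 - 1) := by
  set t := rinv hF v
  have hall := card_invol hq hF
  rw [card_subtype_split _ (fun x => Commute t x),
    card_subtype_split (fun x => (x ≠ 1 ∧ x * x = 1) ∧ Commute t x) (fun x => x = t),
    card_subtype_split (fun x => (x ≠ 1 ∧ x * x = 1) ∧ ¬ Commute t x)
      (fun x => ∃ y : SU 3 F q, y ≠ 1 ∧ y * y = 1 ∧ Commute t y ∧ Commute y x)] at hall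
  have h1 : Nat.card {x : SU 3 F q // ((x ≠ 1 ∧ x * x = 1) ∧ Commute t x) ∧ x = t} = 1 := by
    rw [Nat.card_eq_one_iff_unique]
    exact ⟨⟨fun a b => Subtype.ext (a.2.2.trans b.2.2.symm)⟩,
      ⟨⟨t, ⟨⟨rinv_ne_one hq hF hv, rinv_sq hF hv⟩, Commute.refl t⟩, rfl⟩⟩⟩
  have h2 : Nat.card {x : SU 3 F q // ((x ≠ 1 ∧ x * x = 1) ∧ Commute t x) ∧ ¬ x = t}
      = q * (q - 1) := by
    rw [← card_commuting hq hF hv]
    exact Nat.card_congr (Equiv.subtypeEquivRight fun x => by simp only [and_assoc, ne_eq]; tauto)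
  have h3 := card_distance_three hq hF hv
  simp only [and_assoc] at hall h1 h2
  rw [h1, h2, h3] at hall
  obtain ⟨k, rfl⟩ : ∃ k, q = k + 3 := ⟨q - 3, by have := three_le_q hq hF; omega⟩
  have e1 : k + 3 - 1 = k + 2 := by omega
  have e2 : k + 3 - 2 = k + 1 := by omega
  have e3 : (k + 3) ^ 2 - 1 = (k + 4) * (k + 2) := by
    refine (Nat.sq_sub_sq (k + 3) 1).trans ?_
    rw [e1]
  have e4 : (k + 3) ^ 2 - (k + 3) + 1 = (k + 3) * (k + 2) + 1 := by
    rw [sq, ← Nat.mul_sub_one, e1]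
  rw [e1, e3, e4] at hall
  rw [e2, e3]
  linarith

theorem exists_path (hq : Odd q) (hF : Fintype.card F = q ^ 2) {v : Fin 3 → F} (hv : H v v = 1)
    {x : SU 3 F q} (hx : x ≠ 1) (hx2 : x * x = 1) :
    ∃ y z : SU 3 F q, y ≠ 1 ∧ y * y = 1 ∧ z ≠ 1 ∧ z * z = 1 ∧
      Commute (rinv hF v) y ∧ Commute y z ∧ Commute z x := by
  by_cases hc : Commute (rinv hF v) x
  · exact ⟨rinv hF v, x, rinv_ne_one hq hF hv, rinv_sq hF hv, hx, hx2, Commute.refl _, hc,
      Commute.refl _⟩
  by_cases hex : ∃ y : SU 3 F q, y ≠ 1 ∧ y * y = 1 ∧ Commute (rinv hF v) y ∧ Commute y x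
  · obtain ⟨y, hy, hy2, h1, h2⟩ := hex
    exact ⟨y, y, hy, hy2, hy, hy2, h1, Commute.refl _, h2⟩
  obtain ⟨u, hu, rfl⟩ := exists_rinv_eq hq hF hx hx2
  have hn1 : H u v * H u v ^ q = 1 := by
    by_contra hne
    exact hex ((exists_common_iff hq hF hv hu hc).2 hne)
  set z := u - H u v • v with hz
  have hzv : H z v = 0 := by rw [hz, herm_sub_left, herm_smul_left, hv, mul_one, sub_self]
  have hzz : H z z = 0 := by rw [hz, herm_self_sub_proj hF hv, hu, hn1, sub_self]
  have hz0 : z ≠ 0 := fun e => ((not_commute_iff hq hF hv hu).1 hc).2 (sub_eq_zero.1 e)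
  obtain ⟨g, hg, hgs⟩ := exists_perp_pair hF hv
  have hg0 : H (g 0) (g 0) = 1 := by simpa using hg 0 0
  have hg0v : H (g 0) v = 0 := (hgs _).1 (Submodule.subset_span ⟨0, rfl⟩)
  set al := H z (g 0) with hal
  have hal0 : al ≠ 0 := by
    intro e
    have he := hg.proj_eq_self hF ((hgs z).2 hzv)
    rw [projON, Fin.sum_univ_two, ← hal, e, zero_smul, zero_add] at he
    have hg1 : H (g 1) (g 1) = 1 := by simpa using hg 1 1
    rw [← he, herm_self_smul, hg1, mul_one, mul_eq_zero, pow_q_eq_zero_iff hF, or_self] at hzz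
    rw [hzz, zero_smul] at he
    exact hz0 he.symm
  obtain ⟨T, hT, hT1, hT2⟩ : ∃ T : F, T ^ q = T ∧ T ≠ -1 ∧ T ≠ al * al ^ q - 1 := by
    by_contra hcon
    push Not at hcon
    have hsub : {x : F | x ^ q = x} ⊆ {-1, al * al ^ q - 1} := fun T hT => by
      by_cases h : T = -1
      · exact Or.inl h
      · exact Or.inr (hcon T hT h)
    have h1 := Set.ncard_le_ncard hsub (Set.toFinite _)
    have h2 : ({-1, al * al ^ q - 1} : Set F).ncard ≤ 2 := by
      refine (Set.ncard_insert_le _ _).trans ?_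
      rw [Set.ncard_singleton]
    rw [← Nat.card_coe_set_eq] at h1
    have h3 : Nat.card {x : F | x ^ q = x} = q := card_fixed hF
    have := three_le_q hq hF
    omega
  obtain ⟨s, hs⟩ := exists_trace_eq hF hT
  set w := g 0 + (s / al) • z with hw
  have hww : H w w = 1 + T := by
    rw [hw, herm_self_add hF, herm_self_smul, hzz, hg0, mul_zero, add_zero, herm_smul_right,
      ← herm_swap hF z (g 0), ← hal, ← mul_pow, div_mul_cancel₀ s hal0, pow_q_q hF]
    rw [← hs]; ring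
  have hww0 : H w w ≠ 0 := by
    rw [hww]; intro e; exact hT1 (by linear_combination e)
  have hwv : H w v = 0 := by rw [hw, herm_add_left, herm_smul_left, hg0v, hzv, mul_zero, add_zero]
  have hwz : H z w = al := by
    rw [hw, herm_add_right hF, herm_smul_right, hzz, mul_zero, add_zero]
  have huw : H u w = al := by
    rw [← sub_add_cancel u (H u v • v), ← hz, herm_add_left, herm_smul_left, hwz,
      (herm_eq_zero_symm hF).1 hwv, mul_zero, add_zero]
  set z' := w - H w u • u with hz'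
  have hz'z' : H z' z' ≠ 0 := by
    rw [hz', herm_self_sub_proj hF hu, hww, ← herm_swap hF u w, pow_q_q hF, huw]
    intro e
    exact hT2 (by linear_combination e)
  obtain ⟨l, hl, hl1⟩ := exists_normalise hF hww0
  obtain ⟨l', hl', hl'1⟩ := exists_normalise hF hz'z'
  obtain ⟨r, hr, hru, hrz, -⟩ := exists_third hF hu hl'1
    (by rw [herm_smul_left, hz', herm_sub_left, herm_smul_left, hu, mul_one, sub_self, mul_zero])
  rw [herm_smul_right, mul_eq_zero, pow_q_eq_zero_iff hF] at hrz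
  have hrz' := hrz.resolve_left hl'
  rw [hz', herm_sub_right hF, herm_smul_right, hru, mul_zero, sub_zero] at hrz'
  refine ⟨rinv hF (l • w), rinv hF r, rinv_ne_one hq hF hl1, rinv_sq hF hl1, rinv_ne_one hq hF hr,
    rinv_sq hF hr, (commute_rinv_iff hq hF hv hl1).2 (Or.inl ?_),
    (commute_rinv_iff hq hF hl1 hr).2 (Or.inl ?_), ((commute_rinv_iff hq hF hu hr).2 (Or.inl hru)).symm⟩
  · rw [herm_smul_left, hwv, mul_zero]
  · rw [herm_smul_right, hrz', mul_zero]

end Cfsg.Agent.H53
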