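import Cfsg.Agent.H53.SpQF
import Cfsg.Agent.H53.SUHeis

/-!
The smallest degree of a non-linear representation of symplectic groups in characteristic two.
-/

set_option autoImplicit false
set_option linter.unusedSectionVars false

namespace Cfsg.Agent.H53.SpR

open Cfsg Matrix Finset
open Cfsg.Agent.Symplectic (T T_mulVec T_mul T_zero T_smul T_conj sp_transitive)

variable {m : ℕ} {F : Type*} [Field F] [Fintype F] [DecidableEq F] [CharP F 2]

local notation "qq" => Fintype.card F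

theorem qq_ne_zero : (qq : ℂ) ≠ 0 := Nat.cast_ne_zero.2 Fintype.card_ne_zero

/-- The recursively defined bound. -/
def spLow (q : ℕ) : ℕ → ℕ
  | 0 => 0
  | 1 => 0
  | k + 2 => (q - 1) * (q ^ (k + 1) * (q ^ (k + 1) - 1) / 2) + spLow q (k + 1)

theorem spLow_closed {q : ℕ} (hq : 1 ≤ q) (he : Even q) : ∀ n : ℕ, 1 ≤ n →
    (spLow q n : ℤ) * (2 * ((q : ℤ) + 1)) = ((q : ℤ) ^ n - 1) * ((q : ℤ) ^ n - q)
  | 0 => fun h => absurd h (by omega)
  | 1 => fun _ => by simp [spLow]
  | k + 2 => fun _ => by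
    have ih := spLow_closed hq he (k + 1) (by omega)
    obtain ⟨h, hh⟩ : 2 ∣ q ^ (k + 1) * (q ^ (k + 1) - 1) :=
      Dvd.dvd.mul_right (he.two_dvd.trans (dvd_pow_self q (by omega))) _
    have e : (q ^ (k + 1) * (q ^ (k + 1) - 1) / 2 : ℕ) = h := by omega
    have hh' : (2 : ℤ) * h = (q : ℤ) ^ (k + 1) * ((q : ℤ) ^ (k + 1) - 1) := by
      have := congrArg (fun x : ℕ => (x : ℤ)) hh
      push_cast [Nat.cast_sub (Nat.one_le_pow (k + 1) q (by omega))] at this
      linarith
    rw [spLow, e, Nat.cast_add, Nat.cast_mul, Nat.cast_sub hq, Nat.cast_one]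
    linear_combination ih + ((q : ℤ) - 1) * (q + 1) * hh'

/-- The trace of an involution on the range of a commuting idempotent. -/
theorem norm_trace_mul_le {V : Type*} [AddCommGroup V] [Module ℂ V] [FiniteDimensional ℂ V]
    {a P : Module.End ℂ V} (hP : IsIdempotentElem P) (ha : a * a = 1) (hc : a * P = P * a) :
    ‖LinearMap.trace ℂ V (a * P)‖ ≤ Module.finrank ℂ (LinearMap.range P) := by
  have h1 : P * P = P := hP
  have h2 : P * (a * P) = a * P := by rw [← mul_assoc, ← hc, mul_assoc, h1]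
  have h3 : a * P * P = a * P := by rw [mul_assoc, h1]
  have h4 : a * P * (a * P) = P := by rw [mul_assoc, h2, ← mul_assoc, ha, one_mul]
  have hi : ∀ {x : Module.End ℂ V}, x * x = P → P * x = x → x * P = x →
      IsIdempotentElem ((2 : ℂ)⁻¹ • (P + x)) := by
    intro x hx hx1 hx2
    rw [IsIdempotentElem, smul_mul_smul_comm, add_mul, mul_add, mul_add, h1, hx, hx1, hx2,
      show P + x + (x + P) = (2 : ℂ) • (P + x) by rw [two_smul]; abel, smul_smul]
    norm_num
  have hp := hi h4 h2 h3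
  have hn := hi (x := -(a * P)) (by rw [neg_mul_neg, h4]) (by rw [mul_neg, h2]) (by rw [neg_mul, h3])
  have nat : ∀ {x : Module.End ℂ V}, IsIdempotentElem x →
      LinearMap.trace ℂ V x = (Module.finrank ℂ (LinearMap.range x) : ℂ) := fun hx =>
    LinearMap.IsProj.trace (LinearMap.IsIdempotentElem.isProj_range _ hx)
  have e1 : LinearMap.trace ℂ V (a * P) =
      (Module.finrank ℂ (LinearMap.range ((2 : ℂ)⁻¹ • (P + a * P))) : ℂ) -
      (Module.finrank ℂ (LinearMap.range ((2 : ℂ)⁻¹ • (P + -(a * P)))) : ℂ) := by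
    rw [← nat hp, ← nat hn, ← map_sub, ← smul_sub,
      show P + a * P - (P + -(a * P)) = (2 : ℂ) • (a * P) by rw [two_smul]; abel, smul_smul]
    norm_num
  have e2 : (Module.finrank ℂ (LinearMap.range P) : ℂ) =
      (Module.finrank ℂ (LinearMap.range ((2 : ℂ)⁻¹ • (P + a * P))) : ℂ) +
      (Module.finrank ℂ (LinearMap.range ((2 : ℂ)⁻¹ • (P + -(a * P)))) : ℂ) := by
    rw [← nat hP, ← nat hp, ← nat hn, ← map_add, ← smul_add,
      show P + a * P + (P + -(a * P)) = (2 : ℂ) • P by rw [two_smul]; abel, smul_smul]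
    norm_num
  rw [e1]
  refine (norm_sub_le _ _).trans (le_of_eq ?_)
  rw [Complex.norm_natCast, Complex.norm_natCast]
  exact_mod_cast e2.symm

variable {V : Type*} [AddCommGroup V] [Module ℂ V]
  (ρ : Representation ℂ (Matrix.symplecticGroup (Fin (m + 1)) F) V)

/-- The projection on an eigenspace of the root group. -/
noncomputable def zP (ψ : AddChar F ℂ) : Module.End ℂ V :=
  (qq : ℂ)⁻¹ • ∑ c : F, ψ c • ρ (zel c)

theorem zel_mul_zP (ψ : AddChar F ℂ) (c : F) : ρ (zel c) * zP ρ ψ = ψ c • zP ρ ψ := by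
  rw [zP, mul_smul_comm, Finset.mul_sum, smul_comm (ψ c), Finset.smul_sum (r := ψ c)]
  congr 1
  rw [← Equiv.sum_comp (Equiv.addLeft c) (fun d => ρ (zel c) * (ψ d • ρ (zel d)))]
  refine Finset.sum_congr rfl fun d _ => ?_
  rw [Equiv.coe_addLeft, mul_smul_comm, ← map_mul, ← zel_add, ← add_assoc, CharTwo.add_self_eq_zero,
    zero_add, smul_smul, AddChar.map_add_eq_mul]

theorem isIdempotentElem_zP (ψ : AddChar F ℂ) : IsIdempotentElem (zP ρ ψ) := by
  rw [IsIdempotentElem]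
  nth_rw 1 [zP]
  rw [smul_mul_assoc, Finset.sum_mul]
  simp only [smul_mul_assoc, zel_mul_zP, smul_smul, psi_sq]
  rw [Finset.sum_const, Finset.card_univ, one_smul, ← Nat.cast_smul_eq_nsmul ℂ, smul_smul,
    inv_mul_cancel₀ qq_ne_zero, one_smul]

theorem sum_zP : ∑ ψ : AddChar F ℂ, zP ρ ψ = 1 := by
  simp only [zP, ← Finset.smul_sum]
  rw [Finset.sum_comm]
  simp only [← Finset.sum_smul, AddChar.sum_apply_eq_ite]
  rw [Finset.sum_eq_single (0 : F) (fun b _ hb => by rw [if_neg hb, zero_smul]) (by simp), if_pos rfl,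
    zel_zero, map_one, smul_smul, inv_mul_cancel₀ qq_ne_zero, one_smul]

theorem comm_zP (ψ : AddChar F ℂ) (g : Matrix.symplecticGroup (Fin (m + 1)) F)
    (hg : ∀ c, g * zel c = zel c * g) : ρ g * zP ρ ψ = zP ρ ψ * ρ g := by
  simp only [zP, mul_smul_comm, smul_mul_assoc, Finset.mul_sum, Finset.sum_mul, ← map_mul, hg]

/-- The operators of the radical. -/
noncomputable def XX (ψ : AddChar F ℂ) (w : Vec m F) : Module.End ℂ V := ρ (xel w) * zP ρ ψ

theorem XX_zero (ψ : AddChar F ℂ) : XX ρ ψ 0 = zP ρ ψ := by rw [XX, xel_zero, map_one, one_mul]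

theorem XX_mul (ψ : AddChar F ℂ) (w w' : Vec m F) :
    XX ρ ψ w * XX ρ ψ w' = ψ (sympForm m F w' w) • XX ρ ψ (w + w') := by
  rw [XX, XX, XX, mul_assoc, ← mul_assoc (zP ρ ψ), ← comm_zP ρ ψ _ (xel_comm_zel w'), mul_assoc,
    (isIdempotentElem_zP ρ ψ).eq, ← mul_assoc, ← map_mul, xel_mul, map_mul, mul_assoc, zel_mul_zP,
    mul_smul_comm]

/-- The projection on a weight space of the radical. -/
noncomputable def wP (ψ : AddChar F ℂ) (f : Vec m F → ℂ) : Module.End ℂ V :=
  (Fintype.card (Vec m F) : ℂ)⁻¹ • ∑ w, f w • XX ρ ψ w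

variable {ψ : AddChar F ℂ} {f : Vec m F → ℂ}

theorem XX_mul_wP (hf : IsQF ψ f) (w : Vec m F) : XX ρ ψ w * wP ρ ψ f = f w • wP ρ ψ f := by
  rw [wP, mul_smul_comm, Finset.mul_sum, smul_comm (f w), Finset.smul_sum (r := f w)]
  congr 1
  refine Fintype.sum_equiv (Equiv.addLeft w) _ _ fun d => ?_
  rw [Equiv.coe_addLeft, mul_smul_comm, XX_mul, smul_smul, smul_smul]
  congr 1
  rw [hf.add, form_swap d w, CharTwo.neg_eq, ← mul_assoc, ← mul_assoc, hf.sq, one_mul]

theorem isIdempotentElem_wP (hf : IsQF ψ f) : IsIdempotentElem (wP ρ ψ f) := by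
  rw [IsIdempotentElem]
  nth_rw 1 [wP]
  rw [smul_mul_assoc, Finset.sum_mul]
  simp only [smul_mul_assoc, XX_mul_wP ρ hf, smul_smul, hf.sq]
  rw [Finset.sum_const, Finset.card_univ, one_smul, ← Nat.cast_smul_eq_nsmul ℂ, smul_smul,
    inv_mul_cancel₀ (Nat.cast_ne_zero.2 Fintype.card_ne_zero), one_smul]

theorem wP_mul_wP_ne {f' : Vec m F → ℂ} (hf : IsQF ψ f) (hf' : IsQF ψ f') (h : f ≠ f') :
    wP ρ ψ f * wP ρ ψ f' = 0 := by
  let δ : AddChar (Vec m F) ℂ :=
    { toFun := fun w => f w * f' w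
      map_zero_eq_one' := by simp [hf.zero, hf'.zero]
      map_add_eq_mul' := fun w w' => by
        rw [hf.add, hf'.add]
        linear_combination (f w * f w' * f' w * f' w') * psi_sq ψ (sympForm m F w w') }
  have hδ : δ ≠ 0 := fun e => h (funext fun w => by
    have h1 : f w * f' w = 1 := DFunLike.congr_fun e w
    linear_combination f' w * h1 - f w * hf'.sq w)
  have h0 : ∑ w, f w * f' w = 0 := (AddChar.sum_eq_ite δ).trans (if_neg hδ)
  nth_rw 1 [wP]
  rw [smul_mul_assoc, Finset.sum_mul]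
  simp only [smul_mul_assoc, XX_mul_wP ρ hf', smul_smul, ← Finset.sum_smul, h0, zero_smul, smul_zero]

theorem sum_wP (ψ : AddChar F ℂ) :
    ∑ χ : AddChar (Vec m F) ℂ, wP ρ ψ (qf ψ χ) = zP ρ ψ := by
  simp only [wP, ← Finset.smul_sum]
  rw [Finset.sum_comm]
  simp only [← Finset.sum_smul, sum_qf]
  rw [Finset.sum_eq_single (0 : Vec m F) (fun b _ hb => by rw [if_neg hb, zero_smul]) (by simp),
    if_pos rfl, XX_zero, smul_smul, inv_mul_cancel₀ (Nat.cast_ne_zero.2 Fintype.card_ne_zero),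
    one_smul]

theorem emb_mul_wP (ψ : AddChar F ℂ) (g : Matrix.symplecticGroup (Fin m) F) (f : Vec m F → ℂ) :
    ρ (emb g) * wP ρ ψ (fun w => f ((g : Symplectic.Mat m F) *ᵥ w)) = wP ρ ψ f * ρ (emb g) := by
  rw [wP, wP, mul_smul_comm, smul_mul_assoc, Finset.mul_sum, Finset.sum_mul]
  congr 1
  refine Fintype.sum_equiv (Symplectic.toEquiv g).toEquiv _ _ fun w => ?_
  have e : (Symplectic.toEquiv g).toEquiv w = (g : Symplectic.Mat m F) *ᵥ w := rfl
  rw [e, mul_smul_comm, smul_mul_assoc, XX, XX, ← mul_assoc, ← map_mul, emb_xel, map_mul, mul_assoc,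
    comm_zP ρ ψ _ (emb_comm_zel g), ← mul_assoc]

/-- The multiplicity of a weight. -/
noncomputable def dd (ψ : AddChar F ℂ) (χ : AddChar (Vec m F) ℂ) : ℕ :=
  Module.finrank ℂ (LinearMap.range (wP ρ ψ (qf ψ χ)))

variable [FiniteDimensional ℂ V]

theorem trace_eq_finrank {P : Module.End ℂ V} (hP : IsIdempotentElem P) :
    LinearMap.trace ℂ V P = (Module.finrank ℂ (LinearMap.range P) : ℂ) :=
  LinearMap.IsProj.trace (LinearMap.IsIdempotentElem.isProj_range _ hP)

theorem trace_wP (χ : AddChar (Vec m F) ℂ) :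
    LinearMap.trace ℂ V (wP ρ ψ (qf ψ χ)) = (dd ρ ψ χ : ℂ) :=
  trace_eq_finrank (isIdempotentElem_wP ρ (isQF_qf χ))

theorem dd_shift (hψ : ψ ≠ 0) (χ : AddChar (Vec m F) ℂ) {u : Vec m F} (hu : qf ψ χ u = 1) :
    dd ρ ψ (χ * Bh ψ u) = dd ρ ψ χ := by
  obtain ⟨c, hc⟩ := (isQF_qf (ψ := ψ) χ).exists_shift hψ hu
  apply Nat.cast_injective (R := ℂ)
  have e := emb_mul_wP ρ ψ (T u c) (qf ψ χ)
  rw [show (fun w => qf ψ χ ((T u c : Symplectic.Mat m F) *ᵥ w)) = qf ψ (χ * Bh ψ u) from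
    funext fun w => by rw [hc, qf_mul]] at e
  have e2 := congrArg (fun x => ρ (emb (T u c))⁻¹ * x) e
  simp only [← mul_assoc, ← map_mul, inv_mul_cancel, map_one, one_mul] at e2
  rw [← trace_wP, ← trace_wP, e2, LinearMap.trace_mul_cycle, ← map_mul, mul_inv_cancel, map_one,
    one_mul]

theorem count_le (hψ : ψ ≠ 0) (χ : AddChar (Vec m F) ℂ) (hd : dd ρ ψ χ ≠ 0) :
    qq ^ m * (qq ^ m - 1) / 2 ≤ ∑ χ', dd ρ ψ χ' := by
  classical
  have hinj : Function.Injective fun u => χ * Bh ψ u := fun u u' h => Bh_injective hψ fun w => by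
    have hw : χ w * Bh ψ u w = χ w * Bh ψ u' w := by
      rw [← AddChar.mul_apply, ← AddChar.mul_apply]; exact DFunLike.congr_fun h w
    refine mul_left_cancel₀ (a := χ w) (fun h0 => ?_) hw
    have h1 := (isQF_qf (ψ := ψ) χ).sq w
    rw [qf, h0] at h1
    simp at h1
  calc qq ^ m * (qq ^ m - 1) / 2 ≤ (univ.filter fun u => qf ψ χ u = 1).card :=
        (isQF_qf χ).count hψ
    _ = ((univ.filter fun u => qf ψ χ u = 1).image fun u => χ * Bh ψ u).card :=
        (Finset.card_image_of_injective _ hinj).symm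
    _ = ∑ _χ' ∈ (univ.filter fun u => qf ψ χ u = 1).image fun u => χ * Bh ψ u, 1 :=
        Finset.card_eq_sum_ones _
    _ ≤ ∑ χ' ∈ (univ.filter fun u => qf ψ χ u = 1).image fun u => χ * Bh ψ u, dd ρ ψ χ' :=
        Finset.sum_le_sum fun χ' hχ' => by
          obtain ⟨u, hu, rfl⟩ := Finset.mem_image.1 hχ'
          rw [dd_shift ρ hψ χ (Finset.mem_filter.1 hu).2]
          omega
    _ ≤ ∑ χ', dd ρ ψ χ' := Finset.sum_le_sum_of_subset (Finset.subset_univ _)

theorem norm_trace_T_le (v : Vec m F) (c : F) (χ : AddChar (Vec m F) ℂ) :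
    ‖LinearMap.trace ℂ V (ρ (emb (T v c)) * wP ρ ψ (qf ψ χ))‖ ≤
      if (fun w => qf ψ χ ((T v c : Symplectic.Mat m F) *ᵥ w)) = qf ψ χ then (dd ρ ψ χ : ℝ) else 0 := by
  set f := qf ψ χ
  set g := T v c
  have hgg : g * g = 1 := by rw [T_mul, CharTwo.add_self_eq_zero, T_zero]
  have hf := isQF_qf (ψ := ψ) χ
  set f' := fun w => f ((g : Symplectic.Mat m F) *ᵥ w) with hf'
  have hf'f : (fun w => f' ((g : Symplectic.Mat m F) *ᵥ w)) = f := funext fun w => by
    simp only [hf']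
    rw [mulVec_mulVec, ← Submonoid.coe_mul, hgg, Submonoid.coe_one, one_mulVec]
  have e := emb_mul_wP ρ ψ g f'
  rw [hf'f] at e
  split_ifs with h
  · rw [h] at e
    exact norm_trace_mul_le (isIdempotentElem_wP ρ hf) (by rw [← map_mul, ← map_mul, hgg, map_one, map_one]) e
  · refine le_of_eq ?_
    rw [norm_eq_zero, show ρ (emb g) * wP ρ ψ f = ρ (emb g) * wP ρ ψ f * wP ρ ψ f by
      rw [mul_assoc, (isIdempotentElem_wP ρ hf).eq], LinearMap.trace_mul_comm, e, ← mul_assoc,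
      wP_mul_wP_ne ρ hf (hf.comp g) (Ne.symm h), zero_mul, map_zero]

omit [FiniteDimensional ℂ V] in
/-- All transvections are conjugate. -/
theorem char_T {n : ℕ} (σ : Representation ℂ (Matrix.symplecticGroup (Fin n) F) V)
    {v w : Vec n F} (hv : v ≠ 0) (hw : w ≠ 0) {c : F} (hc : c ≠ 0) :
    σ.character (T v c) = σ.character (T w 1) := by
  obtain ⟨d, rfl⟩ := exists_sqrt c
  obtain ⟨g, hg⟩ := sp_transitive hw (w := d • v) (smul_ne_zero (fun e => hc (by simp [e])) hv)
  rw [show T v (d ^ 2) = g * T w 1 * g⁻¹ by rw [T_conj, hg, T_smul, mul_one], Representation.char_conj]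

/-- The lower bound for representations with a non-trivial transvection. -/
theorem sp_bound : ∀ (n : ℕ) (V : Type) [AddCommGroup V] [Module ℂ V] [FiniteDimensional ℂ V]
      (ρ : Representation ℂ (Matrix.symplecticGroup (Fin n) F) V) (w : Vec n F), w ≠ 0 →
      ρ.character (T w 1) ≠ (Module.finrank ℂ V : ℂ) → spLow qq n ≤ Module.finrank ℂ V
  | 0 => fun _ _ _ _ _ _ _ _ => Nat.zero_le _
  | 1 => fun _ _ _ _ _ _ _ _ => Nat.zero_le _
  | k + 2 => by
    intro V _ _ _ ρ w₀ hw₀ hne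
    classical
    have hq : 2 ≤ qq := Fintype.one_lt_card
    set θ := ρ.character (T w₀ 1)
    set dim := Module.finrank ℂ V
    have he0 : jn (1 : F) 0 (0 : Vec (k + 1) F) ≠ 0 := fun e =>
      one_ne_zero (jn_injective (e.trans jn_zero.symm)).1
    have hzθ : ∀ c : F, c ≠ 0 → ρ.character (zel c) = θ := fun c hc => char_T ρ he0 hw₀ hc
    have hval : ∀ ψ : AddChar F ℂ, LinearMap.trace ℂ V (zP ρ ψ) =
        (qq : ℂ)⁻¹ * ((dim : ℂ) - θ + (if ψ = 0 then (qq : ℂ) else 0) * θ) := by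
      intro ψ
      simp only [zP, map_smul, map_sum, smul_eq_mul]
      congr 1
      have e : ∀ c : F, ψ c * LinearMap.trace ℂ V (ρ (zel c)) =
          (if c = 0 then (dim : ℂ) - θ else 0) + ψ c * θ := by
        intro c
        split_ifs with hc
        · subst hc
          rw [zel_zero, map_one, LinearMap.trace_one, AddChar.map_zero_eq_one]
          ring
        · rw [zero_add, ← hzθ c hc]; rfl
      rw [Finset.sum_congr rfl fun c _ => e c, Finset.sum_add_distrib, Finset.sum_ite_eq',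
        if_pos (Finset.mem_univ _), ← Finset.sum_mul, AddChar.sum_eq_ite]
    set a := Module.finrank ℂ (LinearMap.range (zP ρ (0 : AddChar F ℂ))) with ha
    have hnat : ∀ ψ : AddChar F ℂ, LinearMap.trace ℂ V (zP ρ ψ) =
        (Module.finrank ℂ (LinearMap.range (zP ρ ψ)) : ℂ) := fun ψ =>
      trace_eq_finrank (isIdempotentElem_zP ρ ψ)
    have hK1 : 1 < Fintype.card (AddChar F ℂ) := by rw [AddChar.card_eq]; omega
    obtain ⟨ψ₁, hψ₁⟩ := Fintype.exists_ne_of_one_lt_card hK1 0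
    set D := Module.finrank ℂ (LinearMap.range (zP ρ ψ₁)) with hD
    have hD' : (dim : ℂ) - θ = qq * D := by
      rw [hD, ← hnat, hval, if_neg hψ₁]
      field_simp [qq_ne_zero (F := F)]
      ring
    have hsum : ∀ ψ : AddChar F ℂ, ψ ≠ 0 → ∑ χ, dd ρ ψ χ = D := fun ψ hψ =>
      Nat.cast_injective (R := ℂ) (by
        rw [Nat.cast_sum, Finset.sum_congr rfl fun χ _ => (trace_wP ρ (ψ := ψ) χ).symm, ← map_sum,
          sum_wP, hD, ← hnat, hval, hval, if_neg hψ, if_neg hψ₁])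
    have hθa : θ = (a : ℂ) - D := by
      have h0 : (a : ℂ) = (qq : ℂ)⁻¹ * ((dim : ℂ) - θ + (qq : ℂ) * θ) := by
        rw [ha, ← hnat, hval, if_pos rfl]
      rw [h0, hD']
      field_simp [qq_ne_zero (F := F)]
      ring
    have hdim : dim = a + (qq - 1) * D := by
      refine Nat.cast_injective (R := ℂ) ?_
      rw [Nat.cast_add, Nat.cast_mul, Nat.cast_sub (by omega : 1 ≤ qq), Nat.cast_one]
      linear_combination hD' + hθa
    have hD0 : 0 < D := Nat.pos_of_ne_zero fun e => hne (by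
      rw [e, Nat.cast_zero, mul_zero, sub_eq_zero] at hD'
      exact hD'.symm)
    obtain ⟨χ₁, hχ₁⟩ : ∃ χ, dd ρ ψ₁ χ ≠ 0 := by
      by_contra h
      push Not at h
      have := hsum ψ₁ hψ₁
      simp [h] at this
      omega
    have hDlow : qq ^ (k + 1) * (qq ^ (k + 1) - 1) / 2 ≤ D :=
      hsum ψ₁ hψ₁ ▸ count_le ρ hψ₁ χ₁ hχ₁
    rw [spLow, hdim]
    suffices hU : spLow qq (k + 1) ≤ a by
      have := Nat.mul_le_mul_left (qq - 1) hDlow
      omega
    rcases Nat.eq_zero_or_pos k with rfl | hk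
    · exact Nat.zero_le _
    -- the representation on the fixed space of the root group
    have hcomm : ∀ g, ρ (emb g) * zP ρ 0 = zP ρ 0 * ρ (emb g) := fun g =>
      comm_zP ρ 0 _ (emb_comm_zel g)
    set σ := rangeRep ρ emb (zP ρ 0) hcomm
    have hσ : ∀ g, σ.character g = LinearMap.trace ℂ V (ρ (emb g) * zP ρ 0) := fun g =>
      rangeRep_character ρ emb (isIdempotentElem_zP ρ 0) hcomm g
    obtain ⟨v, hv0, hv1⟩ := (isQF_qf (ψ := ψ₁) χ₁).exists_singular hψ₁ (by omega)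
    refine sp_bound (k + 1) _ σ v hv0 fun h0 => ?_
    -- the transvections would act trivially on the fixed space
    rw [← ha] at h0
    have hjv : jn (0 : F) 0 v ≠ 0 := fun e => hv0 (jn_injective (e.trans jn_zero.symm)).2.2
    have hW : ∀ c : F, c ≠ 0 → ∑ ψ ∈ univ.erase (0 : AddChar F ℂ),
        LinearMap.trace ℂ V (ρ (emb (T v c)) * zP ρ ψ) = -(D : ℂ) := by
      intro c hc
      have hsplit : ρ.character (emb (T v c)) = ∑ ψ : AddChar F ℂ,
          LinearMap.trace ℂ V (ρ (emb (T v c)) * zP ρ ψ) := by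
        rw [← map_sum, ← Finset.mul_sum, sum_zP, mul_one]
        rfl
      rw [← Finset.add_sum_erase _ _ (Finset.mem_univ (0 : AddChar F ℂ)), ← hσ,
        char_T σ hv0 hv0 hc, h0, emb_T, char_T ρ hjv hw₀ hc] at hsplit
      rw [emb_T]
      linear_combination -hsplit + hθa
    let fx : AddChar F ℂ → AddChar (Vec (k + 1) F) ℂ → F → Prop := fun ψ χ c =>
      (fun w => qf ψ χ ((T v c : Symplectic.Mat (k + 1) F) *ᵥ w)) = qf ψ χ
    have hle : ∀ c : F, c ≠ 0 → D ≤ ∑ ψ ∈ univ.erase (0 : AddChar F ℂ),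
        ∑ χ, if fx ψ χ c then dd ρ ψ χ else 0 := by
      intro c hc
      have h1 : (D : ℝ) ≤ ∑ ψ ∈ univ.erase (0 : AddChar F ℂ),
          ∑ χ, if fx ψ χ c then (dd ρ ψ χ : ℝ) else 0 := by
        calc (D : ℝ) = ‖∑ ψ ∈ univ.erase (0 : AddChar F ℂ),
              LinearMap.trace ℂ V (ρ (emb (T v c)) * zP ρ ψ)‖ := by
              rw [hW c hc, norm_neg, Complex.norm_natCast]
          _ ≤ _ := (norm_sum_le _ _).trans (Finset.sum_le_sum fun ψ _ => by
              rw [← sum_wP, Finset.mul_sum, map_sum]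
              exact (norm_sum_le _ _).trans (Finset.sum_le_sum fun χ _ => norm_trace_T_le ρ v c χ))
      exact_mod_cast h1
    have htot := Finset.sum_le_sum fun c (hc : c ∈ univ.erase (0 : F)) => hle c (Finset.ne_of_mem_erase hc)
    rw [Finset.sum_const, Finset.card_erase_of_mem (Finset.mem_univ _), Finset.card_univ, smul_eq_mul,
      Finset.sum_comm] at htot
    have hlt : ∑ ψ ∈ univ.erase (0 : AddChar F ℂ), ∑ c ∈ univ.erase (0 : F),
        ∑ χ, (if fx ψ χ c then dd ρ ψ χ else 0) < ∑ ψ ∈ univ.erase (0 : AddChar F ℂ), D := by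
      have hrow : ∀ ψ : AddChar F ℂ, ψ ≠ 0 → ∀ χ, ∑ c ∈ univ.erase (0 : F),
          (if fx ψ χ c then dd ρ ψ χ else 0) = ((univ.erase (0 : F)).filter (fx ψ χ)).card * dd ρ ψ χ :=
        fun ψ _ χ => by rw [← Finset.sum_filter, Finset.sum_const, smul_eq_mul]
      refine Finset.sum_lt_sum (fun ψ hψ => ?_) ⟨ψ₁, Finset.mem_erase.2 ⟨hψ₁, Finset.mem_univ _⟩, ?_⟩
      · have hψ' := Finset.ne_of_mem_erase hψ
        rw [Finset.sum_comm, ← hsum ψ hψ']
        refine Finset.sum_le_sum fun χ _ => ?_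
        rw [hrow ψ hψ' χ]
        exact (Nat.mul_le_mul_right _ ((isQF_qf χ).fixed_card_le hψ' hv0)).trans_eq (one_mul _)
      · rw [Finset.sum_comm, ← hsum ψ₁ hψ₁]
        refine Finset.sum_lt_sum (fun χ _ => ?_) ⟨χ₁, Finset.mem_univ _, ?_⟩
        · rw [hrow ψ₁ hψ₁ χ]
          exact (Nat.mul_le_mul_right _ ((isQF_qf χ).fixed_card_le hψ₁ hv0)).trans_eq (one_mul _)
        · rw [hrow ψ₁ hψ₁ χ₁]
          simp only [fx]
          rw [(isQF_qf χ₁).fixed_empty hψ₁ hv0 hv1, zero_mul]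
          exact Nat.pos_of_ne_zero hχ₁
    rw [Finset.sum_const, Finset.card_erase_of_mem (Finset.mem_univ _), Finset.card_univ,
      AddChar.card_eq, smul_eq_mul] at hlt
    exact absurd htot (not_le.2 hlt)

/-- The lower bound for irreducible representations. -/
theorem sp_lower {n : ℕ} (hn : 2 ≤ n) (k : ℕ)
    (ρ : Representation ℂ (Matrix.symplecticGroup (Fin n) F) (Fin k → ℂ))
    (hρ : ρ.IsIrreducible) (hk : 2 ≤ k) : spLow qq n ≤ k := by
  classical
  have hdim : Module.finrank ℂ (Fin k → ℂ) = k := Module.finrank_fin_fun ℂ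
  let w : Vec n F := Pi.single (Sum.inl ⟨0, by omega⟩) 1
  have hw : w ≠ 0 := fun e => by simpa [w] using congrFun e (Sum.inl ⟨0, by omega⟩)
  have h := sp_bound n (Fin k → ℂ) ρ w hw fun h0 => ?_
  · rwa [hdim] at h
  · have htg : Symplectic.TSet n F ⊆ (MonoidHom.ker ρ : Set _) := by
      rintro _ ⟨v, c, rfl⟩
      show ρ (T v c) = 1
      rcases eq_or_ne c 0 with rfl | hc
      · rw [T_zero, map_one]
      rcases eq_or_ne v 0 with rfl | hv
      · rw [show T (0 : Vec n F) c = 1 from Symplectic.sp_ext fun x => by simp [T_mulVec], map_one]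
      exact (CharBasic.character_eq_finrank_iff ρ _).1 (by rw [char_T ρ hv hw hc, h0])
    have htop := (Subgroup.closure_le _).2 htg
    rw [Symplectic.closure_TSet] at htop
    have h1 : Module.finrank ℂ (Fin k → ℂ) ≤ 1 := by
      by_contra hd
      have : Nontrivial (Fin k → ℂ) := Module.nontrivial_of_finrank_pos (R := ℂ) (by omega)
      obtain ⟨x, hx⟩ := exists_ne (0 : Fin k → ℂ)
      let S : Subrepresentation ρ :=
        ⟨Submodule.span ℂ {x}, fun g v hv => by
          rw [show ρ g = 1 from htop (Subgroup.mem_top g)]; exact hv⟩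
      rcases IsSimpleOrder.eq_bot_or_eq_top S with e | e
      · have h1 : Submodule.span ℂ {x} = ⊥ := congrArg Subrepresentation.toSubmodule e
        rw [Submodule.span_singleton_eq_bot] at h1
        exact hx h1
      · have h1 : Submodule.span ℂ {x} = (⊤ : Submodule ℂ (Fin k → ℂ)) :=
          congrArg Subrepresentation.toSubmodule e
        have h2 := finrank_span_singleton (K := ℂ) hx
        rw [h1, finrank_top] at h2
        omega
    omega

theorem spLow_eq {q n : ℕ} (hq : 1 ≤ q) (he : Even q) (hn : 1 ≤ n) :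
    (q ^ n - 1) * (q ^ n - q) / (2 * (q + 1)) = spLow q n := by
  have h := spLow_closed hq he n hn
  refine Nat.div_eq_of_eq_mul_left (by positivity) ?_
  have h1 : 1 ≤ q ^ n := Nat.one_le_pow _ _ (by omega)
  have h2 : q ≤ q ^ n := Nat.le_self_pow (by omega) q
  zify [h1, h2]
  exact h.symm

end Cfsg.Agent.H53.SpR
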