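import Cfsg.Agent.H53.SpRadical

/-!
Sign functions on a symplectic space in characteristic two that extend a central character.
-/

set_option autoImplicit false
set_option linter.unusedSectionVars false

namespace Cfsg.Agent.H53.SpR

open Cfsg Matrix Finset
open Cfsg.Agent.Symplectic (T T_mulVec spB spB_apply mem_symplectic_iff_form)

variable {m : ℕ} {F : Type*} [Field F] [Fintype F] [DecidableEq F] [CharP F 2] {ψ : AddChar F ℂ}

theorem psi_sq (ψ : AddChar F ℂ) (x : F) : ψ x * ψ x = 1 := by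
  rw [← AddChar.map_add_eq_mul, CharTwo.add_self_eq_zero, AddChar.map_zero_eq_one]

theorem exists_mulShift (hψ : ψ ≠ 0) (χ : AddChar F ℂ) : ∃ r, ∀ b, χ b = ψ (r * b) := by
  have hp : ψ.IsPrimitive :=
    AddChar.IsPrimitive.of_ne_one (by rwa [AddChar.one_eq_zero])
  have hb : Function.Bijective (ψ.mulShift : F → AddChar F ℂ) :=
    (Fintype.bijective_iff_injective_and_card _).2
      ⟨AddChar.to_mulShift_inj_of_isPrimitive hp, AddChar.card_eq.symm⟩
  obtain ⟨r, rfl⟩ := hb.2 χ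
  exact ⟨r, fun b => rfl⟩

theorem exists_sqrt (c : F) : ∃ d, c = d ^ 2 := by
  obtain ⟨d, hd⟩ := FiniteField.isSquare_of_char_two (ringChar.eq F 2) c
  exact ⟨d, by rw [hd, sq]⟩

theorem mulShift_ext (hψ : ψ ≠ 0) {a b : F} (h : ∀ x, ψ (a * x) = ψ (b * x)) : a = b :=
  AddChar.to_mulShift_inj_of_isPrimitive (AddChar.IsPrimitive.of_ne_one (by rwa [AddChar.one_eq_zero]))
    (DFunLike.ext _ _ h)

/-- The scalar describing squaring. -/
theorem exists_sqShift (hψ : ψ ≠ 0) : ∃ s : F, s ≠ 0 ∧ ∀ b, ψ (b ^ 2) = ψ (s * b) := by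
  let χ : AddChar F ℂ :=
    { toFun := fun b => ψ (b ^ 2)
      map_zero_eq_one' := by simp
      map_add_eq_mul' := fun a b => by rw [CharTwo.add_sq, AddChar.map_add_eq_mul] }
  obtain ⟨s, hs⟩ := exists_mulShift hψ χ
  refine ⟨s, ?_, hs⟩
  rintro rfl
  obtain ⟨x, hx⟩ := AddChar.ne_zero_iff.1 hψ
  obtain ⟨y, rfl⟩ := exists_sqrt x
  exact hx (by rw [show ψ (y ^ 2) = χ y from rfl, hs, zero_mul, AddChar.map_zero_eq_one])

/-- Elements killed by the character have the shape y^2 + s y. -/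
theorem exists_artinSchreier (hψ : ψ ≠ 0) {s : F} (hs : ∀ b, ψ (b ^ 2) = ψ (s * b)) (hs0 : s ≠ 0)
    {r : F} (hr : ψ r = 1) : ∃ y, y ^ 2 + s * y = r := by
  let h : F →+ F := AddMonoidHom.mk' (fun y => y ^ 2 + s * y) fun a b => by rw [CharTwo.add_sq]; ring
  by_contra hne
  push Not at hne
  have hmem : (QuotientAddGroup.mk' h.range r) ≠ 0 := fun e => by
    obtain ⟨y, hy⟩ := (QuotientAddGroup.eq_zero_iff r).1 e
    exact hne y hy
  obtain ⟨χ, hχ⟩ := AddChar.exists_apply_ne_zero.2 hmem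
  obtain ⟨κ, hκ⟩ := exists_mulShift hψ (χ.compAddMonoidHom (QuotientAddGroup.mk' h.range))
  obtain ⟨l, rfl⟩ := exists_sqrt κ
  have hker : ∀ y, ψ (l ^ 2 * (y ^ 2 + s * y)) = 1 := fun y => by
    rw [← hκ, AddChar.compAddMonoidHom_apply,
      show QuotientAddGroup.mk' h.range (y ^ 2 + s * y) = 0 from
        (QuotientAddGroup.eq_zero_iff _).2 ⟨y, rfl⟩, AddChar.map_zero_eq_one]
  have hl : s * l = l ^ 2 * s := mulShift_ext hψ fun y => by
    have := hker y
    rw [mul_add, AddChar.map_add_eq_mul, ← mul_pow, hs] at this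
    calc ψ (s * l * y) = ψ (s * (l * y)) * (ψ (l ^ 2 * (s * y)) * ψ (l ^ 2 * (s * y))) := by
          rw [psi_sq, mul_one, mul_assoc]
      _ = ψ (l ^ 2 * s * y) := by rw [← mul_assoc, this, one_mul, mul_assoc]
  have hl2 : l * (l - 1) = 0 := mul_left_cancel₀ hs0 (by rw [mul_zero]; linear_combination -hl)
  apply hχ
  rw [show χ (QuotientAddGroup.mk' h.range r) = ψ (l ^ 2 * r) from hκ r]
  rcases mul_eq_zero.1 hl2 with rfl | e
  · simp
  · rw [sub_eq_zero.1 e, one_pow, one_mul, hr]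

/-- Sign functions extending the central character. -/
structure IsQF (ψ : AddChar F ℂ) (f : Vec m F → ℂ) : Prop where
  zero : f 0 = 1
  add : ∀ w w', f (w + w') = f w * f w' * ψ (sympForm m F w w')

namespace IsQF

variable {f : Vec m F → ℂ}

theorem sq (hf : IsQF ψ f) (w : Vec m F) : f w * f w = 1 := by
  have h := hf.add w w
  rw [form_self, AddChar.map_zero_eq_one, mul_one] at h
  rw [← h]
  convert hf.zero
  funext i
  exact CharTwo.add_self_eq_zero _

theorem comp (hf : IsQF ψ f) (g : Matrix.symplecticGroup (Fin m) F) :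
    IsQF ψ (fun w => f ((g : Symplectic.Mat m F) *ᵥ w)) where
  zero := by simp [hf.zero]
  add w w' := by rw [mulVec_add, hf.add, (mem_symplectic_iff_form _).1 g.2]

theorem line (hf : IsQF ψ f) (hψ : ψ ≠ 0) (u : Vec m F) : ∃ r, ∀ b : F, f (b • u) = ψ (r * b) :=
  exists_mulShift hψ
    { toFun := fun b => f (b • u)
      map_zero_eq_one' := by simp [hf.zero]
      map_add_eq_mul' := fun a b => by
        rw [add_smul, hf.add, form_smul_left, form_smul_right, form_self, mul_zero, mul_zero,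
          AddChar.map_zero_eq_one, mul_one] }

theorem comp_T (hf : IsQF ψ f) (u w : Vec m F) (c : F) :
    f ((T u c : Symplectic.Mat m F) *ᵥ w) =
      f w * (f ((c * sympForm m F w u) • u) * ψ (c * sympForm m F w u ^ 2)) := by
  rw [T_mulVec, hf.add, form_smul_right, ← mul_assoc]
  congr 2
  ring

end IsQF

/-- The character given by the form. -/
noncomputable def Bh (ψ : AddChar F ℂ) (u : Vec m F) : AddChar (Vec m F) ℂ :=
  ψ.compAddMonoidHom ((spB m F).flip u).toAddMonoidHom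

theorem Bh_apply (ψ : AddChar F ℂ) (u w : Vec m F) : Bh ψ u w = ψ (sympForm m F w u) := by
  simp [Bh, AddChar.compAddMonoidHom_apply]

theorem exists_form_eq {u : Vec m F} (hu : u ≠ 0) (x : F) : ∃ w, sympForm m F w u = x := by
  obtain ⟨y, hy⟩ := Symplectic.exists_partner (Symplectic.spB_nondeg m F) (Symplectic.spB_alt m F) hu
  rw [spB_apply] at hy
  exact ⟨x • y, by rw [form_smul_left, form_swap, hy, CharTwo.neg_eq, mul_one]⟩

theorem Bh_eq_zero (hψ : ψ ≠ 0) {u : Vec m F} : Bh ψ u = 0 ↔ u = 0 := by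
  constructor
  · intro h
    by_contra hu
    obtain ⟨x, hx⟩ := AddChar.ne_zero_iff.1 hψ
    obtain ⟨w, hw⟩ := exists_form_eq hu x
    exact hx (by rw [← hw, ← Bh_apply, h, AddChar.zero_apply])
  · rintro rfl
    exact DFunLike.ext _ _ fun w => by
      rw [Bh_apply, form_zero_right, AddChar.map_zero_eq_one, AddChar.zero_apply]

theorem Bh_injective (hψ : ψ ≠ 0) {u u' : Vec m F}
    (h : ∀ w, Bh ψ u w = Bh ψ u' w) : u = u' := by
  have h0 : Bh ψ (u + u') = 0 := DFunLike.ext _ _ fun w => by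
    rw [Bh_apply, form_add_right, AddChar.map_add_eq_mul, ← Bh_apply, ← Bh_apply, h, Bh_apply,
      psi_sq, AddChar.zero_apply]
  rw [Bh_eq_zero hψ] at h0
  funext i
  exact CharTwo.add_eq_zero.1 (congrFun h0 i)

theorem card_vec : Fintype.card (Vec m F) = Fintype.card F ^ (2 * m) := by
  rw [Fintype.card_fun, Fintype.card_sum, Fintype.card_fin, two_mul]

/-- The lower bound for the orbit size. -/
theorem IsQF.count {f : Vec m F → ℂ} (hf : IsQF ψ f) (hψ : ψ ≠ 0) :
    Fintype.card F ^ m * (Fintype.card F ^ m - 1) / 2 ≤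
      (univ.filter fun u => f u = 1).card := by
  classical
  set Q := Fintype.card F ^ m with hQ
  set N := (univ.filter fun u => f u = 1).card with hN
  have hsq : (∑ u, f u) * (∑ u, f u) = (Q : ℂ) * Q := by
    rw [Finset.sum_mul_sum]
    have e : ∀ u, ∑ u', f u * f u' = ∑ w, f w * Bh ψ w u := fun u => by
      rw [← Equiv.sum_comp (Equiv.addLeft u) (fun u' => f u * f u')]
      refine Finset.sum_congr rfl fun w _ => ?_
      rw [Equiv.coe_addLeft, hf.add, Bh_apply, ← mul_assoc, ← mul_assoc, hf.sq, one_mul]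
    rw [Finset.sum_congr rfl fun u _ => e u, Finset.sum_comm]
    simp only [← Finset.mul_sum, AddChar.sum_eq_ite, Bh_eq_zero hψ, mul_ite, mul_zero,
      Finset.sum_ite_eq', Finset.mem_univ, if_true, hf.zero, one_mul, card_vec, hQ]
    push_cast
    ring
  have hsum : ∑ u, f u = 2 * (N : ℂ) - (Q : ℂ) * Q := by
    have e : ∀ u, f u = 2 * (if f u = 1 then (1 : ℂ) else 0) - 1 := fun u => by
      rcases mul_self_eq_one_iff.1 (hf.sq u) with h | h <;> rw [h] <;> norm_num
    rw [Finset.sum_congr rfl fun u _ => e u, Finset.sum_sub_distrib, ← Finset.mul_sum,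
      Finset.sum_boole, Finset.sum_const, Finset.card_univ, card_vec, nsmul_one, hQ, two_mul m,
      pow_add]
    push_cast
    rfl
  rw [hsum] at hsq
  have hz : (2 * (N : ℤ) - Q * Q) * (2 * (N : ℤ) - Q * Q) = (Q : ℤ) * Q := by exact_mod_cast hsq
  have h1 : (1 : ℕ) ≤ Q := Nat.one_le_pow _ _ Fintype.card_pos
  have h2 : (Q : ℤ) * (Q - 1) ≤ 2 * N := by
    rcases mul_self_eq_mul_self_iff.1 hz with e | e <;> nlinarith
  have h3 : Q * (Q - 1) ≤ 2 * N := by
    zify [h1]; exact h2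
  omega

/-- A transvection shifting the function by the form. -/
theorem IsQF.exists_shift {f : Vec m F → ℂ} (hf : IsQF ψ f) (hψ : ψ ≠ 0) {u : Vec m F}
    (hu : f u = 1) : ∃ c, ∀ w, f ((T u c : Symplectic.Mat m F) *ᵥ w) = f w * Bh ψ u w := by
  obtain ⟨s, hs0, hs⟩ := exists_sqShift hψ
  obtain ⟨r, hr⟩ := hf.line hψ u
  have hr1 : ψ r = 1 := by
    have := hr 1
    rwa [one_smul, hu, mul_one, eq_comm] at this
  obtain ⟨d, hd⟩ : ∃ d, r * d ^ 2 + s * d = 1 := by
    rcases eq_or_ne r 0 with rfl | hr0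
    · exact ⟨s⁻¹, by rw [zero_mul, zero_add, mul_inv_cancel₀ hs0]⟩
    · obtain ⟨y, hy⟩ := exists_artinSchreier hψ hs hs0 hr1
      refine ⟨y / r, ?_⟩
      field_simp
      linear_combination hy
  refine ⟨d ^ 2, fun w => ?_⟩
  rw [hf.comp_T, hr, ← mul_pow, hs, ← AddChar.map_add_eq_mul, Bh_apply]
  congr 2
  linear_combination sympForm m F w u * hd

theorem IsQF.fixed_eq {f : Vec m F → ℂ} (hf : IsQF ψ f) (hψ : ψ ≠ 0) {v : Vec m F} (hv : v ≠ 0)
    {r s : F} (hr : ∀ b : F, f (b • v) = ψ (r * b)) (hs : ∀ b, ψ (b ^ 2) = ψ (s * b)) {d : F}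
    (hd : d ≠ 0) (hfix : ∀ w, f ((T v (d ^ 2) : Symplectic.Mat m F) *ᵥ w) = f w) : r * d + s = 0 := by
  have h : r * d ^ 2 + s * d = 0 := mulShift_ext hψ fun x => by
    obtain ⟨w, hw⟩ := exists_form_eq hv x
    have := hfix w
    rw [hf.comp_T, hr, ← mul_pow, hs, ← AddChar.map_add_eq_mul, hw] at this
    rw [zero_mul, AddChar.map_zero_eq_one]
    have h0 : f w ≠ 0 := fun e => by simpa [e] using hf.sq w
    have h1 := mul_eq_left₀ h0 |>.1 this
    rw [← h1]
    congr 1
    ring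
  exact mul_right_cancel₀ hd (by rw [zero_mul]; linear_combination h)

/-- The number of transvections of a fixed centre fixing the function. -/
theorem IsQF.fixed_card_le {f : Vec m F → ℂ} (hf : IsQF ψ f) (hψ : ψ ≠ 0) {v : Vec m F}
    (hv : v ≠ 0) :
    ((univ.erase (0 : F)).filter fun c =>
      (fun w => f ((T v c : Symplectic.Mat m F) *ᵥ w)) = f).card ≤ 1 := by
  obtain ⟨s, hs0, hs⟩ := exists_sqShift hψ
  obtain ⟨r, hr⟩ := hf.line hψ v
  refine Finset.card_le_one.2 fun c hc c' hc' => ?_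
  simp only [Finset.mem_filter, Finset.mem_erase] at hc hc'
  obtain ⟨d, rfl⟩ := exists_sqrt c
  obtain ⟨d', rfl⟩ := exists_sqrt c'
  have h1 := hf.fixed_eq hψ hv hr hs (d := d) (fun e => hc.1.1 (by simp [e])) (congrFun hc.2)
  have h2 := hf.fixed_eq hψ hv hr hs (d := d') (fun e => hc'.1.1 (by simp [e])) (congrFun hc'.2)
  have hr0 : r ≠ 0 := fun e => hs0 (by simpa [e] using h1)
  rw [mul_left_cancel₀ hr0 (show r * d = r * d' by linear_combination h1 - h2)]

theorem IsQF.fixed_empty {f : Vec m F → ℂ} (hf : IsQF ψ f) (hψ : ψ ≠ 0) {v : Vec m F} (hv : v ≠ 0)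
    (h1 : ∀ b : F, f (b • v) = 1) :
    ((univ.erase (0 : F)).filter fun c =>
      (fun w => f ((T v c : Symplectic.Mat m F) *ᵥ w)) = f).card = 0 := by
  obtain ⟨s, hs0, hs⟩ := exists_sqShift hψ
  rw [Finset.card_eq_zero, Finset.filter_eq_empty_iff]
  intro c hc hfix
  obtain ⟨d, rfl⟩ := exists_sqrt c
  have h := hf.fixed_eq hψ hv (r := 0) (fun b => by rw [zero_mul, AddChar.map_zero_eq_one, h1]) hs
    (d := d) (fun e => (Finset.mem_erase.1 hc).1 (by simp [e])) (congrFun hfix)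
  exact hs0 (by simpa using h)

/-- A line on which the function is trivial. -/
theorem IsQF.exists_singular {f : Vec m F → ℂ} (hf : IsQF ψ f) (hψ : ψ ≠ 0) (hm : 2 ≤ m) :
    ∃ v : Vec m F, v ≠ 0 ∧ ∀ b : F, f (b • v) = 1 := by
  set i : Fin m := ⟨0, by omega⟩
  set j : Fin m := ⟨1, by omega⟩
  have hij : i ≠ j := by simp [i, j, Fin.ext_iff]
  set v : Vec m F := Pi.single (Sum.inl i) 1
  set w : Vec m F := Pi.single (Sum.inl j) 1
  obtain ⟨r, hr⟩ := hf.line hψ v
  obtain ⟨r', hr'⟩ := hf.line hψ w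
  rcases eq_or_ne r 0 with rfl | hr0
  · exact ⟨v, fun e => by simpa [v] using congrFun e (Sum.inl i),
      fun b => by rw [hr, zero_mul, AddChar.map_zero_eq_one]⟩
  refine ⟨r' • v + r • w, fun e => hr0 ?_, fun b => ?_⟩
  · simpa [v, w, hij.symm] using congrFun e (Sum.inl j)
  · have hvw : sympForm m F v w = 0 := by simp [Symplectic.sympForm_eq, v, w]
    rw [smul_add, smul_smul, smul_smul, hf.add, form_smul_left, form_smul_right, hvw, mul_zero,
      mul_zero, AddChar.map_zero_eq_one, mul_one, hr, hr', ← AddChar.map_add_eq_mul,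
      show r * (b * r') + r' * (b * r) = b * r * r' + b * r * r' by ring, CharTwo.add_self_eq_zero,
      AddChar.map_zero_eq_one]

/-- The standard function. -/
noncomputable def qf (ψ : AddChar F ℂ) (χ : AddChar (Vec m F) ℂ) (w : Vec m F) : ℂ :=
  ψ (∑ i, w (Sum.inl i) * w (Sum.inr i)) * χ w

theorem isQF_qf (χ : AddChar (Vec m F) ℂ) : IsQF ψ (qf ψ χ) where
  zero := by simp [qf]
  add w w' := by
    have e : ∑ i, (w + w') (Sum.inl i) * (w + w') (Sum.inr i) =
        ∑ i, w (Sum.inl i) * w (Sum.inr i) + ∑ i, w' (Sum.inl i) * w' (Sum.inr i) +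
          sympForm m F w w' := by
      rw [Symplectic.sympForm_eq, ← Finset.sum_add_distrib, ← Finset.sum_add_distrib]
      refine Finset.sum_congr rfl fun i _ => ?_
      rw [CharTwo.sub_eq_add, Pi.add_apply, Pi.add_apply]
      ring
    simp only [qf, e, AddChar.map_add_eq_mul]
    ring

theorem qf_injective {χ χ' : AddChar (Vec m F) ℂ} (h : qf ψ χ = qf ψ χ') : χ = χ' :=
  DFunLike.ext _ _ fun w => mul_left_cancel₀ (left_ne_zero_of_mul_eq_one (psi_sq ψ _)) (congrFun h w)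

theorem qf_mul (χ χ' : AddChar (Vec m F) ℂ) (w : Vec m F) :
    qf ψ (χ * χ') w = qf ψ χ w * χ' w := by
  simp only [qf, AddChar.mul_apply, mul_assoc]

theorem sum_qf (w : Vec m F) :
    ∑ χ : AddChar (Vec m F) ℂ, qf ψ χ w = if w = 0 then (Fintype.card (Vec m F) : ℂ) else 0 := by
  simp only [qf, ← Finset.mul_sum, AddChar.sum_apply_eq_ite]
  split_ifs with h
  · subst h; simp
  · rw [mul_zero]

end Cfsg.Agent.H53.SpR
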