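import Cfsg.Agent.Symplectic.Std

/-!
The abelian radical of a point stabiliser in symplectic groups of characteristic two.
-/

set_option autoImplicit false
set_option linter.unusedSectionVars false

namespace Cfsg.Agent.H53.SpR

open Cfsg Matrix Finset
open Cfsg.Agent.Symplectic (T T_mulVec T_mul T_zero spB spB_apply sp_ext sympForm_eq mem_symplectic_iff_form)

variable {m : ℕ} {F : Type*} [Field F]

/-- Vectors. -/
abbrev Vec (m : ℕ) (F : Type*) : Type _ := Fin m ⊕ Fin m → F

/-- A vector from a hyperbolic pair of coordinates and the remaining ones. -/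
def jn (a b : F) (w : Vec m F) : Vec (m + 1) F :=
  Sum.elim (Fin.cons a (w ∘ Sum.inl)) (Fin.cons b (w ∘ Sum.inr))

/-- The remaining coordinates. -/
def res (x : Vec (m + 1) F) : Vec m F :=
  Sum.elim (fun i => x (Sum.inl i.succ)) (fun i => x (Sum.inr i.succ))

@[simp] theorem jn_inl_zero (a b : F) (w : Vec m F) : jn a b w (Sum.inl 0) = a := rfl

@[simp] theorem jn_inr_zero (a b : F) (w : Vec m F) : jn a b w (Sum.inr 0) = b := rfl

@[simp] theorem res_jn (a b : F) (w : Vec m F) : res (jn a b w) = w := by
  funext i; rcases i with i | i <;> simp [res, jn]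

theorem jn_res (x : Vec (m + 1) F) : jn (x (Sum.inl 0)) (x (Sum.inr 0)) (res x) = x := by
  funext i; rcases i with i | i <;> refine Fin.cases ?_ (fun j => ?_) i <;> simp [res, jn]

theorem jn_ind {p : Vec (m + 1) F → Prop} (h : ∀ a b w, p (jn a b w)) (x : Vec (m + 1) F) : p x := by
  rw [← jn_res x]; exact h _ _ _

theorem jn_add (a b a' b' : F) (w w' : Vec m F) :
    jn a b w + jn a' b' w' = jn (a + a') (b + b') (w + w') := by
  funext i; rcases i with i | i <;> refine Fin.cases ?_ (fun j => ?_) i <;> simp [jn]

theorem smul_jn (c a b : F) (w : Vec m F) : c • jn a b w = jn (c * a) (c * b) (c • w) := by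
  funext i; rcases i with i | i <;> refine Fin.cases ?_ (fun j => ?_) i <;> simp [jn]

theorem jn_zero : jn (0 : F) 0 (0 : Vec m F) = 0 := by
  funext i; rcases i with i | i <;> refine Fin.cases ?_ (fun j => ?_) i <;> simp [jn]

theorem jn_injective {a b a' b' : F} {w w' : Vec m F} (h : jn a b w = jn a' b' w') :
    a = a' ∧ b = b' ∧ w = w' :=
  ⟨congrFun h (Sum.inl 0), congrFun h (Sum.inr 0), by rw [← res_jn a b w, h, res_jn]⟩

theorem form_jn (a b a' b' : F) (w w' : Vec m F) :
    sympForm (m + 1) F (jn a b w) (jn a' b' w') = b * a' - a * b' + sympForm m F w w' := by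
  simp only [sympForm_eq, Fin.sum_univ_succ, jn, Sum.elim_inl, Sum.elim_inr, Fin.cons_zero,
    Fin.cons_succ, Function.comp_apply]

theorem form_add_left (x y z : Vec m F) :
    sympForm m F (x + y) z = sympForm m F x z + sympForm m F y z := by
  simp only [← spB_apply, map_add, LinearMap.add_apply]

theorem form_add_right (x y z : Vec m F) :
    sympForm m F x (y + z) = sympForm m F x y + sympForm m F x z := by
  simp only [← spB_apply, map_add]

theorem form_smul_left (c : F) (x y : Vec m F) :
    sympForm m F (c • x) y = c * sympForm m F x y := by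
  simp only [← spB_apply, map_smul, LinearMap.smul_apply, smul_eq_mul]

theorem form_smul_right (c : F) (x y : Vec m F) :
    sympForm m F x (c • y) = c * sympForm m F x y := by
  simp only [← spB_apply, map_smul, smul_eq_mul]

theorem form_self (x : Vec m F) : sympForm m F x x = 0 := by
  rw [sympForm_eq]; exact Finset.sum_eq_zero fun i _ => by ring

theorem form_zero_left (x : Vec m F) : sympForm m F 0 x = 0 := by simp [sympForm_eq]

theorem form_zero_right (x : Vec m F) : sympForm m F x 0 = 0 := by simp [sympForm_eq]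

theorem form_swap (x y : Vec m F) : sympForm m F x y = - sympForm m F y x := by
  simp only [← spB_apply]; exact Symplectic.alt_swap (Symplectic.spB_alt m F) x y

/-- Extension of a symplectic matrix by the identity on the hyperbolic pair. -/
noncomputable def embL (g : Matrix.symplecticGroup (Fin m) F) : Vec (m + 1) F →ₗ[F] Vec (m + 1) F where
  toFun x := jn (x (Sum.inl 0)) (x (Sum.inr 0)) ((g : Symplectic.Mat m F) *ᵥ res x)
  map_add' x y := by
    rw [jn_add, ← mulVec_add]
    congr 2
    funext i; rcases i with i | i <;> rfl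
  map_smul' c x := by
    rw [RingHom.id_apply, smul_jn, ← mulVec_smul]
    congr 2
    funext i; rcases i with i | i <;> rfl

theorem embL_jn (g : Matrix.symplecticGroup (Fin m) F) (a b : F) (w : Vec m F) :
    embL g (jn a b w) = jn a b ((g : Symplectic.Mat m F) *ᵥ w) := by
  simp [embL]

theorem embL_mem (g : Matrix.symplecticGroup (Fin m) F) :
    LinearMap.toMatrix' (embL g) ∈ Matrix.symplecticGroup (Fin (m + 1)) F := by
  rw [mem_symplectic_iff_form]
  refine jn_ind fun a b w => jn_ind fun a' b' w' => ?_
  rw [LinearMap.toMatrix'_mulVec, LinearMap.toMatrix'_mulVec, embL_jn, embL_jn, form_jn, form_jn,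
    (mem_symplectic_iff_form _).1 g.2]

theorem embL_mat_mulVec (g : Matrix.symplecticGroup (Fin m) F) (a b : F) (w : Vec m F) :
    LinearMap.toMatrix' (embL g) *ᵥ jn a b w = jn a b ((g : Symplectic.Mat m F) *ᵥ w) := by
  rw [LinearMap.toMatrix'_mulVec, embL_jn]

/-- The embedding. -/
noncomputable def emb : Matrix.symplecticGroup (Fin m) F →* Matrix.symplecticGroup (Fin (m + 1)) F where
  toFun g := ⟨_, embL_mem g⟩
  map_one' := sp_ext (jn_ind fun a b w => by
    simp only [embL_mat_mulVec, Submonoid.coe_one, one_mulVec])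
  map_mul' g h := sp_ext (jn_ind fun a b w => by
    simp only [Submonoid.coe_mul, ← mulVec_mulVec, embL_mat_mulVec])

theorem emb_mulVec (g : Matrix.symplecticGroup (Fin m) F) (a b : F) (w : Vec m F) :
    (emb g : Symplectic.Mat (m + 1) F) *ᵥ jn a b w = jn a b ((g : Symplectic.Mat m F) *ᵥ w) :=
  embL_mat_mulVec g a b w

theorem emb_T (v : Vec m F) (c : F) : emb (T v c) = T (jn 0 0 v) c := by
  refine sp_ext (jn_ind fun a b w => ?_)
  rw [emb_mulVec, T_mulVec, T_mulVec, form_jn, smul_jn, jn_add]
  simp

/-- The root group of the point. -/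
def zel (c : F) : Matrix.symplecticGroup (Fin (m + 1)) F := T (jn 1 0 0) c

theorem zel_mulVec (c a b : F) (w : Vec m F) :
    ((zel (m := m) c : Symplectic.Mat (m + 1) F)) *ᵥ jn a b w = jn (a + c * b) b w := by
  rw [zel, T_mulVec, form_jn, smul_jn, jn_add]
  simp [form_zero_right]

theorem zel_add (c d : F) : (zel (c + d) : Matrix.symplecticGroup (Fin (m + 1)) F) = zel c * zel d :=
  (T_mul _ c d).symm

theorem zel_zero : (zel 0 : Matrix.symplecticGroup (Fin (m + 1)) F) = 1 := T_zero _

theorem emb_comm_zel (g : Matrix.symplecticGroup (Fin m) F) (c : F) :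
    emb g * zel c = zel c * emb g := by
  refine sp_ext (jn_ind fun a b w => ?_)
  simp only [Submonoid.coe_mul, ← mulVec_mulVec, emb_mulVec, zel_mulVec]

variable [CharP F 2]

/-- The elements of the radical. -/
def xel (w : Vec m F) : Matrix.symplecticGroup (Fin (m + 1)) F :=
  T (jn 1 0 w) 1 * T (jn 0 0 w) 1 * zel 1

theorem xel_mulVec (w : Vec m F) (a b : F) (v : Vec m F) :
    (xel w : Symplectic.Mat (m + 1) F) *ᵥ jn a b v = jn (a + sympForm m F v w) b (v + b • w) := by
  rw [xel, Submonoid.coe_mul, Submonoid.coe_mul, ← mulVec_mulVec, ← mulVec_mulVec, zel_mulVec]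
  simp only [T_mulVec, smul_jn, jn_add, form_jn, form_add_left, form_smul_left, form_self,
    mul_zero, mul_one, one_mul, zero_mul, add_zero, sub_zero, zero_sub, sub_self, zero_add,
    CharTwo.neg_eq]
  have h2 : (2 : F) = 0 := CharTwo.two_eq_zero
  congr 1
  · linear_combination b * h2
  · funext i
    simp only [Pi.add_apply, Pi.smul_apply, smul_eq_mul]
    linear_combination sympForm m F v w * w i * h2

theorem xel_mul (w w' : Vec m F) :
    xel w * xel w' = xel (w + w') * zel (sympForm m F w' w) := by
  refine sp_ext (jn_ind fun a b v => ?_)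
  simp only [Submonoid.coe_mul, ← mulVec_mulVec, xel_mulVec, zel_mulVec, form_add_right,
    form_add_left, form_smul_left]
  congr 1
  · ring
  · rw [smul_add]; abel

theorem xel_comm_zel (w : Vec m F) (c : F) : xel w * zel c = zel c * xel w := by
  refine sp_ext (jn_ind fun a b v => ?_)
  simp only [Submonoid.coe_mul, ← mulVec_mulVec, xel_mulVec, zel_mulVec]
  congr 1
  ring

theorem xel_zero : (xel (0 : Vec m F)) = 1 := by
  refine sp_ext (jn_ind fun a b v => ?_)
  simp [xel_mulVec, form_zero_right]

theorem emb_xel (g : Matrix.symplecticGroup (Fin m) F) (w : Vec m F) :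
    emb g * xel w = xel ((g : Symplectic.Mat m F) *ᵥ w) * emb g := by
  refine sp_ext (jn_ind fun a b v => ?_)
  simp only [Submonoid.coe_mul, ← mulVec_mulVec, xel_mulVec, emb_mulVec,
    (mem_symplectic_iff_form _).1 g.2, mulVec_add, mulVec_smul]

end Cfsg.Agent.H53.SpR
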