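import Cfsg.Agent.H53.ClassicalLaws

/-!
A non-trivial word is a law of only finitely many special unitary groups: SL_2 of the fixed field,
conjugated, sits inside SU_n, and so does the alternating group.
-/

set_option autoImplicit false

namespace Cfsg.Agent.H53

open Matrix
open scoped MatrixGroups

variable {F : Type*} [Field F]

theorem mulVec_dotProduct_map {ι : Type*} [Fintype ι] (σ : F →+* F) (A : Matrix ι ι F) (u v : ι → F) :
    (A *ᵥ u) ⬝ᵥ (σ ∘ (A *ᵥ v)) = u ⬝ᵥ ((Aᵀ * A.map σ) *ᵥ (σ ∘ v)) := by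
  have h : σ ∘ (A *ᵥ v) = A.map σ *ᵥ (σ ∘ v) := by
    ext i; exact RingHom.map_mulVec σ A v i
  rw [h, ← Matrix.mulVec_mulVec, Matrix.dotProduct_mulVec u Aᵀ, Matrix.vecMul_transpose]

/-- Matrices with `Aᵀ σ(A) = 1` preserve the standard hermitian form. -/
theorem mem_SU_of_transpose_mul_map {n q : ℕ} (σ : F →+* F) (hσ : ∀ x, σ x = x ^ q)
    (A : SL(n, F)) (h : A.1ᵀ * A.1.map σ = 1) : A ∈ Cfsg.SU n F q := by
  intro u v
  have e : ∀ x y : Fin n → F, hermForm n F q x y = x ⬝ᵥ (σ ∘ y) := by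
    intro x y
    simp [hermForm, dotProduct, hσ]
  rw [e, e]
  show (A.1 *ᵥ u) ⬝ᵥ (σ ∘ (A.1 *ᵥ v)) = _
  rw [mulVec_dotProduct_map, h, Matrix.one_mulVec]

theorem transpose_blockTwo {m : ℕ} (hm : 2 ≤ m) (M : Matrix (Fin 2) (Fin 2) F) :
    (blockTwo hm M)ᵀ = blockTwo hm Mᵀ := by
  simp [blockTwo, Matrix.coe_reindexAlgEquiv, Matrix.transpose_reindex,
    Matrix.fromBlocks_transpose]

theorem map_blockTwo {m : ℕ} (hm : 2 ≤ m) (σ : F →+* F) (M : Matrix (Fin 2) (Fin 2) F) :
    (blockTwo hm M).map σ = blockTwo hm (M.map σ) := by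
  simp [blockTwo, Matrix.coe_reindexAlgEquiv, Matrix.fromBlocks_map, Matrix.reindex_apply,
    ← Matrix.submatrix_map]

/-- If `|F| = q²` then `x ↦ x ^ q` is a ring endomorphism of order dividing two. -/
theorem exists_conj [Finite F] {q : ℕ} (hq : Nat.card F = q ^ 2) :
    2 ≤ q ∧ ∃ σ : F →+* F, (∀ x, σ x = x ^ q) ∧ ∀ x, σ (σ x) = x := by
  cases nonempty_fintype F
  rw [Nat.card_eq_fintype_card] at hq
  have h1 : 1 < Fintype.card F := Fintype.one_lt_card
  have h2 : 2 ≤ q := by
    rcases q with _ | _ | q <;> simp_all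
  obtain ⟨p, hp⟩ := CharP.exists F
  obtain ⟨k, hpp, hk⟩ := FiniteField.card F p
  obtain ⟨j, -, hj⟩ := (Nat.dvd_prime_pow hpp).mp (show q ∣ p ^ (k : ℕ) by
    rw [← hk, hq]; exact dvd_pow_self q two_ne_zero)
  have := Fact.mk hpp
  refine ⟨h2, iterateFrobenius F p j, fun x => by rw [iterateFrobenius_def, hj], fun x => ?_⟩
  rw [iterateFrobenius_def, iterateFrobenius_def, ← hj, ← pow_mul, ← sq, ← hq,
    FiniteField.pow_card]

theorem card_pow_add_self_le [Finite F] {q : ℕ} (hq2 : 2 ≤ q) :
    Nat.card {x : F // x ^ q + x = 0} ≤ q := by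
  classical
  cases nonempty_fintype F
  open Polynomial in
  have hne : (X ^ q + X : F[X]) ≠ 0 := fun h => by
    simpa [coeff_X, coeff_X_pow, show ¬ (1 = q) by omega] using congrArg (fun p => p.coeff 1) h
  rw [Nat.card_eq_fintype_card, Fintype.card_subtype]
  refine (Finset.card_le_card (t := (Polynomial.X ^ q + Polynomial.X : Polynomial F).roots.toFinset)
    fun x hx => ?_).trans ((Multiset.toFinset_card_le _).trans
      ((Polynomial.card_roots' _).trans ?_))
  · simpa [hne] using hx
  · refine (Polynomial.natDegree_add_le _ _).trans ?_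
    simp; omega

/-- The data of a two-dimensional hyperbolic hermitian plane. -/
theorem exists_hyperbolic_frame [Finite F] {q : ℕ} (hq : Nat.card F = q ^ 2) (σ : F →+* F)
    (hσ : ∀ x, σ x = x ^ q) (hσσ : ∀ x, σ (σ x) = x) :
    ∃ (P : Matrix (Fin 2) (Fin 2) F) (δ : F), P.det ≠ 0 ∧ Pᵀ * P.map σ = !![0, δ; -δ, 0] := by
  classical
  cases nonempty_fintype F
  rw [Nat.card_eq_fintype_card] at hq
  have hq2 : 2 ≤ q := by
    have h1 : 1 < Fintype.card F := Fintype.one_lt_card
    rcases q with _ | _ | q <;> simp_all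
  obtain ⟨g, hg⟩ := IsCyclic.exists_generator (α := Fˣ)
  have hord : orderOf g = q ^ 2 - 1 := by
    rw [orderOf_eq_card_of_forall_mem_zpowers hg, Nat.card_eq_fintype_card, Fintype.card_units, hq]
  have hfac : q ^ 2 - 1 = (q + 1) * (q - 1) := by
    have := Nat.sq_sub_sq q 1
    simpa using this
  obtain ⟨j, hj⟩ : ∃ j : ℕ, g ^ j = -1 :=
    (Submonoid.mem_powers_iff _ _).mp (mem_powers_iff_mem_zpowers.mpr (hg _))
  have hneg : ((-1 : Fˣ)) ^ (q - 1) = 1 := by
    have h := congrArg (· ^ (q - 1)) (show ((-1 : F)) = -1 from rfl)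
    have hσ1 : σ (-1) = -1 := by simp
    rw [hσ] at hσ1
    apply Units.ext
    simp only [Units.val_pow_eq_pow_val, Units.val_neg, Units.val_one]
    have e : (-1 : F) ^ (q - 1) * (-1) = -1 := by
      rw [← pow_succ, show q - 1 + 1 = q by omega, hσ1]
    linear_combination -e
  have hdvd : q + 1 ∣ j := by
    rw [← hj, ← pow_mul, ← orderOf_dvd_iff_pow_eq_one, hord, hfac] at hneg
    exact Nat.dvd_of_mul_dvd_mul_right (by omega) hneg
  obtain ⟨i, rfl⟩ := hdvd
  set ε : F := ((g ^ i : Fˣ) : F) with hε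
  set ν : F := ((g ^ i * g ^ (q - 1) : Fˣ) : F) with hν
  have hεn : ε * σ ε = -1 := by
    rw [hσ, ← pow_succ', hε, ← Units.val_pow_eq_pow_val, ← pow_mul, mul_comm i, hj]
    simp
  have hνn : ν * σ ν = -1 := by
    rw [hσ, ← pow_succ', hν, ← Units.val_pow_eq_pow_val, mul_pow, ← pow_mul, ← pow_mul,
      mul_comm i, hj, mul_comm (q - 1), ← hfac, ← hord, pow_orderOf_eq_one]
    simp
  have hne : ε ≠ ν := by
    intro h
    have h1 : g ^ (q - 1) = 1 := by
      have h2 : g ^ i * 1 = g ^ i * g ^ (q - 1) := by rw [mul_one]; exact Units.ext h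
      exact (mul_left_cancel h2).symm
    have := Nat.le_of_dvd (by omega) (orderOf_dvd_of_pow_eq_one h1)
    rw [hord, hfac] at this
    nlinarith [show 1 ≤ q - 1 by omega]
  obtain ⟨δ, hδ0, hδ⟩ : ∃ δ : F, δ ≠ 0 ∧ σ δ = -δ := by
    obtain ⟨x, hx⟩ : ∃ x : F, x ^ q + -x ≠ 0 := by
      by_contra hall
      push Not at hall
      open Polynomial in
      have h0 : (X ^ q - X : F[X]) = 0 := by
        refine Polynomial.eq_zero_of_natDegree_lt_card_of_eval_eq_zero' _ Finset.univ
          (fun x _ => by simpa [sub_eq_add_neg] using hall x) ?_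
        rw [Finset.card_univ, hq]
        refine lt_of_le_of_lt (natDegree_sub_le _ _) ?_
        simp
        exact ⟨by nlinarith, by nlinarith⟩
      simpa [Polynomial.coeff_X, Polynomial.coeff_X_pow, show ¬ (1 = q) by omega] using congrArg (fun p => p.coeff 1) h0
    refine ⟨x ^ q + -x, hx, ?_⟩
    rw [← hσ, map_add, map_neg, hσσ]
    ring
  set s : F := 1 + ε * σ ν with hs
  have hs0 : s ≠ 0 := by
    intro h
    have h1 : ε * σ ν = ε * σ ε := by rw [hεn]; linear_combination h
    have hε0 : ε ≠ 0 := Units.ne_zero _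
    exact hne (σ.injective (mul_left_cancel₀ hε0 h1)).symm
  set c : F := σ (δ / s) with hc
  have hc0 : c ≠ 0 := by
    rw [hc]; exact (map_ne_zero σ).mpr (div_ne_zero hδ0 hs0)
  refine ⟨!![1, c; ε, c * ν], δ, ?_, ?_⟩
  · rw [Matrix.det_fin_two_of]
    intro h
    exact hne (mul_left_cancel₀ hc0 (by linear_combination -h))
  · have e1 : σ c * s = δ := by rw [hc, hσσ]; exact div_mul_cancel₀ δ hs0
    have e2 : c * σ s = -δ := by
      have := congrArg σ e1
      rw [map_mul, hσσ, hδ] at this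
      exact this
    rw [hs, map_add, map_one, map_mul, hσσ] at e2
    rw [hs] at e1
    ext a b
    fin_cases a <;> fin_cases b <;>
      simp [Matrix.mul_apply, Fin.sum_univ_two, map_mul]
    · linear_combination hεn
    · linear_combination e1
    · linear_combination e2
    · linear_combination c * σ c * hνn

/-- A non-trivial word is a law of `SU_n(q)'` only for bounded `n` and `q`. -/
theorem exists_bound_SU.{u} (w : FreeGroup ℕ) (hw : w ≠ 1) :
    ∃ N : ℕ, ∀ (F : Type u) [Field F] [Finite F] (n q : ℕ), Nat.card F = q ^ 2 → 2 ≤ n →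
      IsLaw w ↥(Cfsg.SU n F q) → q < N ∧ n < N := by
  obtain ⟨N₁, h₁⟩ := exists_sl2_lift_ne_one.{0, u} w hw
  obtain ⟨N₂, h₂⟩ := exists_alternating_not_law w hw
  refine ⟨max N₁ (max N₂ 5), fun F _ _ n q hq hn hlaw => ?_⟩
  obtain ⟨hq2, σ, hσ, hσσ⟩ := exists_conj hq
  refine ⟨?_, ?_⟩
  · by_contra hcon
    obtain ⟨P, δ, hP, hH⟩ := exists_hyperbolic_frame hq σ hσ hσσ
    let K : Subfield F := RingHom.eqLocusField σ (RingHom.id F)
    have hK : q ≤ Nat.card K := by
      let tr : F →+ K :=
        { toFun := fun x => ⟨σ x + x, by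
            show σ (σ x + x) = σ x + x
            rw [map_add, hσσ, add_comm]⟩
          map_zero' := Subtype.ext (by simp)
          map_add' := fun x y => Subtype.ext (by simp; ring) }
      have h1 : Nat.card F = Nat.card tr.range * Nat.card tr.ker := by
        rw [← AddSubgroup.index_ker, AddSubgroup.index_mul_card]
      have h2 : Nat.card tr.ker ≤ q := by
        refine le_trans (le_of_eq (Nat.card_congr (Equiv.subtypeEquivRight fun x => ?_)))
          (card_pow_add_self_le (F := F) hq2)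
        show x ∈ tr.ker ↔ x ^ q + x = 0
        rw [← hσ, AddMonoidHom.mem_ker]
        exact Subtype.ext_iff
      have h3 : Nat.card tr.range ≤ Nat.card K :=
        Nat.card_le_card_of_injective _ Subtype.val_injective
      have h4 : q ^ 2 ≤ Nat.card K * q := hq ▸ h1 ▸ Nat.mul_le_mul h3 h2
      nlinarith
    obtain ⟨f, hf, -⟩ := h₁ K (by omega)
    have hu : IsUnit P.det := isUnit_iff_ne_zero.mpr hP
    let P' : GL (Fin 2) F := Matrix.GeneralLinearGroup.mkOfDetNeZero P hP
    let φ₂ : SL(2, K) →* SL(2, F) :=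
      { toFun := fun M => ⟨P * M.1.map K.subtype * P⁻¹, by
          rw [Matrix.det_mul_right_comm, Matrix.mul_nonsing_inv _ hu, Matrix.one_mul,
            ← RingHom.mapMatrix_apply, ← RingHom.map_det, M.2, map_one]⟩
        map_one' := Subtype.ext (by
          simp [Matrix.map_one, Matrix.mul_nonsing_inv _ hu])
        map_mul' := fun A B => Subtype.ext (by
          show P * (A.1 * B.1).map K.subtype * P⁻¹ =
            (P * A.1.map K.subtype * P⁻¹) * (P * B.1.map K.subtype * P⁻¹)
          simp only [Matrix.map_mul, Matrix.mul_assoc, Matrix.nonsing_inv_mul_cancel_left _ _ hu]) }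
    have hmem : ∀ M, twoSL hn (φ₂ M) ∈ Cfsg.SU n F q := by
      intro M
      refine mem_SU_of_transpose_mul_map σ hσ _ ?_
      show (blockTwo hn _)ᵀ * (blockTwo hn _).map σ = 1
      rw [transpose_blockTwo, map_blockTwo, ← blockTwo_mul, ← blockTwo_one hn]
      congr 1
      show (P * M.1.map K.subtype * P⁻¹)ᵀ * (P * M.1.map K.subtype * P⁻¹).map σ = 1
      have hfix : (M.1.map K.subtype).map σ = M.1.map K.subtype := by
        ext a b
        exact (M.1 a b).2
      have hM : (M.1.map K.subtype)ᵀ * !![0, δ; -δ, 0] * M.1.map K.subtype = !![0, δ; -δ, 0] := by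
        have hd : (M.1 0 0 : F) * M.1 1 1 - M.1 0 1 * M.1 1 0 = 1 := by
          have := congrArg K.subtype ((Matrix.det_fin_two M.1).symm.trans M.2)
          simpa using this
        ext a b
        fin_cases a <;> fin_cases b <;> simp [Matrix.mul_apply, Fin.sum_univ_two]
        · ring
        · linear_combination δ * hd
        · linear_combination -δ * hd
        · ring
      have hu' : IsUnit (P.map σ).det := by
        rw [← RingHom.mapMatrix_apply, ← RingHom.map_det]
        exact hu.map σ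
      have hinv : (P⁻¹).map σ = (P.map σ)⁻¹ := by
        symm
        apply Matrix.inv_eq_left_inv
        rw [← Matrix.map_mul, Matrix.nonsing_inv_mul _ hu, Matrix.map_one _ (map_zero σ) (map_one σ)]
      rw [Matrix.map_mul, Matrix.map_mul, hfix, hinv, Matrix.transpose_mul, Matrix.transpose_mul]
      calc (P⁻¹)ᵀ * ((M.1.map K.subtype)ᵀ * Pᵀ) * (P.map σ * M.1.map K.subtype * (P.map σ)⁻¹)
          = (P⁻¹)ᵀ * ((M.1.map K.subtype)ᵀ * (Pᵀ * P.map σ) * M.1.map K.subtype) * (P.map σ)⁻¹ := by
            simp only [Matrix.mul_assoc]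
        _ = (P⁻¹)ᵀ * (Pᵀ * P.map σ) * (P.map σ)⁻¹ := by rw [hH, hM]
        _ = ((P⁻¹)ᵀ * Pᵀ) * (P.map σ * (P.map σ)⁻¹) := by simp only [Matrix.mul_assoc]
        _ = 1 := by
            rw [← Matrix.transpose_mul, Matrix.mul_nonsing_inv _ hu, Matrix.mul_nonsing_inv _ hu',
              Matrix.transpose_one, Matrix.one_mul]
    have hinj : Function.Injective φ₂ := by
      intro A B h
      have h1 : P * A.1.map K.subtype * P⁻¹ = P * B.1.map K.subtype * P⁻¹ :=
        congrArg Subtype.val h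
      have h2 := congrArg (fun X => P⁻¹ * X * P) h1
      simp only [← Matrix.mul_assoc, Matrix.nonsing_inv_mul _ hu, Matrix.one_mul] at h2
      rw [Matrix.mul_assoc, Matrix.nonsing_inv_mul _ hu, Matrix.mul_one, Matrix.mul_assoc,
        Matrix.nonsing_inv_mul _ hu, Matrix.mul_one] at h2
      exact Subtype.ext (Matrix.map_injective Subtype.val_injective h2)
    exact hf (IsLaw.of_injective hlaw (((twoSL hn).comp φ₂).codRestrict _ hmem)
      (fun a b h => hinj (twoSL_injective hn (congrArg Subtype.val h))) f)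
  · by_contra hcon
    refine h₂ n (by omega) (IsLaw.of_injective hlaw
      ((altSL n F).codRestrict _ fun π => ?_) fun a b h => altSL_injective (congrArg Subtype.val h))
    refine mem_SU_of_transpose_mul_map σ hσ _ ?_
    show ((π.1)⁻¹.permMatrix F)ᵀ * ((π.1)⁻¹.permMatrix F).map σ = 1
    have h1 : ((π.1)⁻¹.permMatrix F).map σ = (π.1)⁻¹.permMatrix F := by
      ext a b
      simp [PEquiv.toMatrix_apply, apply_ite σ]
    rw [h1, Matrix.transpose_permMatrix, ← Matrix.permMatrix_mul]
    simp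

end Cfsg.Agent.H53
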